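import Cfsg.Agent.OddCyclic.FFRed
import Cfsg.Agent.OddCyclic.CompBasic

/-!
# (Empty), natural `L₂(q)`: the pure module statement

Section 5 of blueprints/S0342-Empty-NS-helper347.md. `H` acts faithfully on the elementary abelian 2-group `V`.

* `PP f l e`: `l ^ (e + 1)` is a primitive prime power of `2 ^ f - 1`;
* `dvd_sub`, `exists_pow`: an automorphism of order `l ^ (e + 1)`;
* `Dat`: the data produced by the frame; `Cfg`: what is used of it; `exists_cfg`.
-/

set_option autoImplicit false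
set_option linter.unusedSectionVars false

namespace Cfsg.Agent.OddCyclic.EmpF

open Subgroup Cfsg.Agent.OddCyclic.T1Module Cfsg.Agent.OddCyclic.FFBasic Cfsg.Agent.OddCyclic.FFRed

/-! ### primitive prime powers -/

/-- `l ^ (e + 1)` is a primitive prime power of `2 ^ f - 1` -/
structure PP (f l e : ℕ) : Prop where
  prime : l.Prime
  odd : l ≠ 2
  dvd : l ^ (e + 1) ∣ 2 ^ f - 1
  prim : ∀ d, l ^ (e + 1) ∣ 2 ^ d - 1 → f ∣ d
  one : e = 0 ∨ l = 3

theorem exists_pp {f : ℕ} (hf : 2 ≤ f) : ∃ l e, PP f l e := by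
  by_cases h6 : f = 6
  · subst h6
    refine ⟨3, 1, Nat.prime_three, by norm_num, by norm_num, fun d hd => ?_, Or.inr rfl⟩
    have h1 : (2 ^ d) % 9 = 1 := by
      have h2 : 1 ≤ 2 ^ d := Nat.one_le_two_pow
      have h3 : 9 ∣ 2 ^ d - 1 := by simpa using hd
      omega
    have h2 : ∀ r < 6, (2 ^ r) % 9 = 1 → r = 0 := by decide
    have h3 : (2 ^ (d % 6)) % 9 = 1 := by
      have h4 : 2 ^ d = (2 ^ 6) ^ (d / 6) * 2 ^ (d % 6) := by
        rw [← pow_mul, ← pow_add, Nat.div_add_mod]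
      rw [h4, Nat.mul_mod, Nat.pow_mod] at h1
      norm_num at h1
      exact h1
    exact Nat.dvd_of_mod_eq_zero (h2 _ (Nat.mod_lt _ (by norm_num)) h3)
  · obtain ⟨l, hl, h1, -, h3⟩ := Lib.Zsigmondy.exists_primitive (a := 2) (n := f) le_rfl hf
      (by
        rintro - ⟨k, hk⟩
        rcases k with _ | _ | k
        · norm_num at hk
        · norm_num at hk
        · have : 1 ≤ 2 ^ k := Nat.one_le_two_pow
          rw [pow_succ, pow_succ] at hk
          omega) (fun h => h6 h.2)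
    refine ⟨l, 0, hl, ?_, ?_, fun d hd => ?_, Or.inl rfl⟩
    · rintro rfl
      exact h3 dvd_rfl
    · rw [zero_add, pow_one]
      exact (h1 f).2 dvd_rfl
    · rw [zero_add, pow_one] at hd
      exact (h1 d).1 hd

theorem PP.odd_pow {f l e : ℕ} (h : PP f l e) : Odd (l ^ (e + 1)) := (h.prime.odd_of_ne_two h.odd).pow

theorem PP.coprime {f l e : ℕ} (h : PP f l e) (b : ℕ) : Nat.Coprime (l ^ (e + 1)) (2 ^ b) :=
  Nat.Coprime.pow _ _ ((Nat.coprime_primes h.prime Nat.prime_two).2 h.odd)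

/-! ### automorphisms of order `l ^ (e + 1)` -/

section auto

variable {K : Type*} [Group K]

/-- the fixed points of `β` in `C` -/
def fixed (C : Subgroup K) (β : MulAut K) : Subgroup K where
  carrier := {c | c ∈ C ∧ β c = c}
  mul_mem' := by
    rintro a b ⟨ha, ha'⟩ ⟨hb, hb'⟩
    exact ⟨mul_mem ha hb, by rw [map_mul, ha', hb']⟩
  one_mem' := ⟨one_mem _, map_one _⟩
  inv_mem' := by
    rintro a ⟨ha, ha'⟩
    exact ⟨inv_mem ha, by rw [map_inv, ha']⟩

theorem mem_fixed {C : Subgroup K} {β : MulAut K} {c : K} : c ∈ fixed C β ↔ c ∈ C ∧ β c = c := Iff.rfl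

theorem fixed_le (C : Subgroup K) (β : MulAut K) : fixed C β ≤ C := fun _ h => h.1

/-- an automorphism of order `l ^ (e + 1)` acts semiregularly outside the fixed points of its power of order `l` -/
theorem dvd_sub {l e : ℕ} (hl : l.Prime) {α : MulAut K} (hα : α ^ l ^ (e + 1) = 1) {C : Subgroup K} [Finite C]
    (hC : ∀ c ∈ C, α c ∈ C) : l ^ (e + 1) ∣ Nat.card C - Nat.card (fixed C (α ^ l ^ e)) := by
  classical
  have hlf : Fact l.Prime := ⟨hl⟩
  by_cases hβ : α ^ l ^ e = 1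
  · have h1 : fixed C (α ^ l ^ e) = C := by
      rw [hβ]
      exact le_antisymm (fixed_le _ _) fun c hc => ⟨hc, rfl⟩
    rw [h1, Nat.sub_self]
    exact dvd_zero _
  have hord : orderOf α = l ^ (e + 1) := orderOf_eq_prime_pow hβ hα
  obtain ⟨β, hβd⟩ : ∃ β, β = α ^ l ^ e := ⟨_, rfl⟩
  rw [← hβd]
  have hβo : orderOf β = l := by
    rw [hβd]
    refine orderOf_eq_prime ?_ hβ
    rw [← pow_mul, ← pow_succ]; exact hα
  have hfin : Finite (zpowers α) := Nat.finite_of_card_ne_zero (by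
    rw [Nat.card_zpowers, hord]; exact pow_ne_zero _ hl.ne_zero)
  have hcomm : ∀ γ ∈ zpowers α, γ * β = β * γ := by
    rintro _ ⟨n, rfl⟩
    have h1 : Commute α (α ^ l ^ e) := Commute.self_pow α _
    rw [hβd]
    exact (h1.zpow_left n).eq
  -- all elements of `⟨α⟩` preserve `C`
  have hst : ∀ γ ∈ zpowers α, ∀ c ∈ C, γ c ∈ C := by
    have h1 : ∀ n : ℕ, ∀ c ∈ C, (α ^ n) c ∈ C := by
      intro n
      induction n with
      | zero => intro c hc; exact hc
      | succ n ih =>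
        intro c hc
        rw [pow_succ', MulAut.mul_apply]
        exact hC _ (ih c hc)
    intro γ hγ c hc
    have hγ' : γ ∈ Submonoid.powers α := by
      have hfo : IsOfFinOrder α := orderOf_pos_iff.1 (by rw [hord]; exact pow_pos hl.pos _)
      exact hfo.mem_powers_iff_mem_zpowers.2 hγ
    obtain ⟨n, rfl⟩ := hγ'
    exact h1 n c hc
  let X := {c : C // β c ≠ c}
  let _ : MulAction (zpowers α) X :=
    { smul := fun γ x => ⟨⟨(γ : MulAut K) x.1.1, hst γ γ.2 _ x.1.2⟩, by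
        intro h
        apply x.2
        apply (γ : MulAut K).injective
        have h1 : β ((γ : MulAut K) x.1.1) = (γ : MulAut K) x.1.1 := h
        rw [← MulAut.mul_apply, ← hcomm γ γ.2, MulAut.mul_apply] at h1
        exact h1⟩
      one_smul := fun x => Subtype.ext (Subtype.ext rfl)
      mul_smul := fun d e x => Subtype.ext (Subtype.ext rfl) }
  have h1 : Nat.card (zpowers α) ∣ Nat.card X := by
    refine card_dvd_of_free fun x γ hγ => ?_
    by_contra hne
    have hγ1 : (γ : MulAut K) x.1.1 = x.1.1 := congrArg (fun y : X => (y.1.1 : K)) hγ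
    have hγne : (γ : MulAut K) ≠ 1 := fun h => hne (Subtype.ext h)
    -- a power of `γ` of order `l`
    have hdvd : orderOf (γ : MulAut K) ∣ l ^ (e + 1) := by
      rw [← hord]; exact orderOf_dvd_of_mem_zpowers γ.2
    obtain ⟨j, -, hj⟩ := (Nat.dvd_prime_pow hl).1 hdvd
    have hj0 : j ≠ 0 := by
      rintro rfl
      rw [pow_zero, orderOf_eq_one_iff] at hj
      exact hγne hj
    obtain ⟨i, rfl⟩ := Nat.exists_eq_succ_of_ne_zero hj0
    have hγo : orderOf ((γ : MulAut K) ^ l ^ i) = l := by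
      rw [orderOf_pow' _ (pow_ne_zero _ hl.ne_zero), hj, Nat.gcd_eq_right (pow_dvd_pow l (Nat.le_succ i)), pow_succ,
        Nat.mul_div_cancel_left _ (pow_pos hl.pos i)]
    have h2 : zpowers ((γ : MulAut K) ^ l ^ i) = zpowers β := by
      have h3 : zpowers (γ ^ l ^ i) = zpowers (⟨β, by rw [hβd]; exact pow_mem (mem_zpowers α) _⟩ : zpowers α) :=
        CompBasic.zpowers_eq_of_cyclic (by
          rw [← Subgroup.orderOf_coe, Subgroup.coe_pow, hγo, Subgroup.orderOf_mk, hβo])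
      have h4 := congrArg (Subgroup.map (zpowers α).subtype) h3
      rw [MonoidHom.map_zpowers, MonoidHom.map_zpowers] at h4
      exact h4
    have h3 : ∀ δ ∈ zpowers ((γ : MulAut K) ^ l ^ i), δ x.1.1 = x.1.1 := by
      have h4 : zpowers ((γ : MulAut K) ^ l ^ i) ≤ MulAction.stabilizer (MulAut K) (x.1.1 : K) := by
        rw [zpowers_le]
        refine pow_mem ?_ _
        exact hγ1
      intro δ hδ
      exact h4 hδ
    exact x.2 (h3 β (by rw [h2]; exact mem_zpowers β))
  rw [Nat.card_zpowers, hord] at h1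
  have h2 : Nat.card X = Nat.card C - Nat.card (fixed C β) := by
    have hfC : Fintype C := Fintype.ofFinite C
    have h3 : Nat.card (fixed C β) = Nat.card {c : C // β c = c} := by
      refine Nat.card_congr ⟨fun c => ⟨⟨c.1, c.2.1⟩, c.2.2⟩, fun c => ⟨c.1.1, c.1.2, c.2⟩, fun _ => rfl, fun _ => rfl⟩
    rw [h3, Nat.card_eq_fintype_card, Nat.card_eq_fintype_card, Nat.card_eq_fintype_card,
      Fintype.card_subtype_compl]
  rwa [h2] at h1

/-- the same for a 2-group -/
theorem exists_pow {f l e : ℕ} (hp : PP f l e) {α : MulAut K} (hα : α ^ l ^ (e + 1) = 1) {C : Subgroup K} [Finite C]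
    (hC : ∀ c ∈ C, α c ∈ C) (h2 : IsPGroup 2 C) :
    ∃ b k, Nat.card (fixed C (α ^ l ^ e)) = 2 ^ b ∧ Nat.card C = 2 ^ (b + f * k) := by
  have hf : Fact (Nat.Prime 2) := ⟨Nat.prime_two⟩
  have hfin : Finite (fixed C (α ^ l ^ e)) := Finite.of_injective _ (inclusion_injective (fixed_le C (α ^ l ^ e)))
  obtain ⟨a, ha⟩ := (IsPGroup.iff_card (p := 2)).1 h2
  obtain ⟨b, hb⟩ := (IsPGroup.iff_card (p := 2)).1 (h2.to_le (fixed_le C (α ^ l ^ e)))
  have h1 := dvd_sub hp.prime hα hC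
  rw [ha, hb] at h1
  have hle : b ≤ a := by
    have h3 : Nat.card (fixed C (α ^ l ^ e)) ≤ Nat.card C := Nat.card_le_card_of_injective _
      (inclusion_injective (fixed_le C (α ^ l ^ e)))
    rw [ha, hb] at h3
    exact (Nat.pow_le_pow_iff_right (by norm_num)).1 h3
  obtain ⟨d, rfl⟩ := Nat.exists_eq_add_of_le hle
  have h4 : 2 ^ (b + d) - 2 ^ b = 2 ^ b * (2 ^ d - 1) := by
    rw [Nat.mul_sub, mul_one, pow_add]
  rw [h4] at h1
  obtain ⟨k, rfl⟩ := hp.prim d ((hp.coprime b).dvd_of_dvd_mul_left h1)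
  exact ⟨b, k, hb, ha⟩

/-- if the power of order `l` acts nontrivially -/
theorem pow_le {f l e : ℕ} (hp : PP f l e) {α : MulAut K} (hα : α ^ l ^ (e + 1) = 1) {C : Subgroup K} [Finite C]
    (hC : ∀ c ∈ C, α c ∈ C) (h2 : IsPGroup 2 C) (hne : ∃ c ∈ C, (α ^ l ^ e) c ≠ c) :
    2 ^ f * Nat.card (fixed C (α ^ l ^ e)) ≤ Nat.card C := by
  obtain ⟨b, k, h3, h4⟩ := exists_pow hp hα hC h2
  rw [h3, h4]
  have hk : k ≠ 0 := by
    rintro rfl
    obtain ⟨c, hc, hcne⟩ := hne
    apply hcne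
    have h5 : fixed C (α ^ l ^ e) = C := by
      refine Subgroup.eq_of_le_of_card_ge (fixed_le _ _) ?_
      rw [h3, h4]; simp
    have h6 : c ∈ fixed C (α ^ l ^ e) := by rw [h5]; exact hc
    exact h6.2
  rw [← pow_add]
  refine Nat.pow_le_pow_right (by norm_num) ?_
  have : f * 1 ≤ f * k := Nat.mul_le_mul_left f (Nat.one_le_iff_ne_zero.2 hk)
  omega

end auto

end Cfsg.Agent.OddCyclic.EmpF
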