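import Cfsg.Agent.OddCyclic.EmpF.Basic

/-!
# (Empty), natural `L₂(q)`: the data

* `Dat`: the data produced by the frame (section 5.1, 5.2 of blueprints/S0342-Empty-NS-helper347.md);
* `Cfg`: what is used of it to find the component; `exists_cfg`.
-/

set_option autoImplicit false
set_option linter.unusedSectionVars false

namespace Cfsg.Agent.OddCyclic.EmpF

open Subgroup Cfsg.Agent.OddCyclic.T1Module Cfsg.Agent.OddCyclic.FFBasic Cfsg.Agent.OddCyclic.FFRed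

variable {H : Type*} [Group H] {V : Type*} [CommGroup V] {ρ : H →* MulAut V}

/-- the data produced by the frame: `h` is a Singer cycle of `W/F`, trivial on `F`; the 2-group `D` centralises `F` and
`W/F` -/
structure Dat (ρ : H →* MulAut V) (f : ℕ) (h : H) (D : Subgroup H) (F W : Subgroup V) : Prop where
  f2 : 2 ≤ f
  hq : h ^ (2 ^ f - 1) = 1
  pg : IsPGroup 2 D
  nm : ∀ d ∈ D, h * d * h⁻¹ ∈ D
  hF : ∀ x ∈ F, ρ h x = x
  DF : ∀ d ∈ D, ∀ x ∈ F, ρ d x = x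
  F_ne : F ≠ ⊥
  FW : F ≤ W
  hW : ∀ w ∈ W, ρ h w ∈ W
  DW : ∀ d ∈ D, ∀ w ∈ W, ρ d w * w⁻¹ ∈ F
  cW : F.relIndex W = 2 ^ f
  iW : W.index ≤ 2 ^ (f - 1)
  reg : ∀ w ∈ W, w ∉ F → ∀ i : ℕ, ρ (h ^ i) w * w⁻¹ ∈ F → 2 ^ f - 1 ∣ i
  ne : ∃ d ∈ D, ∃ w ∈ W, ρ d w ≠ w

/-- `s` of order `l ^ (e + 1)`, `y = s ^ l ^ e` of order `l`, `E` a 2-group with `[E, y] = E`, `s`-invariant -/
structure Cfg (ρ : H →* MulAut V) (f l e : ℕ) (s : H) (E : Subgroup H) : Prop where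
  pp : PP f l e
  f2 : 2 ≤ f
  ord : s ^ l ^ (e + 1) = 1
  idx : (fx ρ (s ^ l ^ e)).index = 2 ^ f
  pg : IsPGroup 2 E
  nm : ∀ x ∈ E, s * x * s⁻¹ ∈ E
  comm : ∀ X : Subgroup H, X.Normal → (∀ a ∈ E, a * s ^ l ^ e * a⁻¹ * (s ^ l ^ e)⁻¹ ∈ X) → E ≤ X
  ne : ∃ a ∈ E, a * s ^ l ^ e ≠ s ^ l ^ e * a
  cod : (CS ρ E).index ≤ 2 ^ (2 * f - 1)

/-! ### small lemmas -/

theorem rho_pow_mem {W : Subgroup V} {h : H} (hW : ∀ w ∈ W, ρ h w ∈ W) (n : ℕ) : ∀ w ∈ W, ρ (h ^ n) w ∈ W := by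
  induction n with
  | zero => intro w hw; rw [pow_zero, map_one]; exact hw
  | succ n ih =>
    intro w hw
    rw [pow_succ', map_mul, MulAut.mul_apply]
    exact hW _ (ih w hw)

theorem conj_pow_mem {D : Subgroup H} {h : H} (hD : ∀ d ∈ D, h * d * h⁻¹ ∈ D) (n : ℕ) :
    ∀ d ∈ D, h ^ n * d * (h ^ n)⁻¹ ∈ D := by
  induction n with
  | zero => intro d hd; simpa using hd
  | succ n ih =>
    intro d hd
    have h1 : h ^ (n + 1) * d * (h ^ (n + 1))⁻¹ = h * (h ^ n * d * (h ^ n)⁻¹) * h⁻¹ := by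
      rw [pow_succ']; group
    rw [h1]
    exact hD _ (ih d hd)

/-- a 2-element `c` commuting with `y`, with `c y` conjugate to `y` of odd order, is trivial -/
theorem eq_one_of_comm {a y : H} {l : ℕ} (hl : Odd l) (hy : y ^ l = 1) (h2 : ∃ n : ℕ, (a * y * a⁻¹ * y⁻¹) ^ 2 ^ n = 1)
    (hc : a * y * a⁻¹ * y⁻¹ * y = y * (a * y * a⁻¹ * y⁻¹)) : a * y = y * a := by
  obtain ⟨c, hcd⟩ : ∃ c, c = a * y * a⁻¹ * y⁻¹ := ⟨_, rfl⟩
  rw [← hcd] at h2 hc
  have h3 : a * y * a⁻¹ = c * y := by rw [hcd]; group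
  have h4 : (a * y * a⁻¹) ^ l = 1 := by rw [conj_pow, hy]; group
  rw [h3, (show Commute c y from hc).mul_pow, hy, mul_one] at h4
  obtain ⟨n, hn⟩ := h2
  have h5 : orderOf c ∣ l := orderOf_dvd_of_pow_eq_one h4
  have h6 : orderOf c ∣ 2 ^ n := orderOf_dvd_of_pow_eq_one hn
  have h7 : orderOf c = 1 := Nat.eq_one_of_dvd_coprimes
    (Nat.Coprime.pow_right n (Nat.coprime_two_right.2 hl)) h5 h6
  rw [orderOf_eq_one_iff.1 h7, one_mul] at h3
  exact mul_inv_eq_iff_eq_mul.1 h3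

variable {f : ℕ} {h : H} {D : Subgroup H} {F W : Subgroup V}

namespace Dat

theorem index_F (d : Dat ρ f h D F W) : F.index ≤ 2 ^ (2 * f - 1) := by
  have h1 := Subgroup.relIndex_mul_index d.FW
  rw [d.cW] at h1
  rw [← h1]
  have h2 := d.f2
  calc 2 ^ f * W.index ≤ 2 ^ f * 2 ^ (f - 1) := Nat.mul_le_mul_left _ d.iW
    _ = 2 ^ (2 * f - 1) := by rw [← pow_add]; congr 1; omega

theorem exists_not_mem (d : Dat ρ f h D F W) : ∃ w ∈ W, w ∉ F := by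
  by_contra hcon
  push Not at hcon
  have h1 : F.relIndex W = 1 := Subgroup.relIndex_eq_one.2 hcon
  rw [d.cW] at h1
  have h2 : 2 ^ 1 ≤ 2 ^ f := Nat.pow_le_pow_right (by norm_num) (by have := d.f2; omega)
  omega

theorem hF_pow (d : Dat ρ f h D F W) (n : ℕ) : ∀ x ∈ F, ρ (h ^ n) x = x := fun _ hx =>
  fx_pow ρ (show _ ∈ fx ρ h from d.hF _ hx) n

/-- an element `y` of `⟨h⟩` of odd order, without fixed points on `W/F`, does not centralise `D` -/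
theorem exists_ne (d : Dat ρ f h D F W) (hV : ∀ v : V, v * v = 1) {m l : ℕ} (hl : Odd l) (hy : (h ^ m) ^ l = 1)
    (hfp : ∀ w ∈ W, ρ (h ^ m) w * w⁻¹ ∈ F → w ∈ F) : ∃ a ∈ D, a * h ^ m ≠ h ^ m * a := by
  by_contra hcon
  push Not at hcon
  obtain ⟨y, hyd⟩ : ∃ y, y = h ^ m := ⟨_, rfl⟩
  rw [← hyd] at hy hfp hcon
  have hyW : ∀ w ∈ W, ρ y w ∈ W := by rw [hyd]; exact rho_pow_mem d.hW m
  have hyF : ∀ x ∈ F, ρ y x = x := by rw [hyd]; exact d.hF_pow m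
  obtain ⟨a, ha, w₀, hw₀, hne⟩ := d.ne
  apply hne
  -- `a` fixes `[W, y]`
  have h1 : ∀ w ∈ W, ρ y w * w⁻¹ ∈ fx ρ a := by
    intro w hw
    have h2 := hyF _ (d.DW a ha w hw)
    have h3 : ρ y (ρ a w) = ρ a (ρ y w) := by
      rw [← MulAut.mul_apply, ← MulAut.mul_apply, ← map_mul, ← map_mul, hcon a ha]
    rw [map_mul, map_inv, h3] at h2
    rw [mem_fx, map_mul, map_inv]
    calc ρ a (ρ y w) * (ρ a w)⁻¹ = (ρ a (ρ y w) * (ρ y w)⁻¹) * ρ y w * (ρ a w)⁻¹ := by group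
      _ = (ρ a w * w⁻¹) * ρ y w * (ρ a w)⁻¹ := by rw [h2]
      _ = ρ y w * w⁻¹ * (ρ a w * (ρ a w)⁻¹) := by
        rw [mul_comm (ρ a w) w⁻¹, mul_comm (ρ y w) w⁻¹, mul_assoc w⁻¹, mul_comm (ρ a w) (ρ y w), ← mul_assoc w⁻¹,
          mul_assoc]
      _ = ρ y w * w⁻¹ := by rw [mul_inv_cancel, mul_one]
  -- hence `ρ (y ^ i) w ≡ w`
  have h2 : ∀ i : ℕ, ρ (y ^ i) w₀ * w₀⁻¹ ∈ fx ρ a := by
    intro i
    induction i with
    | zero => rw [pow_zero, map_one]; simp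
    | succ i ih =>
      have h3 := mul_mem (h1 _ (rho_pow_mem hyW i w₀ hw₀)) ih
      have h4 : ρ y (ρ (y ^ i) w₀) * (ρ (y ^ i) w₀)⁻¹ * (ρ (y ^ i) w₀ * w₀⁻¹) = ρ (y ^ (i + 1)) w₀ * w₀⁻¹ := by
        rw [pow_succ', map_mul, MulAut.mul_apply]; group
      rwa [h4] at h3
  obtain ⟨N, hN⟩ : ∃ N, N = ∏ i ∈ Finset.range l, ρ (y ^ i) w₀ := ⟨_, rfl⟩
  have h3 : N * (w₀ ^ l)⁻¹ ∈ fx ρ a := by
    have h4 : N * (w₀ ^ l)⁻¹ = ∏ i ∈ Finset.range l, (ρ (y ^ i) w₀ * w₀⁻¹) := by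
      rw [Finset.prod_mul_distrib, Finset.prod_const, Finset.card_range, hN, inv_pow]
    rw [h4]
    exact prod_mem fun i _ => h2 i
  -- the norm lies in `F`
  have h5 : ρ y N = N := by
    have h6 : ρ y N = ∏ i ∈ Finset.range l, ρ (y ^ (i + 1)) w₀ := by
      rw [hN, map_prod]
      refine Finset.prod_congr rfl fun i _ => ?_
      rw [← MulAut.mul_apply, ← map_mul, ← pow_succ']
    have h7 := Finset.prod_range_succ (fun i => ρ (y ^ i) w₀) l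
    have h8 := Finset.prod_range_succ' (fun i => ρ (y ^ i) w₀) l
    rw [h7] at h8
    simp only [hy, pow_zero, map_one, MulAut.one_apply] at h8
    rw [h6, hN]
    exact (mul_right_cancel h8).symm
  have hNW : N ∈ W := by
    rw [hN]
    exact prod_mem fun i _ => rho_pow_mem hyW i w₀ hw₀
  have h6 : N ∈ F := hfp N hNW (by rw [h5, mul_inv_cancel]; exact one_mem _)
  have h7 : w₀ ^ l ∈ fx ρ a := by
    have h8 := mul_mem (inv_mem h3) (show N ∈ fx ρ a from d.DF a ha N h6)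
    have h9 : (N * (w₀ ^ l)⁻¹)⁻¹ * N = w₀ ^ l := by
      rw [mul_inv, inv_inv, mul_comm N⁻¹, inv_mul_cancel_right]
    rwa [h9] at h8
  obtain ⟨k, hk⟩ := hl
  have h8 : w₀ ^ l = w₀ := by
    rw [hk, pow_succ, pow_mul, sq, hV, one_pow, one_mul]
  rw [h8] at h7
  exact h7

end Dat

/-- **the configuration** -/
theorem exists_cfg [Finite H] [Finite V] (hV : ∀ v : V, v * v = 1) (d : Dat ρ f h D F W) :
    ∃ l e s E, Cfg ρ f l e s E ∧ E ≤ D ∧ s ∈ zpowers h ∧ ∀ x ∈ E, h * x * h⁻¹ ∈ E := by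
  obtain ⟨l, e, hp⟩ := exists_pp d.f2
  have hlodd : Odd l := hp.prime.odd_of_ne_two hp.odd
  obtain ⟨m, hm⟩ := hp.dvd
  have hpos : 0 < 2 ^ f - 1 := by
    have h2 : 2 ^ 1 ≤ 2 ^ f := Nat.pow_le_pow_right (by norm_num) (by have := d.f2; omega)
    omega
  have hm0 : 0 < m := by
    rcases Nat.eq_zero_or_pos m with h0 | h0
    · rw [h0, mul_zero] at hm; omega
    · exact h0
  obtain ⟨s, hs⟩ : ∃ s, s = h ^ m := ⟨_, rfl⟩
  have hs1 : s ^ l ^ (e + 1) = 1 := by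
    rw [hs, ← pow_mul, mul_comm, ← hm]; exact d.hq
  obtain ⟨y, hy⟩ : ∃ y, y = s ^ l ^ e := ⟨_, rfl⟩
  have hyl : y ^ l = 1 := by rw [hy, ← pow_mul, ← pow_succ]; exact hs1
  have hyodd : Odd (orderOf y) := Odd.of_dvd_nat hlodd (orderOf_dvd_of_pow_eq_one hyl)
  have hyh : y = h ^ (m * l ^ e) := by rw [hy, hs, ← pow_mul]
  have hyF : ∀ x ∈ F, ρ y x = x := by rw [hyh]; exact d.hF_pow _
  have hfp : ∀ w ∈ W, ρ y w * w⁻¹ ∈ F → w ∈ F := by
    intro w hw h1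
    by_contra hwF
    rw [hyh] at h1
    have h2 := d.reg w hw hwF _ h1
    rw [hm, pow_succ] at h2
    have h3 : m * l ^ e * l ∣ m * l ^ e * 1 := by
      rw [mul_one]
      refine dvd_trans (dvd_of_eq ?_) h2
      ring
    have h4 := Nat.dvd_of_mul_dvd_mul_left (Nat.mul_pos hm0 (pow_pos hp.prime.pos e)) h3
    exact hp.prime.one_lt.ne' (Nat.dvd_one.1 h4)
  -- the commutator `[V, y]`
  have hidx : (fx ρ y).index = 2 ^ f := by
    obtain ⟨R, hR⟩ : ∃ R, R = (cm ρ y).range := ⟨_, rfl⟩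
    have hα : (ρ s) ^ l ^ (e + 1) = 1 := by rw [← map_pow, hs1, map_one]
    have hαe : (ρ s) ^ l ^ e = ρ y := by rw [← map_pow, hy]
    have hst : ∀ c ∈ R, ρ s c ∈ R := by
      intro c hc
      rw [hR] at hc ⊢
      refine apply_mem_range ρ ?_ hc
      rw [hy, ← pow_succ, ← pow_succ']
    obtain ⟨b, k, h1, h2⟩ := exists_pow hp hα hst ((isPGroup_two hV).to_subgroup R)
    have h3 : fixed R (ρ y) = ⊥ := by
      rw [eq_bot_iff]
      rintro c ⟨hc, hc'⟩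
      rw [hR] at hc
      exact Subgroup.mem_bot.2 (eq_one_of_fix hV hyodd hc hc')
    rw [hαe, h3, Subgroup.card_bot] at h1
    have hb : b = 0 := by
      by_contra hb
      have : 2 ^ 1 ≤ 2 ^ b := Nat.pow_le_pow_right (by norm_num) (by omega)
      omega
    rw [hb, zero_add] at h2
    have h4 : Nat.card R ≤ 2 ^ (2 * f - 1) := by
      have h5 : F ⊓ R = ⊥ := by
        rw [eq_bot_iff]
        rintro c ⟨hcF, hcR⟩
        rw [hR] at hcR
        exact Subgroup.mem_bot.2 (eq_one_of_fix hV hyodd hcR (hyF c hcF))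
      have h6 : F.relIndex R = Nat.card R := by
        rw [← Subgroup.inf_relIndex_right, h5, Subgroup.relIndex_bot_left]
      rw [← h6]
      exact (Nat.le_of_dvd (Nat.pos_of_ne_zero F.index_ne_zero_of_finite)
        (Subgroup.relIndex_dvd_index_of_normal F R)).trans d.index_F
    have hk0 : k ≠ 0 := by
      rintro rfl
      rw [mul_zero, pow_zero] at h2
      obtain ⟨w, hw, hwF⟩ := d.exists_not_mem
      apply hwF
      refine hfp w hw ?_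
      have h7 : cm ρ y w ∈ R := by rw [hR]; exact ⟨w, rfl⟩
      rw [Subgroup.card_eq_one.1 h2, Subgroup.mem_bot, cm_apply] at h7
      rw [h7]; exact one_mem _
    rw [h2] at h4
    have h5 := (Nat.pow_le_pow_iff_right (by norm_num : 1 < 2)).1 h4
    have hk1 : k = 1 := by
      have hf := d.f2
      have : k < 2 := by
        by_contra hcon
        have h6 : f * 2 ≤ f * k := Nat.mul_le_mul_left f (by omega)
        omega
      omega
    rw [hk1, mul_one, hR, card_range_cm] at h2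
    exact h2
  -- `E`
  obtain ⟨S, hS⟩ : ∃ S : Set (Subgroup H), S = {X | X ≤ D ∧ (∀ x ∈ X, h * x * h⁻¹ ∈ X) ∧ ∃ a ∈ X, a * y ≠ y * a} :=
    ⟨_, rfl⟩
  have hDS : D ∈ S := by
    rw [hS]
    refine ⟨le_rfl, d.nm, ?_⟩
    rw [hyh] at hyl hfp ⊢
    exact d.exists_ne hV hlodd hyl hfp
  obtain ⟨E, hE⟩ := (Set.toFinite S).exists_minimal ⟨D, hDS⟩
  have hES : E ≤ D ∧ (∀ x ∈ E, h * x * h⁻¹ ∈ E) ∧ ∃ a ∈ E, a * y ≠ y * a := by
    have := hE.prop
    rwa [hS] at this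
  obtain ⟨hED, hEn, hEy⟩ := hES
  have hE2 : IsPGroup 2 E := d.pg.to_le hED
  refine ⟨l, e, s, E, ?_, hED, by rw [hs]; exact pow_mem (mem_zpowers h) m, hEn⟩
  have hyn : ∀ x ∈ E, y * x * y⁻¹ ∈ E := by rw [hyh]; exact conj_pow_mem hEn _
  refine ⟨hp, d.f2, hs1, by rw [← hy]; exact hidx, hE2, by rw [hs]; exact conj_pow_mem hEn m, ?_, by rw [← hy]; exact hEy, ?_⟩
  · intro X hX hc
    rw [← hy] at hc
    have h1 : E ⊓ X ∈ S := by
      rw [hS]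
      refine ⟨inf_le_left.trans hED, fun x hx => ⟨hEn x hx.1, hX.conj_mem x hx.2 h⟩, ?_⟩
      by_contra hcon
      push Not at hcon
      obtain ⟨a, ha, hne⟩ := hEy
      apply hne
      have h2 : a * y * a⁻¹ * y⁻¹ ∈ E ⊓ X := by
        refine ⟨?_, hc a ha⟩
        have h3 := mul_mem ha (hyn a⁻¹ (inv_mem ha))
        have h4 : a * (y * a⁻¹ * y⁻¹) = a * y * a⁻¹ * y⁻¹ := by group
        rwa [h4] at h3
      refine eq_one_of_comm hlodd hyl ?_ (hcon _ h2)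
      obtain ⟨n, hn⟩ := hE2 ⟨_, h2.1⟩
      exact ⟨n, congrArg Subtype.val hn⟩
    exact (hE.le_of_le h1 inf_le_left).trans inf_le_right
  · have h1 : F ≤ CS ρ E := fun x hx a ha => d.DF a (hED ha) x hx
    exact (Nat.le_of_dvd (Nat.pos_of_ne_zero F.index_ne_zero_of_finite) (Subgroup.index_dvd_of_le h1)).trans d.index_F

end Cfsg.Agent.OddCyclic.EmpF
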