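import Cfsg.Agent.OddCyclic.EmpF.Basic
import Cfsg.Agent.OddCyclic.ZTPsl
import Cfsg.Agent.OddCyclic.ZTSz
import Cfsg.Agent.OddCyclic.T1SzFacts
import Cfsg.Agent.WeakTI.PslTwo

/-!
# Automorphisms of odd prime power order of groups acting as Zassenhaus groups on their Sylow 2-subgroups

`ZI K m t`: `K` is a Zassenhaus group on its `2 ^ m + 1` Sylow 2-subgroups, with point stabilisers of order `2 ^ m t`,
and Sylow 2-subgroups with `t` involutions.

* `ZI.exists_fix` ...: an automorphism `σ` of order `l ^ (e + 1)`, `l` prime to `|K|`, `α = σ ^ l ^ e`: `σ` fixes a Sylow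
  subgroup `P`, `|C_P(α)| = 2 ^ b`, `1 ≤ b`, `m = b + f k`, `α` moves the elements of order `r`, `r` primitive.
* `zi_sl2`, `zi_sz`.
-/

set_option autoImplicit false
set_option linter.unusedSectionVars false

namespace Cfsg.Agent.OddCyclic.EmpF

open Subgroup Cfsg.Agent.OddCyclic.Zass
open scoped Pointwise

/-- see the header -/
structure ZI (K : Type*) [Group K] (m t : ℕ) : Prop where
  zt : IsZT K 2 (2 ^ m) t
  inv : ∀ P : Sylow 2 K, ∃ Z : Subgroup K, Nat.card Z = t + 1 ∧ ∀ x, x ∈ Z ↔ x ∈ P ∧ x * x = 1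

variable {K : Type*} [Group K] [Finite K]

/-- the action of the powers of `c` on the Sylow subgroups fixed by `α` -/
@[reducible] def fixAct {α : MulAut K} {c : K} (hαc : α c = c) : MulAction (zpowers c) {R : Sylow 2 K // α • R = R} where
  smul g R := ⟨(g : K) • R.1, by
    have h1 : α (g : K) = g := by
      obtain ⟨n, hn⟩ := g.2
      have hn' : c ^ n = (g : K) := hn
      rw [← hn', map_zpow, hαc]
    rw [aut_smul_smul, h1, R.2]⟩
  one_smul R := Subtype.ext (one_smul K R.1)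
  mul_smul g g' R := Subtype.ext (mul_smul (g : K) (g' : K) R.1)

/-- an element of prime order `r` fixed by `α` without fixed points -/
theorem dvd_card_fix {m t r : ℕ} (h : ZI K m t) {α : MulAut K} {c : K} (hαc : α c = c) (hr : r.Prime)
    (hc : orderOf c = r) (hrut : ¬ r ∣ 2 ^ m * t) : r ∣ Nat.card {R : Sylow 2 K // α • R = R} := by
  have hrf : Fact r.Prime := ⟨hr⟩
  let _ := fixAct hαc
  have hp : IsPGroup r (zpowers c) := IsPGroup.of_card (n := 1) (by rw [Nat.card_zpowers, hc, pow_one])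
  have h1 := hp.card_modEq_card_fixedPoints {R : Sylow 2 K // α • R = R}
  have h2 : Nat.card (MulAction.fixedPoints (zpowers c) {R : Sylow 2 K // α • R = R}) = 0 := by
    rw [Nat.card_eq_zero]
    left
    refine ⟨fun R => ?_⟩
    have h3 := R.2 ⟨c, mem_zpowers c⟩
    have h4 : c • R.1.1 = R.1.1 := congrArg Subtype.val h3
    rw [smul_eq_iff] at h4
    apply hrut
    rw [← h.zt.card_normalizer R.1.1, ← hc]
    exact Subgroup.orderOf_dvd_natCard _ h4
  rw [h2] at h1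
  exact (Nat.modEq_zero_iff_dvd).1 h1

theorem card_fix {m t : ℕ} (h : ZI K m t) {α : MulAut K} {P Q : Sylow 2 K} (hPQ : Q ≠ P) (hP : α • P = P)
    (hQ : α • Q = Q) :
    Nat.card {R : Sylow 2 K // α • R = R} = Nat.card (fixed (P : Subgroup K) α) + 1 := by
  classical
  have hfs : Fintype (Sylow 2 K) := Fintype.ofFinite _
  let X := {R : {R : Sylow 2 K // α • R = R} // R.1 ≠ P}
  let g : fixed (P : Subgroup K) α → X := fun x => ⟨⟨(x : K) • Q, by
      rw [aut_smul_smul, x.2.2, hQ]⟩, fun hx => hPQ (by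
      have hx' : (x : K) • Q = P := hx
      have h1 : (x : K) • Q = (x : K) • P := by rw [hx', smul_self x.2.1]
      exact smul_left_cancel _ h1)⟩
  have hg : Function.Bijective g := by
    constructor
    · intro x y hxy
      have h1 : (x : K) • Q = (y : K) • Q := congrArg (fun z : X => z.1.1) hxy
      have h2 : ((y : K)⁻¹ * x) • Q = Q := by rw [mul_smul, h1, inv_smul_smul]
      have h3 := h.zt.reg P Q hPQ (mul_mem (inv_mem y.2.1) x.2.1) h2
      exact Subtype.ext (inv_mul_eq_one.1 h3).symm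
    · rintro ⟨⟨R, hR⟩, hRP⟩
      obtain ⟨x, hx, hxR⟩ := h.zt.trans P Q R hPQ hRP
      have h1 : α x • Q = x • Q := by
        have h2 := aut_smul_smul α x Q
        rw [hQ, hxR, hR] at h2
        rw [← h2, hxR]
      have hαx : α x ∈ P := by
        have h3 : α x ∈ α • P := by
          rw [mem_aut_smul, ← MulAut.mul_apply, inv_mul_cancel]; exact hx
        rwa [hP] at h3
      have h2 : (x⁻¹ * α x) • Q = Q := by rw [mul_smul, h1, inv_smul_smul]
      have h3 := h.zt.reg P Q hPQ (mul_mem (inv_mem hx) hαx) h2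
      refine ⟨⟨x, hx, (inv_mul_eq_one.1 h3).symm⟩, ?_⟩
      exact Subtype.ext (Subtype.ext hxR)
  rw [Nat.card_congr (Equiv.ofBijective g hg)]
  have hfX : Fintype {R : Sylow 2 K // α • R = R} := Fintype.ofFinite _
  have h1 : Nat.card X = Nat.card {R : Sylow 2 K // α • R = R} - 1 := by
    have h2 : Nat.card X = Nat.card {R : {R : Sylow 2 K // α • R = R} // R ≠ ⟨P, hP⟩} := by
      refine Nat.card_congr (Equiv.subtypeEquivRight fun R => ?_)
      rw [Ne, Ne, Subtype.ext_iff]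
    rw [h2, Nat.card_eq_fintype_card, Nat.card_eq_fintype_card, Fintype.card_subtype_compl,
      Fintype.card_subtype_eq]
  rw [h1]
  have h2 : 0 < Nat.card {R : Sylow 2 K // α • R = R} := by
    have : Nonempty {R : Sylow 2 K // α • R = R} := ⟨⟨P, hP⟩⟩
    exact Nat.card_pos
  omega

/-- two Sylow subgroups fixed by an automorphism of order `l ^ (e + 1)`, `l` prime to `|K|` -/
theorem zt_two {r u t l e : ℕ} (h : IsZT K r u t) (hp : l.Prime) {σ : MulAut K} (hσ : σ ^ l ^ (e + 1) = 1)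
    (hne : σ ^ l ^ e ≠ 1) (hl : ¬ l ∣ Nat.card K) :
    ∃ P Q : Sylow r K, Q ≠ P ∧ σ • P = P ∧ (σ ^ l ^ e) • P = P ∧ (σ ^ l ^ e) • Q = Q := by
  have hlf : Fact l.Prime := ⟨hp⟩
  have h2f : Fact (Nat.Prime r) := ⟨h.prime⟩
  obtain ⟨α, hα⟩ : ∃ α, α = σ ^ l ^ e := ⟨_, rfl⟩
  rw [← hα] at hne ⊢
  have hσo : orderOf σ = l ^ (e + 1) := orderOf_eq_prime_pow (by rw [← hα]; exact hne) hσ
  have hαo : orderOf α = l := by
    rw [hα]
    refine orderOf_eq_prime ?_ (by rw [← hα]; exact hne)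
    rw [← pow_mul, ← pow_succ]; exact hσ
  have hcard := h.card
  have hpσ : IsPGroup l (zpowers σ) := IsPGroup.of_card (n := e + 1) (by rw [Nat.card_zpowers, hσo])
  have hpα : IsPGroup l (zpowers α) := IsPGroup.of_card (n := 1) (by rw [Nat.card_zpowers, hαo, pow_one])
  have hnd : ¬ l ∣ Nat.card (Sylow r K) := by
    rw [h.num]
    intro h1
    apply hl
    rw [hcard]
    exact (h1.mul_right _).mul_right _
  obtain ⟨P, hP⟩ := hpσ.nonempty_fixed_point_of_prime_not_dvd_card (Sylow r K) hnd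
  have hσP : σ • P = P := hP ⟨σ, mem_zpowers σ⟩
  have hαP : α • P = P := hP ⟨α, by rw [hα]; exact pow_mem (mem_zpowers σ) _⟩
  have hQ : ∃ Q : Sylow r K, Q ≠ P ∧ α • Q = Q := by
    by_contra hcon
    push Not at hcon
    have h1 := hpα.card_modEq_card_fixedPoints (Sylow r K)
    have h2 : Nat.card (MulAction.fixedPoints (zpowers α) (Sylow r K)) = 1 := by
      rw [Nat.card_eq_one_iff_exists]
      refine ⟨⟨P, ?_⟩, ?_⟩
      · rintro ⟨γ, hγ⟩
        obtain ⟨n, rfl⟩ := hγ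
        have h3 : ∀ γ ∈ zpowers α, γ • P = P := by
          have h4 : zpowers α ≤ MulAction.stabilizer (MulAut K) P := by
            rw [zpowers_le]; exact hαP
          exact fun γ hγ => h4 hγ
        exact h3 _ ⟨n, rfl⟩
      · rintro ⟨R, hR⟩
        apply Subtype.ext
        by_contra hRP
        exact hcon R hRP (hR ⟨α, mem_zpowers α⟩)
    rw [h2, h.num] at h1
    have h3 : l ∣ u := by
      have h4 := (Nat.modEq_iff_dvd' (Nat.le_add_left 1 _)).1 h1.symm
      rwa [Nat.add_sub_cancel] at h4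
    apply hl
    rw [hcard]
    exact (h3.mul_left _).mul_right _
  obtain ⟨Q, hQP, hαQ⟩ := hQ
  exact ⟨P, Q, hQP, hσP, hαP, hαQ⟩

/-- an automorphism fixing `P` elementwise and another point -/
theorem zt_eq_one {r u t : ℕ} (h : IsZT K r u t) {α : MulAut K} {P Q : Sylow r K} (hQP : Q ≠ P) (hαP : α • P = P)
    (hαQ : α • Q = Q) (hfix : ∀ x ∈ P, α x = x) : α = 1 := by
  apply h.aut_eq_one
  intro R
  by_cases hRP : R = P
  · rw [hRP, hαP]
  · obtain ⟨x, hx, hxR⟩ := h.trans P Q R hQP hRP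
    rw [← hxR, aut_smul_smul, hfix x hx, hαQ]

/-- **an automorphism of order `l ^ (e + 1)`, `l` prime to `|K|`** -/
theorem ZI.outer {m t f l e : ℕ} (h : ZI K m t) (hp : PP f l e) {σ : MulAut K} (hσ : σ ^ l ^ (e + 1) = 1)
    (hne : σ ^ l ^ e ≠ 1) (hl : ¬ l ∣ Nat.card K) :
    ∃ (b k : ℕ), 0 < b ∧ 0 < k ∧ m = b + f * k ∧
      Nat.card {R : Sylow 2 K // (σ ^ l ^ e) • R = R} = 2 ^ b + 1 := by
  obtain ⟨P, Q, hQP, hσP, hαP, hαQ⟩ := zt_two h.zt hp.prime hσ hne hl
  obtain ⟨α, hα⟩ : ∃ α, α = σ ^ l ^ e := ⟨_, rfl⟩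
  rw [← hα] at hne hαP hαQ ⊢
  have hcard := h.zt.card
  -- the fixed points on `P`
  have hst : ∀ c ∈ (P : Subgroup K), σ c ∈ (P : Subgroup K) := by
    intro c hc
    have h3 : σ c ∈ σ • P := by
      rw [mem_aut_smul, ← MulAut.mul_apply, inv_mul_cancel]; exact hc
    rwa [hσP] at h3
  obtain ⟨b, k, h1, h2⟩ := exists_pow hp hσ hst P.isPGroup'
  rw [← hα] at h1
  have h3 := card_fix h hQP hαP hαQ
  rw [h1] at h3
  have h4 : m = b + f * k := by
    have h5 := h.zt.sylow P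
    rw [show Nat.card P = Nat.card (P : Subgroup K) from rfl, h2] at h5
    exact (Nat.pow_right_injective (le_refl 2) h5).symm
  refine ⟨b, k, ?_, ?_, h4, h3⟩
  · -- `α` fixes an involution of `P`
    by_contra hb
    have hb0 : b = 0 := by omega
    rw [hb0, pow_zero, Subgroup.card_eq_one] at h1
    obtain ⟨Z, hZ, hZm⟩ := h.inv P
    have hZst : ∀ c ∈ Z, σ c ∈ Z := by
      intro c hc
      rw [hZm] at hc ⊢
      exact ⟨hst c hc.1, by rw [← map_mul, hc.2, map_one]⟩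
    have h5 := dvd_sub hp.prime hσ hZst
    rw [← hα] at h5
    have h6 : fixed Z α = ⊥ := by
      rw [eq_bot_iff, ← h1]
      rintro c ⟨hc, hc'⟩
      rw [hZm] at hc
      exact ⟨hc.1, hc'⟩
    rw [h6, Subgroup.card_bot, hZ, Nat.add_sub_cancel] at h5
    apply hl
    rw [hcard]
    exact (dvd_trans (dvd_pow_self l (Nat.succ_ne_zero e)) h5).mul_left _
  · by_contra hk
    have hk0 : k = 0 := by omega
    rw [hk0, mul_zero, add_zero] at h4 h2
    apply hne
    refine zt_eq_one h.zt hQP hαP hαQ ?_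
    have h6 : fixed (P : Subgroup K) α = P := Subgroup.eq_of_le_of_card_ge (fixed_le _ _) (by rw [h1, h2])
    intro x hx
    have h7 : x ∈ fixed (P : Subgroup K) α := by rw [h6]; exact hx
    exact h7.2

/-- `r` primitive for `2 ^ (2 m) - 1`: elements of order `r` are not fixed -/
theorem ZI.exists_prime {m t f l e : ℕ} (hf : 0 < f) (h : ZI K m t) (hm : m ≠ 3) (hm0 : 0 < m) (ht : t ∣ 2 ^ m - 1) (hp : PP f l e)
    {σ : MulAut K} (hσ : σ ^ l ^ (e + 1) = 1) (hne : σ ^ l ^ e ≠ 1) (hl : ¬ l ∣ Nat.card K) :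
    ∃ r, r.Prime ∧ r ≠ 2 ∧ r ∣ Nat.card K ∧ (∀ d, r ∣ 2 ^ d - 1 → 2 * m ∣ d) ∧
      ∀ c : K, orderOf c = r → (σ ^ l ^ e) c ≠ c := by
  obtain ⟨r, hr, h1, -, h3⟩ := Lib.Zsigmondy.exists_primitive (a := 2) (n := 2 * m) le_rfl (by omega)
      (by
        rintro - ⟨k, hk⟩
        rcases k with _ | _ | k
        · norm_num at hk
        · norm_num at hk
        · have : 1 ≤ 2 ^ k := Nat.one_le_two_pow
          rw [pow_succ, pow_succ] at hk
          omega) (fun h => by omega)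
  have hr2 : r ≠ 2 := fun h => h3 (by rw [h])
  have hrm : ¬ r ∣ 2 ^ m - 1 := by
    rw [h1]
    intro h4
    have := Nat.le_of_dvd hm0 h4
    omega
  have hr1 : r ∣ 2 ^ m + 1 := by
    have h4 : r ∣ 2 ^ (2 * m) - 1 := (h1 _).2 dvd_rfl
    have h5 : 2 ^ (2 * m) - 1 = (2 ^ m + 1) * (2 ^ m - 1) := by
      have := Nat.sq_sub_sq (2 ^ m) 1
      rw [one_pow] at this
      rw [← this, ← pow_mul, mul_comm m 2]
    rw [h5] at h4
    exact ((Nat.Prime.dvd_mul hr).1 h4).resolve_right hrm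
  refine ⟨r, hr, hr2, ?_, fun d hd => (h1 d).1 hd, fun c hc hαc => ?_⟩
  · rw [h.zt.card]
    exact (hr1.mul_right _).mul_right _
  · obtain ⟨b, k, hb, hk, hm', hcf⟩ := h.outer hp hσ hne hl
    have h4 := dvd_card_fix h hαc hr hc (by
      intro h5
      rcases (Nat.Prime.dvd_mul hr).1 h5 with h6 | h6
      · exact hr2 ((Nat.prime_dvd_prime_iff_eq hr Nat.prime_two).1 (hr.dvd_of_dvd_pow h6))
      · exact hrm (h6.trans ht))
    rw [hcf] at h4
    have h5 : r ∣ 2 ^ (2 * b) - 1 := by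
      have h5 : 2 ^ (2 * b) - 1 = (2 ^ b + 1) * (2 ^ b - 1) := by
        have := Nat.sq_sub_sq (2 ^ b) 1
        rw [one_pow] at this
        rw [← this, ← pow_mul, mul_comm b 2]
      rw [h5]
      exact h4.mul_right _
    have h6 := Nat.le_of_dvd (by omega) ((h1 _).1 h5)
    have h7 : 0 < f * k := Nat.mul_pos hf hk
    omega

/-! ### the groups -/

theorem ZI.of_mulEquiv {K' : Type*} [Group K'] [Finite K'] {m t : ℕ} (h : ZI K m t) (e : K ≃* K') (ht : ¬ 2 ∣ t) :
    ZI K' m t := by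
  refine ⟨h.zt.of_mulEquiv e ⟨m, rfl⟩ ht, fun P => ?_⟩
  have h2f : Fact (Nat.Prime 2) := ⟨Nat.prime_two⟩
  let P' : Sylow 2 K := P.comapOfInjective e.toMonoidHom e.injective (by
    rw [MonoidHom.range_eq_top.2 e.surjective]; exact le_top)
  have hP' : ∀ x, x ∈ P' ↔ e x ∈ P := fun x => Iff.rfl
  obtain ⟨Z, hZ, hZm⟩ := h.inv P'
  refine ⟨Z.map e.toMonoidHom, ?_, fun x => ?_⟩
  · rw [Subgroup.card_map_of_injective e.injective, hZ]
  · rw [Subgroup.mem_map]
    constructor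
    · rintro ⟨y, hy, rfl⟩
      rw [hZm, hP'] at hy
      exact ⟨hy.1, by
        show e y * e y = 1
        rw [← map_mul, hy.2, map_one]⟩
    · rintro ⟨hx, hx2⟩
      refine ⟨e.symm x, ?_, e.apply_symm_apply x⟩
      rw [hZm, hP', e.apply_symm_apply, ← map_mul, hx2, map_one]
      exact ⟨hx, rfl⟩

theorem zi_sl2 {F : Type*} [Field F] [Fintype F] [CharP F 2] {n : ℕ} (hn : 0 < n) (hF : Fintype.card F = 2 ^ n)
    (e : Matrix.SpecialLinearGroup (Fin 2) F ≃* K) : ZI K n (2 ^ n - 1) := by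
  have h2f : Fact (Nat.Prime 2) := ⟨Nat.prime_two⟩
  have hodd : ¬ 2 ∣ 2 ^ n - 1 := by
    have h1 : 2 ∣ 2 ^ n := dvd_pow_self 2 hn.ne'
    have h2 : 1 ≤ 2 ^ n := Nat.one_le_two_pow
    omega
  classical
  obtain ⟨g⟩ := WeakTI.PslTwo.nonempty_equiv (F := F)
  have hzt := isZT_psl2 (F := F) (t := 2 ^ n - 1) Nat.prime_two hF hodd (by
    rw [← Nat.card_congr g.toEquiv, T1Sl2.card_sl2, hF])
  rw [hF] at hzt
  have h3 : ZI (Matrix.SpecialLinearGroup (Fin 2) F) n (2 ^ n - 1) := by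
    refine ⟨hzt.of_mulEquiv g.symm ⟨n, rfl⟩ hodd, fun P => ⟨P, ?_, fun x => ⟨fun hx => ⟨hx, T1Sl2.sylow_elem P x hx⟩,
      fun hx => hx.1⟩⟩⟩
    have h4 : Nat.card (P : Subgroup (Matrix.SpecialLinearGroup (Fin 2) F)) = Fintype.card F := T1Sl2.card_sylow P
    rw [h4, hF]
    have : 1 ≤ 2 ^ n := Nat.one_le_two_pow
    omega
  exact h3.of_mulEquiv e hodd

theorem zi_sz (h : Cfsg.Lie.IsoSuzuki K) : ∃ m : ℕ, 1 ≤ m ∧ ZI K ((2 * m + 1) * 2) (2 ^ (2 * m + 1) - 1) := by
  have h2f : Fact (Nat.Prime 2) := ⟨Nat.prime_two⟩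
  obtain ⟨m, hm, hz⟩ := isZT_suzuki h
  refine ⟨m, hm, ?_, fun P => ?_⟩
  · rw [pow_mul]; exact hz
  · have hs := T1SzFacts.szMore h P
    refine ⟨(P : Subgroup K) ⊓ centralizer ((P : Subgroup K) : Set K), ?_, fun x => ?_⟩
    · have h1 := hs.card_eq
      have h2 := hz.sylow P
      rw [show Nat.card (P : Subgroup K) = Nat.card P from rfl, h2] at h1
      have h3 := Nat.pow_left_injective (two_ne_zero) h1
      rw [← h3]
      have : 1 ≤ 2 ^ (2 * m + 1) := Nat.one_le_two_pow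
      omega
    · rw [mem_inf, mem_centralizer_iff]
      constructor
      · rintro ⟨h1, h2⟩
        exact ⟨h1, (hs.sq_iff x h1).2 fun y hy => (h2 y hy).symm⟩
      · rintro ⟨h1, h2⟩
        exact ⟨h1, fun y hy => ((hs.sq_iff x h1).1 h2 y hy).symm⟩

end Cfsg.Agent.OddCyclic.EmpF
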