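import Cfsg.Agent.OddCyclic.EmpF.Cfg
import Cfsg.Agent.OddCyclic.EmpF.Zt
import Cfsg.Agent.OddCyclic.FFStruct
import Cfsg.Agent.OddCyclic.FFPsl
import Cfsg.Agent.OddCyclic.CaseASinger
import Cfsg.Agent.OddCyclic.UniStruct

/-!
# (Empty), natural `L₂(q)`: the component

* `Cfg.exists_comp`: a component `K` moved by `E`;
* `Cfg.dvd_card`: `l ∣ |K|`, so `y ∈ K` and `E ≤ K`.
-/

set_option autoImplicit false
set_option linter.unusedSectionVars false

namespace Cfsg.Agent.OddCyclic.EmpF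

open Subgroup Cfsg Cfsg.Agent.OddCyclic.T1Module Cfsg.Agent.OddCyclic.FFBasic Cfsg.Agent.OddCyclic.FFRed
open Cfsg.Agent.OddCyclic.T1Defs (OddCyc)
open Cfsg.Agent.OddCyclic.PumpMain (KZero)
open Cfsg.Agent.SignalizersComponents.Components
open Cfsg.Agent.OddCyclic.Zass
open scoped Pointwise

variable {H : Type*} [Group H] [Finite H] {V : Type*} [CommGroup V] [Finite V] {ρ : H →* MulAut V}
  {f l e : ℕ} {s : H} {E : Subgroup H}

namespace Cfg

omit [Finite V] in
theorem y_ne (c : Cfg ρ f l e s E) : s ^ l ^ e ≠ 1 := by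
  intro h
  have h1 := c.idx
  rw [h, fx_one, Subgroup.index_top] at h1
  have h2 : 2 ^ 1 ≤ 2 ^ f := Nat.pow_le_pow_right (by norm_num) (by have := c.f2; omega)
  omega

omit [Finite V] in
theorem orderOf_y (c : Cfg ρ f l e s E) : orderOf (s ^ l ^ e) = l := by
  have : Fact l.Prime := ⟨c.pp.prime⟩
  refine orderOf_eq_prime ?_ c.y_ne
  rw [← pow_mul, ← pow_succ]; exact c.ord

omit [Finite V] in
/-- a component moved by `E` -/
theorem exists_comp (hc : OddCyc H) (h2 : pCore 2 H = ⊥) (c : Cfg ρ f l e s E) :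
    ∃ K : Subgroup H, IsComponent K ∧ ¬ E ≤ centralizer (K : Set H) := by
  have h2f : Fact (Nat.Prime 2) := ⟨Nat.prime_two⟩
  by_contra hcon
  push Not at hcon
  -- `E` centralises the Fitting subgroup
  have hFn : (fittingSubgroup H).Normal := Lib.Cores.fittingSubgroup_normal
  have h1 : E ≤ centralizer (fittingSubgroup H : Set H) := by
    refine c.comm _ inferInstance fun a _ => ?_
    rw [mem_centralizer_iff]
    intro x hx
    exact (UniStruct.comm_fitting h2 hc a (s ^ l ^ e) hx).symm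
  -- an involution of `E`
  have hE : E ≠ ⊥ := by
    rintro rfl
    obtain ⟨a, ha, hne⟩ := c.ne
    rw [Subgroup.mem_bot] at ha
    apply hne
    rw [ha, one_mul, mul_one]
  have h3 : 2 ∣ Nat.card E := by
    obtain ⟨n, hn⟩ := (IsPGroup.iff_card (p := 2)).1 c.pg
    rw [hn]
    refine dvd_pow_self 2 ?_
    rintro rfl
    rw [pow_zero, Subgroup.card_eq_one] at hn
    exact hE hn
  obtain ⟨a, ha⟩ := exists_prime_orderOf_dvd_card' (G := E) 2 h3
  have ha2 : (a : H) * a = 1 := by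
    have h4 : a ^ 2 = 1 := by rw [← ha]; exact pow_orderOf_eq_one a
    rw [pow_two] at h4
    exact congrArg Subtype.val h4
  have h5 := FFStruct.eq_one_of_centralizes h2 ha2
    (fun x hx => (mem_centralizer_iff.1 (h1 a.2) x hx).symm) fun K hK => hcon K hK a.2
  have h6 : a = 1 := Subtype.ext h5
  rw [h6, orderOf_one] at ha
  norm_num at ha

omit [Finite V] [Finite H] in
theorem y_not (c : Cfg ρ f l e s E) {K : Subgroup H} (hK : K.Normal) (hE : ¬ E ≤ centralizer (K : Set H)) :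
    s ^ l ^ e ∉ centralizer (K : Set H) := by
  intro h
  apply hE
  have hn : (centralizer (K : Set H)).Normal := inferInstance
  refine c.comm _ hn fun a _ => ?_
  have h1 := hn.conj_mem _ h a
  exact mul_mem h1 (inv_mem h)

omit [Finite V] [Finite H] in
theorem le_of_mem (c : Cfg ρ f l e s E) {K : Subgroup H} (hK : K.Normal) (h : s ^ l ^ e ∈ K) : E ≤ K := by
  refine c.comm _ hK fun a _ => ?_
  exact mul_mem (hK.conj_mem _ h a) (inv_mem h)

/-- automorphism of `K` induced by `s` -/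
theorem conj_ne {K : Subgroup H} [K.Normal] {y : H} (h : y ∉ centralizer (K : Set H)) :
    (MulAut.conjNormal y : MulAut K) ≠ 1 := by
  intro h1
  apply h
  rw [mem_centralizer_iff]
  intro k hk
  have h2 : ((MulAut.conjNormal y : MulAut K) ⟨k, hk⟩ : H) = k := by rw [h1]; rfl
  rw [MulAut.conjNormal_apply] at h2
  exact (mul_inv_eq_iff_eq_mul.1 h2).symm

/-- the Zassenhaus case -/
theorem zi_false (hc : OddCyc H) (hV : ∀ v : V, v * v = 1) (hρ : Function.Injective ρ) (c : Cfg ρ f l e s E)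
    {K : Subgroup H} [K.Normal] {m t : ℕ} (hz : ZI K m t) (htm : t ∣ 2 ^ m - 1) (hm0 : 0 < m)
    (hl : ¬ l ∣ Nat.card K) (hy : s ^ l ^ e ∉ centralizer (K : Set H)) : False := by
  have hlf : Fact l.Prime := ⟨c.pp.prime⟩
  have hf := c.f2
  obtain ⟨σ, hσd⟩ : ∃ σ : MulAut K, σ = MulAut.conjNormal s := ⟨_, rfl⟩
  have hσ : σ ^ l ^ (e + 1) = 1 := by rw [hσd, ← map_pow, c.ord, map_one]
  have hσe : σ ^ l ^ e = MulAut.conjNormal (s ^ l ^ e) := by rw [hσd, map_pow]
  have hne : σ ^ l ^ e ≠ 1 := by rw [hσe]; exact conj_ne hy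
  obtain ⟨b, k, hb, hk, hm, -⟩ := hz.outer c.pp hσ hne hl
  have hfk : f * 1 ≤ f * k := Nat.mul_le_mul_left f hk
  by_cases hm3 : m = 3
  · -- `f = 2`, `l = 3`
    have hf2 : f = 2 := by omega
    have h1 := c.pp.dvd
    rw [hf2] at h1
    have h2 : l ∣ 3 := (dvd_pow_self l (Nat.succ_ne_zero e)).trans (by simpa using h1)
    have h3 : l = 3 := (Nat.prime_dvd_prime_iff_eq c.pp.prime Nat.prime_three).1 h2
    apply hl
    rw [h3, hz.zt.card, hm3]
    exact Dvd.dvd.mul_right (Dvd.dvd.mul_right (by norm_num) _) _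
  obtain ⟨r, hr, hr2, hrK, hprim, hmov⟩ := hz.exists_prime (by omega) hm3 hm0 htm c.pp hσ hne hl
  have hrf : Fact r.Prime := ⟨hr⟩
  obtain ⟨α, hα⟩ : ∃ α, α = σ ^ l ^ e := ⟨_, rfl⟩
  rw [← hα] at hσe hne hmov
  -- an `α`-invariant Sylow `r`-subgroup
  have hαo : orderOf α = l := by
    refine orderOf_eq_prime ?_ hne
    rw [hα, ← pow_mul, ← pow_succ]; exact hσ
  have hpα : IsPGroup l (zpowers α) := IsPGroup.of_card (n := 1) (by rw [Nat.card_zpowers, hαo, pow_one])
  have hnd : ¬ l ∣ Nat.card (Sylow r K) := by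
    intro h1
    obtain ⟨R⟩ : Nonempty (Sylow r K) := inferInstance
    exact hl ((h1.trans (Sylow.card_dvd_index R)).trans (Subgroup.index_dvd_card _))
  obtain ⟨R, hR⟩ := hpα.nonempty_fixed_point_of_prime_not_dvd_card (Sylow r K) hnd
  have hαR : α • R = R := hR ⟨α, mem_zpowers α⟩
  have hRc : IsCyclic R := CompBasic.oddCyc_subgroup hc K r R hr hr2
  have hrR : r ∣ Nat.card R := R.dvd_card_of_dvd_card hrK
  obtain ⟨x, hx⟩ := exists_prime_orderOf_dvd_card' (G := R) r hrR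
  have hxo : orderOf (x : K) = r := (Subgroup.orderOf_coe x).trans hx
  have hαx : α (x : K) ∈ R := by
    have h3 : α (x : K) ∈ α • R := by
      rw [mem_aut_smul, ← MulAut.mul_apply, inv_mul_cancel]; exact x.2
    rwa [hαR] at h3
  have h1 : zpowers (⟨α (x : K), hαx⟩ : R) = zpowers x := CompBasic.zpowers_eq_of_cyclic
    ((Subgroup.orderOf_mk _ _).trans ((MulEquiv.orderOf_eq α (x : K)).trans (hxo.trans hx.symm)))
  have h2 : α (x : K) ∈ zpowers (x : K) := by
    have h3 : (⟨α (x : K), hαx⟩ : R) ∈ zpowers x := by rw [← h1]; exact mem_zpowers _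
    obtain ⟨n, hn⟩ := h3
    exact ⟨n, congrArg Subtype.val hn⟩
  -- the commutator generates `⟨x⟩`
  obtain ⟨y, hyd⟩ : ∃ y, y = s ^ l ^ e := ⟨_, rfl⟩
  obtain ⟨z, hzd⟩ : ∃ z : H, z = ((x : K) : H) := ⟨_, rfl⟩
  have hzo : orderOf z = r := by rw [hzd, Subgroup.orderOf_coe]; exact hxo
  have hαz : ((α (x : K) : K) : H) = y * z * y⁻¹ := by
    rw [hσe, MulAut.conjNormal_apply, hyd, hzd]
  have h3 : y * z * y⁻¹ * z⁻¹ ∈ zpowers z := by
    rw [← hαz]
    refine mul_mem ?_ (inv_mem (mem_zpowers z))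
    obtain ⟨n, hn⟩ := h2
    rw [hzd]
    exact ⟨n, by
      have := congrArg Subtype.val hn
      exact this⟩
  have h4 : y * z * y⁻¹ * z⁻¹ ≠ 1 := by
    intro h5
    apply hmov (x : K) hxo
    apply Subtype.ext
    rw [hαz, ← hzd]
    exact mul_inv_eq_one.1 h5
  have h5 : z ∈ zpowers (y * z * y⁻¹ * z⁻¹) := by
    have hgo : orderOf (y * z * y⁻¹ * z⁻¹) = r := by
      have h6 := orderOf_dvd_of_mem_zpowers h3
      rw [hzo] at h6
      rcases (Nat.dvd_prime hr).1 h6 with h7 | h7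
      · exact absurd (orderOf_eq_one_iff.1 h7) h4
      · exact h7
    have h6 : zpowers (y * z * y⁻¹ * z⁻¹) = zpowers z :=
      Subgroup.eq_of_le_of_card_ge (zpowers_le.2 h3) (by rw [Nat.card_zpowers, Nat.card_zpowers, hgo, hzo])
    rw [h6]; exact mem_zpowers z
  have h6 : (fx ρ z).index ≤ 2 ^ f * 2 ^ f := by
    have h7 := FFSl2.index_le_of_le (FFPsl.fx_le_of_mem ρ h5)
    have h8 := FFPsl.index_mul_le (ρ := ρ) y (z * y⁻¹ * z⁻¹)
    have h9 : y * (z * y⁻¹ * z⁻¹) = y * z * y⁻¹ * z⁻¹ := by group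
    rw [h9, index_fx_conj] at h8
    have h10 : (fx ρ y⁻¹).index = (fx ρ y).index := by
      congr 1
      refine le_antisymm (FFPsl.fx_le_of_mem ρ ?_) (FFPsl.fx_le_of_mem ρ (inv_mem (mem_zpowers y)))
      rw [zpowers_inv]; exact mem_zpowers y
    rw [h10, hyd, c.idx] at h8
    rw [hyd] at h7
    exact h7.trans h8
  have hz1 : ∃ v, ρ z v ≠ v := by
    by_contra hcon
    push Not at hcon
    have h7 : ρ z = 1 := by
      ext v
      exact hcon v
    have h8 : z = 1 := hρ (by rw [h7, map_one])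
    rw [h8, orderOf_one] at hzo
    exact hr.one_lt.ne hzo
  obtain ⟨d, hd, h7, h8⟩ := prim hV hr hr2 hzo hz1
  have h9 := Nat.le_of_dvd hd (hprim d h8)
  rw [h7, ← pow_add] at h6
  have h10 := (Nat.pow_le_pow_iff_right (by norm_num : 1 < 2)).1 h6
  omega

/-- **`l` divides `|K|`** -/
theorem dvd_card (hc : OddCyc H) (h2 : pCore 2 H = ⊥) (hV : ∀ v : V, v * v = 1) (hρ : Function.Injective ρ)
    (c : Cfg ρ f l e s E) {K : Subgroup H} (hK : IsComponent K) (hE : ¬ E ≤ centralizer (K : Set H))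
    (hk : KZero K) : l ∣ Nat.card K := by
  have hlf : Fact l.Prime := ⟨c.pp.prime⟩
  have hKn : K.Normal := FFStruct.component_normal hc hK
  have hy := c.y_not hKn hE
  by_contra hl
  rcases hk with ⟨F, _, _, hp, h5, ⟨g⟩⟩ | ⟨F, _, _, n, hn, hF, ⟨g⟩⟩ | hs | ⟨hJ, k, hk⟩
  · -- `PSL(2, p)`
    obtain ⟨t, ht, hz⟩ := CaseASinger.isZT_prime hp h5 g
    obtain ⟨σ, hσd⟩ : ∃ σ : MulAut K, σ = MulAut.conjNormal s := ⟨_, rfl⟩
    have hσ : σ ^ l ^ (e + 1) = 1 := by rw [hσd, ← map_pow, c.ord, map_one]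
    have hσe : σ ^ l ^ e = MulAut.conjNormal (s ^ l ^ e) := by rw [hσd, map_pow]
    have hne : σ ^ l ^ e ≠ 1 := by rw [hσe]; exact conj_ne hy
    obtain ⟨P, Q, hQP, hσP, hαP, hαQ⟩ := zt_two hz c.pp.prime hσ hne hl
    have hst : ∀ x ∈ (P : Subgroup K), σ x ∈ (P : Subgroup K) := by
      intro x hx
      have h3 : σ x ∈ σ • P := by
        rw [mem_aut_smul, ← MulAut.mul_apply, inv_mul_cancel]; exact hx
      rwa [hσP] at h3
    have h3 := dvd_sub c.pp.prime hσ hst
    have hPc : Nat.card (P : Subgroup K) = Fintype.card F := hz.sylow P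
    have h4 : Nat.card (fixed (P : Subgroup K) (σ ^ l ^ e)) ∣ Fintype.card F :=
      (Subgroup.card_dvd_of_le (fixed_le _ _)).trans (dvd_of_eq hPc)
    rcases (Nat.dvd_prime hp).1 h4 with h6 | h6
    · rw [h6, hPc, ← ht] at h3
      have h7 : l ∣ 2 * t := (dvd_pow_self l (Nat.succ_ne_zero e)).trans h3
      rcases (Nat.Prime.dvd_mul c.pp.prime).1 h7 with h8 | h8
      · exact c.pp.odd ((Nat.prime_dvd_prime_iff_eq c.pp.prime Nat.prime_two).1 h8)
      · apply hl
        rw [hz.card]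
        exact h8.mul_left _
    · apply hne
      refine zt_eq_one hz hQP hαP hαQ ?_
      have h7 : fixed (P : Subgroup K) (σ ^ l ^ e) = P :=
        Subgroup.eq_of_le_of_card_ge (fixed_le _ _) (by rw [h6, hPc])
      intro x hx
      have h8 : x ∈ fixed (P : Subgroup K) (σ ^ l ^ e) := by rw [h7]; exact hx
      exact h8.2
  · have hch : CharP F 2 := by
      have hch := ringChar.charP F
      have h1 : ringChar F ∣ 2 ^ n := by
        rw [← hF, ← CharP.cast_eq_zero_iff F (ringChar F), Nat.cast_card_eq_zero]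
      have h2 : (ringChar F).Prime := CharP.char_is_prime F (ringChar F)
      have h3 : ringChar F = 2 := (Nat.prime_dvd_prime_iff_eq h2 Nat.prime_two).1 (h2.dvd_of_dvd_pow h1)
      rwa [h3] at hch
    obtain ⟨g'⟩ := WeakTI.PslTwo.nonempty_equiv (F := F)
    exact zi_false hc hV hρ c (zi_sl2 (by omega) hF (g'.trans g.symm)) dvd_rfl (by omega) hl hy
  · obtain ⟨m, hm, hz⟩ := zi_sz hs
    refine zi_false hc hV hρ c hz ?_ (by omega) hl hy
    exact Nat.pow_sub_one_dvd_pow_sub_one 2 (dvd_mul_right _ _)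
  · -- `J₁`
    obtain ⟨g, hg⟩ := JInner.inner hJ k hk (MulAut.conjNormal (s ^ l ^ e) : MulAut K)
    have hgc : (MulAut.conj g : MulAut K) = MulAut.conjNormal (s ^ l ^ e) := by
      ext x
      rw [MulAut.conj_apply]
      exact congrArg Subtype.val (hg x).symm
    have hgl : g ^ l = 1 := by
      have h3 : (MulAut.conj (g ^ l) : MulAut K) = 1 := by
        rw [map_pow, hgc, ← map_pow, ← pow_mul, ← pow_succ, c.ord, map_one]
      have h4 : g ^ l ∈ center K := by
        rw [mem_center_iff]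
        intro x
        have h5 : (MulAut.conj (g ^ l) : MulAut K) x = x := by rw [h3]; rfl
        rw [MulAut.conj_apply] at h5
        exact (mul_inv_eq_iff_eq_mul.1 h5).symm
      rwa [FFStruct.center_component hc h2 hK, Subgroup.mem_bot] at h4
    have hg1 : g ≠ 1 := by
      rintro rfl
      apply conj_ne hy
      rw [← hgc, map_one]
    apply hl
    rw [← orderOf_eq_prime hgl hg1]
    exact orderOf_dvd_natCard g

/-- **`y ∈ K`, `E ≤ K`** -/
theorem mem_comp (hc : OddCyc H) (h2 : pCore 2 H = ⊥) (hV : ∀ v : V, v * v = 1) (hρ : Function.Injective ρ)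
    (c : Cfg ρ f l e s E) {K : Subgroup H} (hK : IsComponent K) (hE : ¬ E ≤ centralizer (K : Set H))
    (hk : KZero K) : s ^ l ^ e ∈ K ∧ E ≤ K := by
  have hKn : K.Normal := FFStruct.component_normal hc hK
  have h1 := CompBasic.mem_of_orderOf hc c.pp.prime c.pp.odd hKn (c.dvd_card hc h2 hV hρ hK hE hk) c.orderOf_y
  exact ⟨h1, c.le_of_mem hKn h1⟩

end Cfg

end Cfsg.Agent.OddCyclic.EmpF
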