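import Mathlib
import Cfsg.Agent.OddCyclic.CompBasic

/-!
# (CYC)

`mem_of_perfect`: all odd Sylow subgroups of `X` cyclic, `N` a perfect normal subgroup of `X`, `r` an odd prime dividing
`|N|`: every `r`-element of `X` lies in `N`.
-/

set_option autoImplicit false

namespace Cfsg.Agent.OddCyclic.EmpF

open Subgroup
open Cfsg.Agent.OddCyclic.T1Defs (OddCyc)

theorem mem_of_perfect {X : Type*} [Group X] [Finite X] (hc : OddCyc X) {N : Subgroup X} (hn : N.Normal)
    (hN : ⁅N, N⁆ = N) {r : ℕ} (hr : r.Prime) (hr2 : r ≠ 2) (hrN : r ∣ Nat.card N) {x : X} (hx : ∃ k : ℕ, x ^ r ^ k = 1) :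
    x ∈ N := by
  have hrf : Fact r.Prime := ⟨hr⟩
  obtain ⟨X₁, hX₁⟩ : ∃ X₁, X₁ = N ⊔ zpowers x := ⟨_, rfl⟩
  have hNX : N ≤ X₁ := by rw [hX₁]; exact le_sup_left
  have hxX : x ∈ X₁ := by rw [hX₁]; exact mem_sup_right (mem_zpowers x)
  have hc₁ := CompBasic.oddCyc_subgroup hc X₁
  -- the commutator subgroup of `X₁`
  have h1 : ∀ a ∈ X₁, ∃ i : ℤ, (QuotientGroup.mk a : X ⧸ N) = (QuotientGroup.mk x) ^ i := by
    intro a ha
    rw [hX₁, Subgroup.mem_sup_of_normal_left] at ha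
    obtain ⟨n, hn', b, ⟨i, rfl⟩, rfl⟩ := ha
    refine ⟨i, ?_⟩
    rw [QuotientGroup.mk_mul, (QuotientGroup.eq_one_iff n).2 hn', one_mul]
    rfl
  have h2 : (commutator X₁).map X₁.subtype = N := by
    refine le_antisymm ?_ ?_
    · rw [map_le_iff_le_comap, commutator_def, Subgroup.commutator_le]
      rintro ⟨a, ha⟩ - ⟨b, hb⟩ -
      show a * b * a⁻¹ * b⁻¹ ∈ N
      rw [← QuotientGroup.eq_one_iff]
      obtain ⟨i, hi⟩ := h1 a ha
      obtain ⟨j, hj⟩ := h1 b hb
      rw [QuotientGroup.mk_mul, QuotientGroup.mk_mul, QuotientGroup.mk_mul, QuotientGroup.mk_inv,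
        QuotientGroup.mk_inv, hi, hj]
      group
    · rw [commutator_def, Subgroup.map_commutator, ← MonoidHom.range_eq_map, Subgroup.range_subtype]
      rw [← hN]
      exact Subgroup.commutator_mono hNX hNX
  obtain ⟨P⟩ : Nonempty (Sylow r X₁) := inferInstance
  have hPc : IsCyclic P := hc₁ r P hr hr2
  have h3 : Nat.card (commutator X₁) = Nat.card N := by
    conv_rhs => rw [← h2]
    exact (Subgroup.card_map_of_injective X₁.subtype_injective).symm
  have h4 : ¬ r ∣ (commutator X₁).index :=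
    (Sylow.not_dvd_card_commutator_or_not_dvd_index_commutator P).resolve_left (by rw [h3]; exact fun h => h hrN)
  -- the image of `x` in `X₁/X₁'`
  obtain ⟨k, hk⟩ := hx
  have h5 : (QuotientGroup.mk (⟨x, hxX⟩ : X₁) : X₁ ⧸ commutator X₁) = 1 := by
    rw [← orderOf_eq_one_iff]
    have h6 : orderOf (QuotientGroup.mk (⟨x, hxX⟩ : X₁) : X₁ ⧸ commutator X₁) ∣ r ^ k := by
      apply orderOf_dvd_of_pow_eq_one
      rw [← QuotientGroup.mk_pow]
      have h7 : (⟨x, hxX⟩ : X₁) ^ r ^ k = 1 := Subtype.ext hk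
      rw [h7]; rfl
    have h7 : orderOf (QuotientGroup.mk (⟨x, hxX⟩ : X₁) : X₁ ⧸ commutator X₁) ∣ (commutator X₁).index := by
      rw [Subgroup.index]
      exact orderOf_dvd_natCard _
    obtain ⟨j, -, hj⟩ := (Nat.dvd_prime_pow hr).1 h6
    rcases Nat.eq_zero_or_pos j with h8 | h8
    · rw [hj, h8, pow_zero]
    · exfalso
      apply h4
      rw [hj] at h7
      exact (dvd_pow_self r h8.ne').trans h7
  rw [QuotientGroup.eq_one_iff] at h5
  rw [← h2]
  exact ⟨_, h5, rfl⟩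

end Cfsg.Agent.OddCyclic.EmpF
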