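import Cfsg.Agent.OddCyclic.EmpNSBase

/-!
# (Empty), natural `L₂(q)`: what (5.1), (5.2) deliver

`FDat S F D W f h` : `q = 2 ^ f`, `h` the torus element of order `q - 1` in `N_{L ∩ C_P(F)}(D)`, `D` the Sylow
2-subgroup of `C_{K_P}(F)`, `W = V ∩ W_P`.
-/

set_option autoImplicit false

namespace Cfsg.Agent.OddCyclic.EmpF

open Subgroup Cfsg
open Cfsg.Agent.MinSimple Cfsg.Agent.MinSimple.EmptyTI Cfsg.Agent.MinSimple.EmptySix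
open Cfsg.Agent.MinSimple.EmptyE.Closed (LL)

/-- output of (5.1), (5.2) -/
structure FDat {G : Type*} [Group G] (S F D W : Subgroup G) (f : ℕ) (h : G) : Prop where
  f2 : 2 ≤ f
  hL : h ∈ LL S
  hF : h ∈ centralizer (F : Set G)
  hq : h ^ (2 ^ f - 1) ∈ centralizer (vv S : Set G)
  DL : D ≤ LL S
  DF : D ≤ centralizer (F : Set G)
  pg : IsPGroup 2 D
  nm : ∀ d ∈ D, h * d * h⁻¹ ∈ D
  FW : F ≤ W
  WV : W ≤ vv S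
  hW : ∀ w ∈ W, h * w * h⁻¹ ∈ W
  DW : ∀ d ∈ D, ∀ w ∈ W, d * w * d⁻¹ * w⁻¹ ∈ F
  cW : F.relIndex W = 2 ^ f
  iW : W.relIndex (vv S) ≤ 2 ^ (f - 1)
  reg : ∀ w ∈ W, w ∉ F → ∀ i : ℕ, h ^ i * w * (h ^ i)⁻¹ * w⁻¹ ∈ F → 2 ^ f - 1 ∣ i
  ne : ∃ d ∈ D, ∃ w ∈ W, d * w ≠ w * d

end Cfsg.Agent.OddCyclic.EmpF
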