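import Cfsg.Agent.OddCyclic.EmpF.FrameA
import Cfsg.Agent.OddCyclic.EmpF.FDat
import Cfsg.Agent.OddCyclic.EmpE.Lin
import Cfsg.Agent.OddCyclic.EmpNSEnd

/-!
# (Empty), natural `L₂(q)`: sections 5.1, 5.2 of blueprints/S0342-Empty-NS-helper347.md

`main` : the data `FDat` from `K ≃ SL₂(q)`, `W_P/C(K)` natural.
-/

set_option autoImplicit false
set_option linter.unusedSectionVars false

namespace Cfsg.Agent.OddCyclic.EmpF.Frame

open Subgroup Cfsg Cfsg.Agent.ZN Cfsg.Agent.ZN.ChoiceBase Cfsg.Agent.ZN.ChoiceSit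
open Cfsg.Agent.MinSimple Cfsg.Agent.MinSimple.EmptyTI Cfsg.Agent.MinSimple.EmptySix
open Cfsg.Agent.MinSimple.EmptyE.Closed (LL CC cl mem_cl cl_eq cl_le vv_comm vv_sq vv_mul_self vv_inv
  isPGroup_vv vv_le_jj vv_le jj_le_centralizer_vv conj_mem_vv cj_vv)
open Cfsg.Agent.OddCyclic.EmpFrame
open Cfsg.Agent.OddCyclic.EmpNSBase
open Cfsg.Agent.OddCyclic.EmpNSBase.FP (vv_le_uu ww_le_uu vp_le_ww P_le_uu P_le_ww cj_vv_le_uu cj_vp_le_ww vp_le kk_le_P)
open Cfsg.Agent.OddCyclic.EmpNSCrit Cfsg.Agent.OddCyclic.EmpNSPair Cfsg.Agent.OddCyclic.EmpNSRep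
open Cfsg.Agent.OddCyclic.EmpNSDefs Cfsg.Agent.OddCyclic.EmpNSAct Cfsg.Agent.OddCyclic.EmpNSDir
open Cfsg.Agent.OddCyclic.EmpNSMain Cfsg.Agent.OddCyclic.EmpNSEnd
open Cfsg.Agent.OddCyclic.T1Module (CS mem_CS)
open Cfsg.Agent.OddCyclic.CompBasic (oddCyc_subgroup)
open Cfsg.Agent.OddCyclic.EmpE.Struct (Simp)
open Cfsg.Agent.OddCyclic.EmpE.Lin (Co exists_e ac_mem dg_mem_M exists_up ent_eq_zero mem_upG_of)
open Cfsg.Agent.Lib.SL2Mat Cfsg.Agent.Lib.AutSL2
open Cfsg.Agent.OddCyclic.FFOuter (ac e_ac ac_coe ac_eq_iff)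
open Cfsg.Agent.OddCyclic.EmpF.FrameA

universe u v

/-! ### the group `H` -/

section mat

variable {H : Type u} [Group H] [Finite H] {W : Type*} [CommGroup W] {ρ : H →* MulAut W}
  {Y M C Θ J : Subgroup H} {W₀ : Subgroup W} {K : Subgroup H} {F : Type} [Field F] [Fintype F] [CharP F 2]

local notation "SL2" => Matrix.SpecialLinearGroup (Fin 2) F

/-- `U ≤ Θ` -/
theorem up_mem_Θ (h : HW ρ Y M C Θ J W₀) (s : Simp Y M C K) (h4 : 4 ≤ Fintype.card F) {e : SL2 ≃* K}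
    (c : Co Y e) (hΘ : Θ ≠ ⊥) (b : F) : (e (up b) : H) ∈ Θ := by
  have hn := s.norm
  obtain ⟨⟨t, ht⟩, ht1⟩ := Subgroup.ne_bot_iff_exists_ne_one.1 hΘ
  obtain ⟨a, rfl⟩ := exists_up h s h4 c ht
  have ha : a ≠ 0 := by
    rintro rfl
    apply ht1
    apply Subtype.ext
    show ((e (up 0) : K) : H) = 1
    rw [up_zero, map_one]; rfl
  by_cases hb : b = 0
  · rw [hb, up_zero, map_one]
    exact one_mem _
  obtain ⟨l, hl⟩ := FiniteField.isSquare_of_char_two (ringChar.eq F 2) (b / a)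
  have hl0 : l ≠ 0 := by
    rintro rfl
    rw [mul_zero, div_eq_zero_iff] at hl
    exact hl.elim hb ha
  have h1 := h.Θ_norm _ (dg_mem_M h s h4 c l hl0) _ ht
  have h2 : (e (dg l hl0) : H) * e (up a) * (e (dg l hl0) : H)⁻¹ = e (dg l hl0 * up a * (dg l hl0)⁻¹) := by
    rw [map_mul, map_mul, map_inv]; rfl
  rw [h2, dg_up, mul_inv_cancel_right] at h1
  have h3 : l ^ 2 * a = b := by
    rw [sq, ← hl, div_mul_cancel₀ _ ha]
  rwa [h3] at h1

/-- the 2-elements of `K ∩ Y` lie in `U` -/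
theorem exists_up_of_two (h : HW ρ Y M C Θ J W₀) (s : Simp Y M C K) (h4 : 4 ≤ Fintype.card F) {e : SL2 ≃* K}
    (c : Co Y e) {y : H} (hY : y ∈ Y) (hK : y ∈ K) {n : ℕ} (hn : y ^ 2 ^ n = 1) : ∃ b : F, y = e (up b) := by
  have hKn := s.norm
  have hac := ac_mem h s h4 c hY
  obtain ⟨x, hx⟩ := e.surjective ⟨y, hK⟩
  have hxy : (e x : H) = y := congrArg Subtype.val hx
  have hx0 : ent x 1 0 = 0 := by
    refine ent_eq_zero (c := 1) one_ne_zero ?_
    have h5 := hac (up 1) (up_mem 1)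
    have h6 : ac e y (up 1) = x * up 1 * x⁻¹ := by
      apply e.injective
      apply Subtype.ext
      rw [e_ac, map_mul, map_mul, map_inv, ← hxy]; rfl
    rwa [h6] at h5
  have h5 : x ^ 2 ^ n = 1 := by
    apply e.injective
    apply Subtype.ext
    rw [map_pow, Subgroup.coe_pow, hxy, hn, map_one]; rfl
  obtain ⟨b, hb⟩ := mem_upG_of hx0 h5
  exact ⟨b, by rw [← hxy, hb]⟩

theorem dg_pow (l : F) (hl : l ≠ 0) (n : ℕ) : (dg l hl) ^ n = dg (l ^ n) (pow_ne_zero n hl) := by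
  induction n with
  | zero =>
    rw [pow_zero]
    apply ext_ent <;> simp
  | succ n ih =>
    rw [pow_succ, ih]
    apply ext_ent <;> simp [ent_mul, pow_succ, mul_comm]

theorem dg_mul {a b : F} (ha : a ≠ 0) (hb : b ≠ 0) : dg a ha * dg b hb = dg (a * b) (mul_ne_zero ha hb) := by
  apply ext_ent <;> simp [ent_mul, mul_comm]

theorem dg_eq_one {l : F} {hl : l ≠ 0} : dg l hl = 1 ↔ l = 1 := by
  constructor
  · intro h
    have h1 := congrArg (fun z => ent z 0 0) h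
    simpa using h1
  · rintro rfl
    apply ext_ent <;> simp

end mat

/-! ### `V ∩ W` -/

variable {G : Type u} [Group G] [Finite G] {S : Sylow 2 G} {F T P Θ : Subgroup G} {g : G}
variable {H : Type v} [Group H] [Finite H] {M : Type v} [CommGroup M] [Finite M]
  {ρ : H →* MulAut M} {r : P →* H} {π : ww (S : Subgroup G) F T P →* M}

/-- `V ∩ W_P` -/
abbrev vw (S F T P : Subgroup G) : Subgroup G := vv S ⊓ ww S F T P

section

variable (h : FP S F T P) (R : Rp P (ww (S : Subgroup G) F T P) F ρ r π)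
include h R

omit h in
theorem card_imw {X : Subgroup G} (hX : X ≤ ww (S : Subgroup G) F T P) :
    Nat.card (imw π X) = F.relIndex X := by
  have h1 : (⊥ : Subgroup M).relIndex (imw π X) = ((⊥ : Subgroup M).comap π).relIndex
      (X.subgroupOf (ww (S : Subgroup G) F T P)) := (relIndex_comap _ _ _).symm
  rw [relIndex_bot_left] at h1
  rw [h1, ← relIndex_subgroupOf hX]
  congr 1
  ext ⟨p, hp⟩
  rw [mem_comap, mem_bot, mem_subgroupOf]
  exact R.π_one _

omit h R in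
theorem vw_le : vw (S : Subgroup G) F T P ≤ ww (S : Subgroup G) F T P := inf_le_right

omit R in
theorem F_le_vw : F ≤ vw (S : Subgroup G) F T P := le_inf h.F_le h.F_le_ww

/-- `M` normalises the image of `V ∩ W` -/
theorem inv_vw {m : H} (hm : m ∈ im r (LL (S : Subgroup G))) {w : M} (hw : w ∈ imw π (vw (S : Subgroup G) F T P)) :
    ρ m w ∈ imw π (vw (S : Subgroup G) F T P) := by
  obtain ⟨p, hp, hpL, rfl⟩ := mem_im.1 hm
  obtain ⟨v, hv, hvV, rfl⟩ := mem_imw.1 hw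
  rw [R.act ⟨p, hp⟩ ⟨v, hv⟩ (conj_ww hp hv)]
  exact mem_imw_of (conj_ww hp hv) ⟨(mem_normalizer_iff.1 hpL v).1 hvV.1, conj_ww hp hv⟩

theorem fix_vw {y : H} (hy : y ∈ im r (centralizer (vv (S : Subgroup G) : Set G))) {w : M}
    (hw : w ∈ imw π (vw (S : Subgroup G) F T P)) : ρ y w = w := by
  obtain ⟨p, hp, hpC, rfl⟩ := mem_im.1 hy
  obtain ⟨v, hv, hvV, rfl⟩ := mem_imw.1 hw
  rw [Rp.fix_iff R hp hv (conj_ww hp hv), ← mem_centralizer_iff.1 hpC v hvV.1, mul_inv_cancel_right, mul_inv_cancel]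
  exact one_mem _

/-- no element `≠ 1` of the image of `V ∩ W` is fixed by a subgroup `K ≰ M` -/
theorem inf_CS {K : Subgroup H} (hK : ¬ K ≤ im r (LL (S : Subgroup G))) :
    imw π (vw (S : Subgroup G) F T P) ⊓ CS ρ K = ⊥ := by
  rw [eq_bot_iff]
  rintro _ ⟨hx, hxK⟩
  obtain ⟨v, hv, hvV, rfl⟩ := mem_imw.1 hx
  rw [mem_bot, R.π_one]
  by_contra hvF
  obtain ⟨D, hD⟩ : ∃ D : Subgroup G, D = ((CS ρ K).comap π).map (ww (S : Subgroup G) F T P).subtype ⊓
    vv (S : Subgroup G) := ⟨_, rfl⟩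
  have hmD : ∀ x : G, x ∈ D ↔ x ∈ vv (S : Subgroup G) ∧ ∃ hx : x ∈ ww (S : Subgroup G) F T P, π ⟨x, hx⟩ ∈ CS ρ K := by
    intro x
    rw [hD, mem_inf]
    constructor
    · rintro ⟨⟨⟨y, hy⟩, hyK, rfl⟩, h2⟩
      exact ⟨h2, hy, hyK⟩
    · rintro ⟨h2, hy, hyK⟩
      exact ⟨⟨⟨x, hy⟩, hyK, rfl⟩, h2⟩
  have hFD : F ≤ D := by
    intro f hf
    refine (hmD f).2 ⟨h.F_le hf, h.F_le_ww hf, ?_⟩
    rw [(R.π_one ⟨f, h.F_le_ww hf⟩).2 hf]
    exact one_mem _
  have hDV : D ≤ vv (S : Subgroup G) := hD ▸ inf_le_right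
  have hgood := h.good_of_mem hFD hDV ((hmD v).2 ⟨hvV.1, hv, hxK⟩) hvF
  have hN := hgood.normalizer_le hDV
  apply hK
  intro k hk
  obtain ⟨p, hp, rfl⟩ := exists_rep r R.r_surj k
  refine mem_im_of hp (hN ?_)
  apply mem_normalizer_fintype
  intro x hx
  obtain ⟨hxV, hxW, hxK'⟩ := (hmD x).1 hx
  have h1 : p * x * p⁻¹ * x⁻¹ ∈ F := (Rp.fix_iff R hp hxW (conj_ww hp hxW)).1 (hxK' _ hk)
  have h2 : p * x * p⁻¹ = p * x * p⁻¹ * x⁻¹ * x := by group
  rw [SetLike.mem_coe, h2]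
  exact mul_mem (hFD h1) hx

end

section

variable {K : Subgroup H} {F' : Type} [Field F'] [Fintype F'] [CharP F' 2]

local notation "SL2" => Matrix.SpecialLinearGroup (Fin 2) F'

variable (h : FP S F T P) (R : Rp P (ww (S : Subgroup G) F T P) F ρ r π)
  (s : Simp (im r (centralizer (vv (S : Subgroup G) : Set G) ⊔ T)) (im r (LL (S : Subgroup G)))
    (im r (centralizer (F : Set G))) K)
  (fpf : ∀ t ∈ K, Odd (orderOf t) → t ≠ 1 → ∀ w : M, ρ t w = w → w ∈ CS ρ K)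
include h R s fpf

/-- elements of odd order of `K` have no fixed points on `V ∩ W` -/
theorem eq_one_of_fix {t : H} (ht : t ∈ K) (hto : Odd (orderOf t)) {w : M}
    (hw : w ∈ imw π (vw (S : Subgroup G) F T P)) (hw1 : w ≠ 1) (hf : ρ t w = w) : t = 1 := by
  by_contra ht1
  have h1 := fpf t ht hto ht1 w hf
  have h2 : w ∈ imw π (vw (S : Subgroup G) F T P) ⊓ CS ρ K := ⟨hw, h1⟩
  rw [inf_CS h R s.notM, mem_bot] at h2
  exact hw1 h2

omit fpf in
/-- an element `≠ 1` of the image of `V_+` -/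
theorem exists_w : ∃ v, ∃ hv : v ∈ ww (S : Subgroup G) F T P, v ∈ vw (S : Subgroup G) F T P ∧ v ∉ F ∧
    π ⟨v, hv⟩ ≠ 1 := by
  obtain ⟨v, hv, hvF⟩ := h.exists_vp
  have hvW := vp_le_ww (P := P) hv
  exact ⟨v, hvW, ⟨vp_le hv, hvW⟩, hvF, fun h1 => hvF ((R.π_one _).1 h1)⟩

omit [CharP F' 2] in
theorem odd_order_dg [CharP F' 2] {e : SL2 ≃* K} (l : F') (hl : l ≠ 0) : Odd (orderOf (e (dg l hl) : H)) := by
  have h1 : (e (dg l hl) : H) ^ (Fintype.card F' - 1) = 1 := by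
    rw [← Subgroup.coe_pow, ← map_pow, dg_pow, dg_eq_one.2 (FiniteField.pow_card_sub_one_eq_one l hl), map_one]
    rfl
  refine Odd.of_dvd_nat ?_ (orderOf_dvd_of_pow_eq_one h1)
  obtain ⟨n, -, hn⟩ := FiniteField.card F' 2
  rw [hn]
  have h2 : 0 < (n : ℕ) := n.2
  exact Nat.Even.sub_odd Nat.one_le_two_pow ((Nat.even_pow.2 ⟨even_two, h2.ne'⟩)) odd_one

/-- `|V ∩ W : F| = q` -/
theorem card_vw (hw : HW ρ (im r (centralizer (vv (S : Subgroup G) : Set G) ⊔ T)) (im r (LL (S : Subgroup G)))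
      (im r (centralizer (F : Set G))) (im r Θ) (im r (jj (S : Subgroup G))) (imw π (vp (S : Subgroup G) F T)))
    (h4 : 4 ≤ Fintype.card F') {e : SL2 ≃* K}
    (co : Co (im r (centralizer (vv (S : Subgroup G) : Set G) ⊔ T)) e) (hΘ : im r Θ ≠ ⊥)
    (hΘC : Θ ≤ centralizer (vv (S : Subgroup G) : Set G))
    (cent : ∀ (P₀ : Sylow 2 K) (X : Subgroup M), (∀ w ∈ X, ∀ u ∈ (P₀ : Subgroup K), ρ (u : H) w = w) →
      X ⊓ CS ρ K = ⊥ → Nat.card X ≤ Fintype.card F') :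
    F.relIndex (vw (S : Subgroup G) F T P) = Fintype.card F' := by
  classical
  have hf2 : Fact (Nat.Prime 2) := ⟨Nat.prime_two⟩
  rw [← card_imw R vw_le]
  apply le_antisymm
  · have hsurj : Function.Surjective e.toMonoidHom := e.surjective
    refine cent ((sylU F' 2).mapSurjective hsurj) _ ?_ (inf_CS h R s.notM)
    intro w hw' u hu
    have hu' : u ∈ ((sylU F' 2 : Sylow 2 SL2) : Subgroup SL2).map e.toMonoidHom := hu
    obtain ⟨x, ⟨b, rfl⟩, rfl⟩ := hu'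
    exact fix_vw h R (im_mono hΘC (up_mem_Θ hw s h4 co hΘ b)) hw'
  · obtain ⟨v, hvW, hv, hvF, hv1⟩ := exists_w h R s
    have hinv : ∀ x (hx : x ≠ 0), ρ (e (dg x hx)) (π ⟨v, hvW⟩) ∈ imw π (vw (S : Subgroup G) F T P) := fun x hx => by
      have := s.norm
      exact inv_vw h R (dg_mem_M hw s h4 co x hx) (mem_imw_of hvW hv)
    rw [← Nat.card_eq_fintype_card]
    refine Nat.card_le_card_of_injective (fun x : F' => if hx : x = 0 then
      (1 : imw π (vw (S : Subgroup G) F T P)) else ⟨ρ (e (dg x hx)) (π ⟨v, hvW⟩), hinv x hx⟩) ?_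
    have hne : ∀ x (hx : x ≠ 0), ρ (e (dg x hx)) (π ⟨v, hvW⟩) ≠ 1 := by
      intro x hx h1
      apply hv1
      apply (ρ (e (dg x hx) : H)).injective
      rw [h1, map_one]
    intro x y hxy
    by_cases hx : x = 0
    · by_cases hy : y = 0
      · rw [hx, hy]
      · simp only [hx, hy, dite_true, dite_false] at hxy
        exact absurd (congrArg Subtype.val hxy).symm (hne y hy)
    · by_cases hy : y = 0
      · simp only [hx, hy, dite_true, dite_false] at hxy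
        exact absurd (congrArg Subtype.val hxy) (hne x hx)
      · simp only [hx, hy, dite_false] at hxy
        have h1 : ρ (e (dg x hx) : H) (π ⟨v, hvW⟩) = ρ (e (dg y hy) : H) (π ⟨v, hvW⟩) := congrArg Subtype.val hxy
        have hz : y⁻¹ * x ≠ 0 := mul_ne_zero (inv_ne_zero hy) hx
        have h2 : dg y hy * dg (y⁻¹ * x) hz = dg x hx := by
          rw [dg_mul]
          have e1 : y * (y⁻¹ * x) = x := mul_inv_cancel_left₀ hy x
          simp only [e1]
        have h3 : ρ (e (dg (y⁻¹ * x) hz) : H) (π ⟨v, hvW⟩) = π ⟨v, hvW⟩ := by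
          apply (ρ (e (dg y hy) : H)).injective
          rw [← MulAut.mul_apply, ← map_mul, ← Subgroup.coe_mul, ← map_mul, h2, h1]
        have h4' := eq_one_of_fix h R s fpf (e (dg (y⁻¹ * x) hz)).2 (odd_order_dg h R s fpf _ hz)
          (mem_imw_of hvW hv) hv1 h3
        have h5 : dg (y⁻¹ * x) hz = 1 := by
          apply e.injective
          apply Subtype.ext
          rw [h4', map_one]; rfl
        rw [dg_eq_one] at h5
        exact (inv_mul_eq_one₀ hy).1 h5 |>.symm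

end

/-! ### the 2-groups -/

section

variable (h : FP S F T P)
include h

theorem cld_F : cld (S : Subgroup G) F = F := by
  have h1 : ¬ Good (S : Subgroup G) (cld (S : Subgroup G) F) := by
    intro h2
    apply h.bad
    have h3 : cld (S : Subgroup G) (cld (S : Subgroup G) F) = vv (S : Subgroup G) := h2
    rwa [cld_cld h.F_le] at h3
  exact (Subgroup.eq_of_le_of_card_ge (le_cld h.F_le) (h.max _ (cld_le _ _) h1)).symm

theorem syl_TF : Syl (T ⊓ centralizer (F : Set G)) (centralizer (F : Set G)) :=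
  syl_inf h.syl (centralizer_le_normalizer _) (by
    intro x hx
    rw [mem_normalizer_iff_cj, cj_centralizer, cj_eq_of_mem_normalizer hx])

/-- `C_V(T_F) = F` -/
theorem inf_TF : vv (S : Subgroup G) ⊓ centralizer ((T ⊓ centralizer (F : Set G) : Subgroup G) : Set G) ≤ F := by
  have h1 : Syl (T ⊓ centralizer (F : Set G)) (LL (S : Subgroup G) ⊓ centralizer (F : Set G)) :=
    syl_mono (syl_TF h) (inf_le_inf_right _ h.T_le_LL) inf_le_right
  have h2 := h.ens.inf_centralizer_le_cld h.F_le h.F_ne h1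
  rwa [cld_F h] at h2

/-- `C_{K_P}(F)` -/
theorem P_le_kF : P ≤ normalizer ((kk (S : Subgroup G) F T P ⊓ centralizer (F : Set G) : Subgroup G) : Set G) := by
  intro x hx
  rw [mem_normalizer_iff_cj, cj_inf, cj_centralizer, cj_eq_of_mem_normalizer (h.P_le_kk hx),
    cj_eq_of_mem_normalizer (h.P_le_N hx)]

end

/-- `T_F` -/
abbrev tF (F T : Subgroup G) : Subgroup G := T ⊓ centralizer (F : Set G)

/-- `C_{K_P}(F)` -/
abbrev kF (S F T P : Subgroup G) : Subgroup G := kk S F T P ⊓ centralizer (F : Set G)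

/-- `D` -/
abbrev dD (S F T P : Subgroup G) : Subgroup G := tF F T ⊓ kF S F T P

/-- `N_{L ∩ C_P(F)}(D)` -/
abbrev gG (S F T P : Subgroup G) : Subgroup G :=
  (LL S ⊓ P ⊓ centralizer (F : Set G)) ⊓ normalizer (dD S F T P : Set G)

section

variable (h : FP S F T P)
include h

theorem tF_le_gG : tF F T ≤ gG (S : Subgroup G) F T P := by
  refine le_inf (le_inf (le_inf ?_ ?_) inf_le_right) ?_
  · exact inf_le_left.trans h.T_le_LL
  · exact inf_le_left.trans h.T_le_P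
  · intro x hx
    have h1 := P_le_kF h (h.T_le_P hx.1)
    rw [mem_normalizer_iff_cj] at h1 ⊢
    rw [dD, cj_inf, h1, cj_eq_of_mem_normalizer (le_normalizer hx)]

theorem syl_D : Syl (dD (S : Subgroup G) F T P) (kF (S : Subgroup G) F T P) := by
  have h1 : Syl (tF F T) (P ⊓ centralizer (F : Set G)) :=
    syl_mono (syl_TF h) (inf_le_inf_right _ h.T_le_P) inf_le_right
  exact syl_inf h1 (inf_le_inf_right _ kk_le_P) (inf_le_left.trans (P_le_kF h))

end

section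

variable {K : Subgroup H} {F' : Type} [Field F'] [Fintype F'] [CharP F' 2]

local notation "SL2" => Matrix.SpecialLinearGroup (Fin 2) F'

/-- `[C_V(D), x] = 1` for `x ∈ N_{L ∩ C_P(F)}(D)` mapping into `K` -/
theorem comm_of_mem (h : FP S F T P) (R : Rp P (ww (S : Subgroup G) F T P) F ρ r π)
    (s : Simp (im r (centralizer (vv (S : Subgroup G) : Set G) ⊔ T)) (im r (LL (S : Subgroup G)))
      (im r (centralizer (F : Set G))) K)
    (hw : HW ρ (im r (centralizer (vv (S : Subgroup G) : Set G) ⊔ T)) (im r (LL (S : Subgroup G)))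
      (im r (centralizer (F : Set G))) (im r Θ) (im r (jj (S : Subgroup G))) (imw π (vp (S : Subgroup G) F T)))
    (h4 : 4 ≤ Fintype.card F') {e : SL2 ≃* K}
    (co : Co (im r (centralizer (vv (S : Subgroup G) : Set G) ⊔ T)) e) (hΘ : im r Θ ≠ ⊥)
    (hΘC : Θ ≤ centralizer (vv (S : Subgroup G) : Set G)) {x : G} (hx : x ∈ gG (S : Subgroup G) F T P)
    (hxK : r ⟨x, hx.1.1.2⟩ ∈ K) {v : G} (hv : v ∈ vv (S : Subgroup G))
    (hvD : v ∈ centralizer (dD (S : Subgroup G) F T P : Set G)) : x * v * x⁻¹ = v := by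
  have hKn := s.norm
  obtain ⟨X, hX⟩ : ∃ X, X = vv (S : Subgroup G) ⊓ centralizer (dD (S : Subgroup G) F T P : Set G) := ⟨_, rfl⟩
  obtain ⟨G1, hG1⟩ : ∃ G1, G1 = gG (S : Subgroup G) F T P ⊓ (K.comap r).map P.subtype := ⟨_, rfl⟩
  have hmG : ∀ y, y ∈ G1 ↔ ∃ hy : y ∈ gG (S : Subgroup G) F T P, r ⟨y, hy.1.1.2⟩ ∈ K := by
    intro y
    rw [hG1, mem_inf]
    constructor
    · rintro ⟨h1, ⟨z, hzP⟩, hz, rfl⟩
      exact ⟨h1, hz⟩
    · rintro ⟨h1, h2⟩
      exact ⟨h1, ⟨⟨y, h1.1.1.2⟩, h2, rfl⟩⟩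
  have hG1g : G1 ≤ gG (S : Subgroup G) F T P := hG1 ▸ inf_le_left
  have hgX : gG (S : Subgroup G) F T P ≤ normalizer (X : Set G) := by
    intro y hy
    rw [mem_normalizer_iff_cj, hX, cj_inf, cj_centralizer, mem_normalizer_iff_cj.1 hy.2,
      mem_normalizer_iff_cj.1 hy.1.1.1]
  have hgb : gG (S : Subgroup G) F T P ≤ normalizer ((⊥ : Subgroup G) : Set G) := by
    rw [normalizer_eq_top_iff.2 inferInstance]
    exact le_top
  have hgG1 : gG (S : Subgroup G) F T P ≤ normalizer (G1 : Set G) := by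
    intro y hy
    apply mem_normalizer_fintype
    intro z hz
    obtain ⟨hz1, hz2⟩ := (hmG z).1 hz
    refine (hmG _).2 ⟨mul_mem (mul_mem hy hz1) (inv_mem hy), ?_⟩
    have h1 := hKn.conj_mem _ hz2 (r ⟨y, hy.1.1.2⟩)
    rw [← map_inv, ← map_mul, ← map_mul] at h1
    exact h1
  obtain ⟨M₁, _, _, H₁, _, _, ρ₁, r₁, π₁, R₁⟩ := exists_rp hgX hgb (fun a ha b hb => by
    rw [hX] at ha hb
    exact vv_comm ha.1 hb.1)
  have hcj : ∀ {p w : G}, p ∈ gG (S : Subgroup G) F T P → w ∈ X → p * w * p⁻¹ ∈ X := fun {p w} hp hw =>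
    (mem_normalizer_iff.1 (hgX hp) w).1 hw
  have hfx : ∀ {p w : G} (hp : p ∈ gG (S : Subgroup G) F T P) (hw : w ∈ X),
      ρ₁ (r₁ ⟨p, hp⟩) (π₁ ⟨w, hw⟩) = π₁ ⟨w, hw⟩ ↔ p * w * p⁻¹ = w := by
    intro p w hp hw
    rw [Rp.fix_iff R₁ hp hw (hcj hp hw), mem_bot, mul_inv_eq_one]
  -- the Sylow subgroup of `G1`
  have hTg := tF_le_gG h
  have hsyl : Syl (tF F T ⊓ G1) G1 :=
    syl_inf (syl_mono (syl_TF h) hTg (inf_le_left.trans inf_le_right)) hG1g hgG1
  have hDV : dD (S : Subgroup G) F T P ≤ tF F T ⊓ G1 := by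
    intro d hd
    refine ⟨hd.1, (hmG d).2 ⟨hTg hd.1, ?_⟩⟩
    rw [(r_eq_one h R _).2 hd.2.1]
    exact one_mem _
  have hLC : LL (S : Subgroup G) ≤ normalizer (centralizer (vv (S : Subgroup G) : Set G) : Set G) := by
    intro y hy
    rw [mem_normalizer_iff_cj, cj_centralizer, mem_normalizer_iff_cj.1 hy]
  have hact : ∀ a ∈ tF F T ⊓ G1, ∀ w ∈ X, a * w * a⁻¹ = w := by
    have h1 := exists_mul (C := centralizer (vv (S : Subgroup G) : Set G)) (L := LL (S : Subgroup G)) (syl_D h)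
      (inf_le_left.trans h.kk_le_LL) hLC hsyl.2.1
      (inf_le_left.trans (inf_le_left.trans h.T_le_LL)) hDV ?_
    · intro a ha w hw
      obtain ⟨d, hd, hdc⟩ := h1 a ha
      rw [hX] at hw
      have e1 : a * w * a⁻¹ = d * ((d⁻¹ * a) * w * (d⁻¹ * a)⁻¹) * d⁻¹ := by group
      rw [e1, ← mem_centralizer_iff.1 hdc w hw.1, mul_inv_cancel_right, mem_centralizer_iff.1 hw.2 d hd,
        mul_inv_cancel_right]
    · intro a ha
      obtain ⟨ha1, ha2⟩ := (hmG a).1 ha.2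
      have haP : a ∈ P := ha1.1.1.2
      obtain ⟨n, hn⟩ := h.T_two ⟨a, ha.1.1⟩
      have hn : a ^ 2 ^ n = 1 := congrArg Subtype.val hn
      have hY : r ⟨a, haP⟩ ∈ im r (centralizer (vv (S : Subgroup G) : Set G) ⊔ T) :=
        mem_im_of haP (mem_sup_right ha.1.1)
      have h2 : (r ⟨a, haP⟩) ^ 2 ^ n = 1 := by
        rw [← map_pow]
        have e1 : (⟨a, haP⟩ : P) ^ 2 ^ n = 1 := Subtype.ext hn
        rw [e1, map_one]
      obtain ⟨b, hb⟩ := exists_up_of_two hw s h4 co hY ha2 h2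
      have h3 := up_mem_Θ hw s h4 co hΘ b
      rw [← hb] at h3
      obtain ⟨t, htP, ht, h5⟩ := mem_im.1 h3
      have h6 : a * t⁻¹ ∈ kk (S : Subgroup G) F T P := by
        rw [← r_eq_one h R (mul_mem haP (inv_mem htP))]
        have e1 : (⟨a * t⁻¹, mul_mem haP (inv_mem htP)⟩ : P) = ⟨a, haP⟩ * (⟨t, htP⟩ : P)⁻¹ := rfl
        rw [e1, map_mul, map_inv, h5, mul_inv_cancel]
      have htC : t ∈ centralizer (vv (S : Subgroup G) : Set G) := hΘC ht
      refine ⟨a * t⁻¹, Subgroup.mem_inf.2 ⟨h6, mul_mem ha.1.2 (inv_mem (centralizer_le h.F_le htC))⟩, ?_⟩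
      have e2 : (a * t⁻¹)⁻¹ * a = t := by group
      rwa [e2]
  -- averaging
  have hO : (im r₁ G1).Normal := by
    refine ⟨fun y hy z => ?_⟩
    obtain ⟨p, hp, hpG, rfl⟩ := mem_im.1 hy
    obtain ⟨q, hq, rfl⟩ := exists_rep r₁ R₁.r_surj z
    rw [← map_inv, ← map_mul, ← map_mul]
    exact mem_im_of (mul_mem (mul_mem hq hp) (inv_mem hq)) ((mem_normalizer_iff.1 (hgG1 hq) p).1 hpG)
  have hodd : Odd (Nat.card (im r₁ G1)) := by
    have h1 : Syl (im r₁ (tF F T ⊓ G1)) (im r₁ G1) :=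
      Cfsg.Agent.MinSimple.EmptyE.Plug.syl_map r₁ (syl_subgroupOf hsyl hG1g)
    have h2 : im r₁ (tF F T ⊓ G1) = ⊥ := by
      rw [eq_bot_iff]
      intro y hy
      obtain ⟨p, hp, hpT, rfl⟩ := mem_im.1 hy
      rw [mem_bot]
      apply R₁.inj
      rw [map_one]
      ext m
      obtain ⟨⟨w, hw⟩, rfl⟩ := R₁.π_surj m
      exact (hfx hp hw).2 (hact p hpT w hw)
    have h3 := syl_not_dvd h1
    rw [h2, relIndex_bot_left] at h3
    exact Nat.not_even_iff_odd.1 fun h4 => h3 h4.two_dvd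
  have hT2 : IsPGroup 2 (im r₁ (tF F T)) :=
    ((h.T_two.to_le inf_le_left).comap_of_injective _ (Subgroup.subtype_injective _)).map _
  have hsq : ∀ m : M₁, m * m = 1 := by
    intro m
    obtain ⟨⟨w, hw⟩, rfl⟩ := R₁.π_surj m
    rw [← map_mul]
    have e1 : (⟨w, hw⟩ : X) * ⟨w, hw⟩ = 1 := by
      apply Subtype.ext
      rw [hX] at hw
      exact vv_mul_self hw.1
    rw [e1, map_one]
  have key := avg ρ₁ hsq hO hodd hT2 ?_
  · have hvX : v ∈ X := by rw [hX]; exact ⟨hv, hvD⟩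
    exact (hfx hx hvX).1 (key _ (mem_im_of hx ((hmG x).2 ⟨hx, hxK⟩)) _)
  · intro m hm o ho
    obtain ⟨⟨w, hw⟩, rfl⟩ := R₁.π_surj m
    obtain ⟨p, hp, hpG, rfl⟩ := mem_im.1 ho
    rw [hfx hp hw]
    have hwF : w ∈ F := by
      apply inf_TF h
      refine Subgroup.mem_inf.2 ⟨?_, ?_⟩
      · rw [hX] at hw
        exact hw.1
      · rw [mem_centralizer_iff]
        intro t ht
        have h1 := (hfx (hTg ht) hw).1 (hm _ (mem_im_of (hTg ht) ht))
        exact mul_inv_eq_iff_eq_mul.1 h1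
    rw [← mem_centralizer_iff.1 hp.1.2 w hwF, mul_inv_cancel_right]

/-- **sections 5.1, 5.2** -/
theorem main (h : FP S F T P) (R : Rp P (ww (S : Subgroup G) F T P) F ρ r π)
    (hΘC : Θ ≤ centralizer (vv (S : Subgroup G) : Set G))
    (hw : HW ρ (im r (centralizer (vv (S : Subgroup G) : Set G) ⊔ T)) (im r (LL (S : Subgroup G)))
      (im r (centralizer (F : Set G))) (im r Θ) (im r (jj (S : Subgroup G))) (imw π (vp (S : Subgroup G) F T)))
    (nat : NatCase ρ (im r (centralizer (vv (S : Subgroup G) : Set G) ⊔ T)) (im r (LL (S : Subgroup G)))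
      (im r (centralizer (F : Set G))) (im r Θ) K F') (hΘ : im r Θ ≠ ⊥)
    (hδ : 2 * F.relIndex (vv (S : Subgroup G)) ≤ Fintype.card F' ^ 2)
    (fpf : ∀ t ∈ K, Odd (orderOf t) → t ≠ 1 → ∀ w : M, ρ t w = w → w ∈ CS ρ K)
    (cent : ∀ (P₀ : Sylow 2 K) (X : Subgroup M), (∀ w ∈ X, ∀ u ∈ (P₀ : Subgroup K), ρ (u : H) w = w) →
      X ⊓ CS ρ K = ⊥ → Nat.card X ≤ Fintype.card F') :
    ∃ (D : Subgroup G) (f : ℕ) (x : G), 2 ^ f = Fintype.card F' ∧
      FDat (S : Subgroup G) F D (vv (S : Subgroup G) ⊓ ww (S : Subgroup G) F T P) f x := by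
  classical
  obtain ⟨e₀⟩ := nat.iso
  have s := nat.simp
  have h4 := nat.four
  have hKn := s.norm
  obtain ⟨e, he⟩ := exists_e hw s e₀
  have co : Co (im r (centralizer (vv (S : Subgroup G) : Set G) ⊔ T)) e := ⟨he⟩
  obtain ⟨f', -, hf'⟩ := FiniteField.card F' 2
  obtain ⟨f, hff⟩ : ∃ f : ℕ, f = (f' : ℕ) := ⟨_, rfl⟩
  rw [← hff] at hf'
  have hf2 : 2 ≤ f := by
    by_contra hcon
    rw [hf'] at h4
    have h5 : (2 : ℕ) ^ f ≤ 2 ^ 1 := Nat.pow_le_pow_right (by norm_num) (by omega)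
    omega
  have hq4 : 4 ≤ 2 ^ f := hf' ▸ h4
  have hcw := card_vw h R s fpf hw h4 co hΘ hΘC cent
  rw [hf'] at hcw
  -- the torus
  obtain ⟨l, hl⟩ := IsCyclic.exists_ofOrder_eq_natCard (α := F'ˣ)
  rw [Nat.card_eq_fintype_card, Fintype.card_units, hf'] at hl
  obtain ⟨τ, hτ⟩ : ∃ τ : H, τ = e (dg (l : F') l.ne_zero) := ⟨_, rfl⟩
  have hτK : τ ∈ K := by rw [hτ]; exact (e _).2
  have hτM : τ ∈ im r (LL (S : Subgroup G)) := by rw [hτ]; exact dg_mem_M hw s h4 co _ _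
  have hτo : orderOf τ = 2 ^ f - 1 := by
    rw [← hl, orderOf_eq_orderOf_iff]
    intro n
    rw [hτ, ← Subgroup.coe_pow, ← map_pow, dg_pow]
    constructor
    · intro h1
      have h2 : dg ((l : F') ^ n) (pow_ne_zero n l.ne_zero) = 1 := by
        apply e.injective
        apply Subtype.ext
        rw [h1, map_one]; rfl
      rw [dg_eq_one] at h2
      exact Units.ext (by rw [Units.val_pow_eq_pow_val, h2, Units.val_one])
    · intro h1
      have h2 : (l : F') ^ n = 1 := by rw [← Units.val_pow_eq_pow_val, h1, Units.val_one]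
      rw [dg_eq_one.2 h2, map_one]; rfl
  -- lift into `L ∩ C_P(F)`
  obtain ⟨p, hpP, hpF, hpr⟩ := mem_im.1 (s.leC hτK)
  have hpL : p ∈ LL (S : Subgroup G) := (mem_im_iff h R h.kk_le_LL hpP).1 (by rw [hpr]; exact hτM)
  have hTX : tF F T ≤ LL (S : Subgroup G) ⊓ P ⊓ centralizer (F : Set G) := (tF_le_gG h).trans inf_le_left
  obtain ⟨k, hk, n, hn, hpn⟩ := exists_frattini hTX (h.T_two.to_le inf_le_left)
    (syl_not_dvd (syl_mono (syl_TF h) hTX inf_le_right)) (L := kF (S : Subgroup G) F T P)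
    (inf_le_left.trans (inf_le_right.trans (P_le_kF h))) (x := p)
    (Subgroup.mem_inf.2 ⟨Subgroup.mem_inf.2 ⟨hpL, hpP⟩, hpF⟩)
  have hng : n ∈ gG (S : Subgroup G) F T P := hn
  have hnP : n ∈ P := hng.1.1.2
  have hkP : k ∈ P := kk_le_P hk.1
  have hnr : r ⟨n, hnP⟩ = τ := by
    have e1 : (⟨p, hpP⟩ : P) = ⟨k, hkP⟩ * ⟨n, hnP⟩ := Subtype.ext hpn
    rw [← hpr, e1, map_mul, (r_eq_one h R hkP).2 hk.1, one_mul]
  -- the order
  obtain ⟨m, hm⟩ : ∃ m : ℕ, m = orderOf (n ^ (2 ^ f - 1)) := ⟨_, rfl⟩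
  have hco : (2 ^ f - 1).Coprime m := by
    by_contra hcon
    obtain ⟨q, hq, hq1, hq2⟩ := Nat.Prime.not_coprime_iff_dvd.1 hcon
    have hq2' : q ≠ 2 := by
      rintro rfl
      have h5 : Odd (2 ^ f - 1) := Nat.Even.sub_odd Nat.one_le_two_pow (Nat.even_pow.2 ⟨even_two, by omega⟩) odd_one
      exact (Nat.not_even_iff_odd.2 h5) (even_iff_two_dvd.2 hq1)
    have hqK : q ∣ Nat.card K := by
      have h5 := Subgroup.orderOf_dvd_natCard K hτK
      rw [hτo] at h5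
      exact hq1.trans h5
    refine not_dvd_ker (oddCyc_subgroup h.ens.hyp.cyc P) r
      (by rw [MonoidHom.range_eq_top.2 R.r_surj]; exact le_top) s.simp s.nab hq hq2' hqK ?_
    have h6 : (⟨n, hnP⟩ : P) ^ (2 ^ f - 1) ∈ r.ker := by
      rw [MonoidHom.mem_ker, map_pow, hnr, ← hτo, pow_orderOf_eq_one]
    have h7 := Subgroup.orderOf_dvd_natCard r.ker h6
    have h8 : orderOf ((⟨n, hnP⟩ : P) ^ (2 ^ f - 1)) = m := by
      rw [hm, ← Subgroup.orderOf_coe, Subgroup.coe_pow]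
    rw [h8] at h7
    exact hq2.trans h7
  obtain ⟨x, hx⟩ : ∃ x, x = n ^ m := ⟨_, rfl⟩
  have hxg : x ∈ gG (S : Subgroup G) F T P := by rw [hx]; exact pow_mem hng m
  have hxP : x ∈ P := hxg.1.1.2
  have hxr : r ⟨x, hxP⟩ = τ ^ m := by
    have e1 : (⟨x, hxP⟩ : P) = ⟨n, hnP⟩ ^ m := Subtype.ext hx
    rw [e1, map_pow, hnr]
  have hx1 : x ^ (2 ^ f - 1) = 1 := by
    rw [hx, ← pow_mul, mul_comm, pow_mul, hm, pow_orderOf_eq_one]
  have hxo : orderOf (r ⟨x, hxP⟩) = 2 ^ f - 1 := by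
    rw [hxr, Nat.Coprime.orderOf_pow (by rw [hτo]; exact hco), hτo]
  have hodd : Odd (2 ^ f - 1) := Nat.Even.sub_odd Nat.one_le_two_pow (Nat.even_pow.2 ⟨even_two, by omega⟩) odd_one
  have hxK : r ⟨x, hxP⟩ ∈ K := by rw [hxr]; exact pow_mem hτK m
  -- fixed points
  have hreg : ∀ w ∈ vw (S : Subgroup G) F T P, w ∉ F → ∀ i : ℕ, x ^ i * w * (x ^ i)⁻¹ * w⁻¹ ∈ F → 2 ^ f - 1 ∣ i := by
    intro w hw' hwF i hi
    have hwW : w ∈ ww (S : Subgroup G) F T P := hw'.2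
    have hxi : x ^ i ∈ P := pow_mem hxP i
    have h5 := (Rp.fix_iff R hxi hwW (conj_ww hxi hwW)).2 hi
    have e1 : (⟨x ^ i, hxi⟩ : P) = ⟨x, hxP⟩ ^ i := rfl
    rw [e1, map_pow] at h5
    rw [← hxo]
    apply orderOf_dvd_of_pow_eq_one
    refine eq_one_of_fix h R s fpf (pow_mem hxK i) ?_ (mem_imw_of hwW hw') (fun h6 => hwF ((R.π_one _).1 h6)) h5
    exact Odd.of_dvd_nat (hxo ▸ hodd) (orderOf_pow_dvd i)
  refine ⟨dD (S : Subgroup G) F T P, f, x, hf'.symm, ?_⟩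
  exact
    { f2 := hf2
      hL := hxg.1.1.1
      hF := hxg.1.2
      hq := by rw [hx1]; exact one_mem _
      DL := inf_le_right.trans (inf_le_left.trans h.kk_le_LL)
      DF := inf_le_left.trans inf_le_right
      pg := h.T_two.to_le (inf_le_left.trans inf_le_left)
      nm := fun d hd => (mem_normalizer_iff.1 hxg.2 d).1 hd
      FW := F_le_vw h
      WV := inf_le_left
      hW := fun w hw' => Subgroup.mem_inf.2 ⟨(mem_normalizer_iff.1 hxg.1.1.1 w).1 hw'.1, conj_ww hxP hw'.2⟩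
      DW := fun d hd w hw' => (h.mem_kk.1 hd.2.1).2 w hw'.2
      cW := hcw
      iW := by
        have h5 := relIndex_mul_relIndex F (vw (S : Subgroup G) F T P) (vv (S : Subgroup G)) (F_le_vw h) inf_le_left
        rw [← h5, hcw, hf'] at hδ
        obtain ⟨j, hj⟩ : ∃ j, j = (vw (S : Subgroup G) F T P).relIndex (vv (S : Subgroup G)) := ⟨_, rfl⟩
        have e1 : (2 : ℕ) ^ f = 2 * 2 ^ (f - 1) := by
          rw [← pow_succ']; congr 1; omega
        rw [← hj] at hδ ⊢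
        have h6 : 2 ^ f * (2 * j) ≤ 2 ^ f * 2 ^ f := by nlinarith
        have h7 := Nat.le_of_mul_le_mul_left h6 (by positivity)
        omega
      reg := hreg
      ne := by
        by_contra hcon
        push Not at hcon
        obtain ⟨v, hvW, hv, hvF, -⟩ := exists_w h R s
        have hvD : v ∈ centralizer (dD (S : Subgroup G) F T P : Set G) :=
          mem_centralizer_iff.2 fun d hd => hcon d hd v hv
        have h5 := comm_of_mem h R s hw h4 co hΘ hΘC hxg hxK hv.1 hvD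
        have h6 := hreg v hv hvF 1 (by rw [pow_one, h5, mul_inv_cancel]; exact one_mem _)
        have h7 := Nat.le_of_dvd (by norm_num) h6
        omega }

end

end Cfsg.Agent.OddCyclic.EmpF.Frame
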