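import Cfsg.Agent.OddCyclic.EmpNSAct
import Cfsg.Agent.OddCyclic.EmpFFAbs
import Cfsg.Agent.MinSimple.EmptyE.Plug

/-!
# (Empty), natural `L₂(q)`: general lemmas for (5.1), (5.2)

* `syl_inf` : `T ∩ N` is a Sylow 2-subgroup of the normal subgroup `N`;
* `exists_mul` : 2-groups in `K C` over a Sylow 2-subgroup `D` of `K` are contained in `D C`;
* `avg` : a group `O` of odd order, normalised by a 2-group `T` with `C_M(T) ≤ C_M(O)`, acts trivially on `M`.
-/

set_option autoImplicit false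
set_option linter.unusedSectionVars false

namespace Cfsg.Agent.OddCyclic.EmpF.FrameA

open Subgroup Cfsg Cfsg.Agent.ZN Cfsg.Agent.ZN.ChoiceBase Cfsg.Agent.ZN.ChoiceSit
open Cfsg.Agent.OddCyclic.T1Module (CS mem_CS)

universe u v

section syl

variable {G : Type u} [Group G] [Finite G]

theorem syl_mono {T X Y : Subgroup G} (hT : Syl T X) (hTY : T ≤ Y) (hYX : Y ≤ X) : Syl T Y :=
  ⟨hTY, hT.2.1, fun Q hQ hQ2 hTQ => hT.2.2 Q (hQ.trans hYX) hQ2 hTQ⟩

/-- `T ∩ N` is a Sylow 2-subgroup of `N ⊴ X` -/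
theorem syl_inf {T X N : Subgroup G} (hT : Syl T X) (hNX : N ≤ X) (hN : X ≤ normalizer (N : Set G)) :
    Syl (T ⊓ N) N := by
  refine ⟨inf_le_right, hT.2.1.to_le inf_le_left, fun Q hQN hQ hTQ => ?_⟩
  obtain ⟨S', hS', hQS⟩ := exists_syl hQ (hQN.trans hNX)
  obtain ⟨x, hx, hxS⟩ := syl_conj hT hS'
  have h1 : Q ≤ cj x (T ⊓ N) := by
    rw [cj_inf, hxS, cj_eq_of_mem_normalizer (hN hx)]
    exact le_inf hQS hQN
  have h2 : Nat.card Q ≤ Nat.card (T ⊓ N : Subgroup G) := by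
    have h3 := Nat.card_le_card_of_injective _ (Subgroup.inclusion_injective h1)
    rwa [card_cj] at h3
  exact (Subgroup.eq_of_le_of_card_ge hTQ h2).symm

theorem syl_subgroupOf {D K L : Subgroup G} (hD : Syl D K) (hK : K ≤ L) : Syl (D.subgroupOf L) (K.subgroupOf L) := by
  refine ⟨fun x hx => hD.1 hx, hD.2.1.comap_of_injective _ L.subtype_injective, fun Q hQ hQ2 hDQ => ?_⟩
  have h1 : Q.map L.subtype = D := by
    refine hD.2.2 _ ?_ (hQ2.map _) ?_
    · rintro _ ⟨x, hx, rfl⟩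
      exact hQ hx
    · intro d hd
      exact ⟨⟨d, hK (hD.1 hd)⟩, hDQ hd, rfl⟩
  apply Subgroup.map_injective L.subtype_injective
  rw [h1, Subgroup.subgroupOf_map_subtype, eq_comm, inf_eq_left]
  exact hD.1.trans hK

/-- 2-groups in `K C` over a Sylow 2-subgroup `D` of `K` are contained in `D C` -/
theorem exists_mul {D K Q C L : Subgroup G} (hD : Syl D K) (hKL : K ≤ L) (hC : L ≤ normalizer (C : Set G))
    (hQ : IsPGroup 2 Q) (hQL : Q ≤ L) (hDQ : D ≤ Q) (hQK : ∀ a ∈ Q, ∃ k ∈ K, k⁻¹ * a ∈ C) :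
    ∀ a ∈ Q, ∃ d ∈ D, d⁻¹ * a ∈ C := by
  have hn : (C.subgroupOf L).Normal := normal_subgroupOf_of_le_normalizer hC
  obtain ⟨f, hf⟩ : ∃ f : L →* L ⧸ C.subgroupOf L, f = QuotientGroup.mk' (C.subgroupOf L) := ⟨_, rfl⟩
  have hfe : ∀ a b : L, f a = f b ↔ (a : G)⁻¹ * b ∈ C := by
    intro a b
    rw [hf, QuotientGroup.mk'_apply, QuotientGroup.mk'_apply, QuotientGroup.eq]
    rfl
  have h1 := Cfsg.Agent.MinSimple.EmptyE.Plug.syl_map f (syl_subgroupOf hD hKL)
  have h2 : (Q.subgroupOf L).map f = (D.subgroupOf L).map f := by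
    refine h1.2.2 _ ?_ ((hQ.comap_of_injective _ L.subtype_injective).map _) (Subgroup.map_mono fun x hx => hDQ hx)
    rintro _ ⟨⟨a, ha⟩, haQ, rfl⟩
    obtain ⟨k, hk, hkc⟩ := hQK a haQ
    exact ⟨⟨k, hKL hk⟩, hk, (hfe _ _).2 hkc⟩
  intro a ha
  have h3 : f ⟨a, hQL ha⟩ ∈ (D.subgroupOf L).map f := by
    rw [← h2]
    exact ⟨⟨a, hQL ha⟩, ha, rfl⟩
  obtain ⟨⟨d, hd⟩, hdD, h4⟩ := h3
  exact ⟨d, hdD, (hfe _ _).1 h4⟩

end syl

section avg

variable {H : Type u} [Group H] [Finite H] {M : Type v} [CommGroup M] [Finite M]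

/-- **averaging** -/
theorem avg (ρ : H →* MulAut M) (hM : ∀ m : M, m * m = 1) {O T : Subgroup H} (hO : O.Normal)
    (hodd : Odd (Nat.card O)) (hT : IsPGroup 2 T)
    (hfix : ∀ m : M, (∀ t ∈ T, ρ t m = m) → ∀ o ∈ O, ρ o m = m) : ∀ o ∈ O, ∀ m, ρ o m = m := by
  classical
  have hfin : Fintype O := Fintype.ofFinite O
  let N : M →* M :=
    { toFun := fun m => ∏ o : O, ρ (o : H) m
      map_one' := by simp
      map_mul' := fun a b => by simp [Finset.prod_mul_distrib] }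
  have hN : ∀ m, N m = ∏ o : O, ρ (o : H) m := fun m => rfl
  -- equivariance
  have heq : ∀ t m, N (ρ t m) = ρ t (N m) := by
    intro t m
    rw [hN, hN, map_prod]
    refine Finset.prod_bij' (fun (o : O) _ => (⟨t⁻¹ * o * t, by
        have := hO.conj_mem o o.2 t⁻¹
        rwa [inv_inv] at this⟩ : O)) (fun (o : O) _ => (⟨t * o * t⁻¹, hO.conj_mem o o.2 t⟩ : O))
      (fun _ _ => Finset.mem_univ _) (fun _ _ => Finset.mem_univ _) ?_ ?_ ?_
    · intro o _
      apply Subtype.ext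
      show t * (t⁻¹ * o * t) * t⁻¹ = o
      group
    · intro o _
      apply Subtype.ext
      show t⁻¹ * (t * o * t⁻¹) * t = o
      group
    · intro o _
      show ρ o (ρ t m) = ρ t (ρ (t⁻¹ * o * t) m)
      rw [← MulAut.mul_apply, ← MulAut.mul_apply, ← map_mul, ← map_mul]
      congr 2
      group
  -- the kernel
  have hker : N.ker = ⊥ := by
    by_contra hne
    obtain ⟨z, hz, hzT, hz1⟩ := EmpFFAbs.exists_fixed (ρ := ρ) hM hT hne (fun t _ w hw => by
      rw [MonoidHom.mem_ker] at hw ⊢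
      rw [heq, hw, map_one])
    apply hz1
    have h1 := hfix z hzT
    rw [MonoidHom.mem_ker, hN] at hz
    have h2 : ∏ o : O, ρ (o : H) z = z ^ Nat.card O := by
      rw [Finset.prod_congr rfl (fun (o : O) _ => h1 (o : H) o.2), Finset.prod_const, Finset.card_univ,
        Nat.card_eq_fintype_card]
    rw [h2] at hz
    obtain ⟨k, hk⟩ := hodd
    rw [hk, pow_succ, pow_mul, sq, hM, one_pow, one_mul] at hz
    exact hz
  have hinj : Function.Injective N := (MonoidHom.ker_eq_bot_iff N).1 hker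
  intro o ho m
  apply hinj
  rw [hN, hN]
  refine Finset.prod_bij' (fun (x : O) _ => x * ⟨o, ho⟩) (fun (x : O) _ => x * (⟨o, ho⟩ : O)⁻¹)
    (fun _ _ => Finset.mem_univ _) (fun _ _ => Finset.mem_univ _) ?_ ?_ ?_
  · intro x _
    group
  · intro x _
    group
  · intro x _
    show ρ x (ρ o m) = ρ ((x : H) * o) m
    rw [map_mul, MulAut.mul_apply]

end avg

end Cfsg.Agent.OddCyclic.EmpF.FrameA
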