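import Cfsg.Agent.OddCyclic.FFPsl

/-!
# Centralisers of involutions in `PSL(2, F)`, `F` of odd characteristic

* `comm_or_inv`: elements `y`, `e` of the centraliser of an involution, `y` of odd order: `e` centralises or inverts `y`;
* `four`: four-groups are self-centralising;
* `card_le_four`: 2-subgroups moved by an element of odd order normalising them have order at most 4;
* `index_up_le`: an element of order `p` is the product of two elements of order 3.
-/

set_option autoImplicit false
set_option linter.unusedSectionVars false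

namespace Cfsg.Agent.OddCyclic.EmpF.PslMat

open Matrix Cfsg.Agent.Lib.SL2Mat

variable {F : Type*} [Field F] {L : Type*} [Group L]

local notation "SL2" => Matrix.SpecialLinearGroup (Fin 2) F

theorem ent_neg (x : SL2) (i j : Fin 2) : ent (-x) i j = -ent x i j := rfl

theorem ent_inv' (x : SL2) : ent x⁻¹ 0 0 = ent x 1 1 ∧ ent x⁻¹ 0 1 = -ent x 0 1 ∧ ent x⁻¹ 1 0 = -ent x 1 0 ∧
    ent x⁻¹ 1 1 = ent x 0 0 := by
  rw [ent_inv]
  exact ⟨rfl, rfl, rfl, rfl⟩

/-- matrices commuting with a matrix of trace 0 -/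
theorem comm_form (h2 : (2 : F) ≠ 0) {A Y : SL2} (hA : ent A 0 0 + ent A 1 1 = 0) (h : Y * A = A * Y) :
    ∃ β, ent Y 0 1 = β * ent A 0 1 ∧ ent Y 1 0 = β * ent A 1 0 ∧ ent Y 0 0 - ent Y 1 1 = 2 * β * ent A 0 0 := by
  have h00 := congrArg (fun w => ent w 0 0) h
  have h01 := congrArg (fun w => ent w 0 1) h
  have h10 := congrArg (fun w => ent w 1 0) h
  have hd := det_eq A
  simp only [ent_mul] at h00 h01 h10
  generalize ent A 0 0 = p at *
  generalize ent A 0 1 = q at *
  generalize ent A 1 0 = r at *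
  generalize ent A 1 1 = s at *
  generalize ent Y 0 0 = x at *
  generalize ent Y 0 1 = y at *
  generalize ent Y 1 0 = z at *
  generalize ent Y 1 1 = w at *
  have hs : s = -p := by linear_combination hA
  subst hs
  by_cases hq : q = 0
  · subst hq
    by_cases hr : r = 0
    · subst hr
      have hp : p ≠ 0 := by
        rintro rfl
        simp at hd
      have hy : y = 0 := by
        have h3 : 2 * p * y = 0 := by linear_combination -h01
        rcases mul_eq_zero.1 h3 with h4 | h4
        · exact absurd h4 (mul_ne_zero h2 hp)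
        · exact h4
      have hz : z = 0 := by
        have h3 : 2 * p * z = 0 := by linear_combination h10
        rcases mul_eq_zero.1 h3 with h4 | h4
        · exact absurd h4 (mul_ne_zero h2 hp)
        · exact h4
      exact ⟨(x - w) / (2 * p), by rw [hy, mul_zero], by rw [hz, mul_zero], by field_simp⟩
    · refine ⟨z / r, ?_, by field_simp, ?_⟩
      · have h3 : y * r = 0 := by linear_combination h00
        rw [mul_zero]
        exact (mul_eq_zero.1 h3).resolve_right hr
      · field_simp
        linear_combination -h10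
  · refine ⟨y / q, by field_simp, ?_, ?_⟩
    · field_simp
      linear_combination -h00
    · field_simp
      linear_combination h01

/-- `A² = -1` -/
theorem trace_of_sq {A : SL2} (h : A * A = -1) : ent A 0 0 + ent A 1 1 = 0 := by
  have h00 := congrArg (fun w => ent w 0 0) h
  have h01 := congrArg (fun w => ent w 0 1) h
  have h10 := congrArg (fun w => ent w 1 0) h
  have h11 := congrArg (fun w => ent w 1 1) h
  have hd := det_eq A
  simp only [ent_mul, ent_neg, ent_one_00, ent_one_01, ent_one_10, ent_one_11, neg_zero] at h00 h01 h10 h11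
  generalize ent A 0 0 = p at *
  generalize ent A 0 1 = q at *
  generalize ent A 1 0 = r at *
  generalize ent A 1 1 = s at *
  by_contra hne
  have h1 : q = 0 := by
    have h3 : q * (p + s) = 0 := by linear_combination h01
    exact (mul_eq_zero.1 h3).resolve_right hne
  have h3 : p = 0 := by
    have h3 : p * (p + s) = 0 := by linear_combination h00 + hd
    exact (mul_eq_zero.1 h3).resolve_right hne
  rw [h1, h3] at hd
  simp at hd

/-- trace 0 gives `A² = -1` -/
theorem sq_of_trace {A : SL2} (h : ent A 0 0 + ent A 1 1 = 0) : A * A = -1 := by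
  have hd := det_eq A
  apply ext_ent <;>
    simp only [ent_mul, ent_neg, ent_one_00, ent_one_01, ent_one_10, ent_one_11, neg_zero]
  · linear_combination (ent A 0 0) * h - hd
  · linear_combination (ent A 0 1) * h
  · linear_combination (ent A 1 0) * h
  · linear_combination (ent A 1 1) * h - hd

/-- matrices anticommuting with a matrix of trace 0 have trace 0 -/
theorem anti_trace (h2 : (2 : F) ≠ 0) {A E : SL2} (hA : ent A 0 0 + ent A 1 1 = 0) (h : E * A = -(A * E)) :
    ent E 0 0 + ent E 1 1 = 0 := by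
  have h00 := congrArg (fun w => ent w 0 0) h
  have h01 := congrArg (fun w => ent w 0 1) h
  have h10 := congrArg (fun w => ent w 1 0) h
  have h11 := congrArg (fun w => ent w 1 1) h
  have hd := det_eq A
  simp only [ent_mul, ent_neg] at h00 h01 h10 h11
  generalize ent A 0 0 = p at *
  generalize ent A 0 1 = q at *
  generalize ent A 1 0 = r at *
  generalize ent A 1 1 = s at *
  generalize ent E 0 0 = x at *
  generalize ent E 0 1 = y at *
  generalize ent E 1 0 = z at *
  generalize ent E 1 1 = w at *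
  have hs : s = -p := by linear_combination hA
  subst hs
  by_contra hne
  have h1 : q = 0 := by
    have h3 : q * (x + w) = 0 := by linear_combination h01
    exact (mul_eq_zero.1 h3).resolve_right hne
  have h3 : p = 0 := by
    have h3 : 2 * p * (x + w) = 0 := by linear_combination h00 - h11
    rcases mul_eq_zero.1 h3 with h4 | h4
    · exact (mul_eq_zero.1 h4).resolve_left h2
    · exact absurd h4 hne
  rw [h1, h3] at hd
  simp at hd

/-- matrices commuting with `A` commute -/
theorem comm_comm (h2 : (2 : F) ≠ 0) {A Y E : SL2} (hA : ent A 0 0 + ent A 1 1 = 0) (h : Y * A = A * Y)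
    (h' : E * A = A * E) : E * Y = Y * E := by
  obtain ⟨β, b1, b3, b4⟩ := comm_form h2 hA h
  obtain ⟨γ, c1, c3, c4⟩ := comm_form h2 hA h'
  apply ext_ent <;> simp only [ent_mul]
  · rw [b1, b3, c1, c3]; ring
  · rw [b1, c1]; linear_combination β * (ent A 0 1) * c4 - γ * (ent A 0 1) * b4
  · rw [b3, c3]; linear_combination γ * (ent A 1 0) * b4 - β * (ent A 1 0) * c4
  · rw [b1, b3, c1, c3]; ring

/-- matrices anticommuting with `A` invert the matrices commuting with `A` -/
theorem anti_inv (h2 : (2 : F) ≠ 0) {A Y E : SL2} (hA : ent A 0 0 + ent A 1 1 = 0) (h : Y * A = A * Y)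
    (h' : E * A = -(A * E)) : E * Y = Y⁻¹ * E := by
  obtain ⟨β, b1, b3, b4⟩ := comm_form h2 hA h
  have ht := anti_trace h2 hA h'
  have h00 := congrArg (fun w => ent w 0 0) h'
  simp only [ent_mul, ent_neg] at h00
  obtain ⟨i0, i1, i3, i4⟩ := ent_inv' Y
  apply ext_ent <;> simp only [ent_mul, i0, i1, i3, i4]
  · rw [b1, b3]; linear_combination (ent E 0 0) * b4 + β * h00
  · rw [b1]; linear_combination (β * ent A 0 1) * ht
  · rw [b3]; linear_combination (β * ent A 1 0) * ht
  · rw [b1, b3]
    have hw : ent E 1 1 = -ent E 0 0 := by linear_combination ht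
    rw [hw]
    linear_combination (ent E 0 0) * b4 + β * h00

/-- matrices commuting with two anticommuting matrices are scalar -/
theorem scalar (h2 : (2 : F) ≠ 0) {A B Z : SL2} (hA : ent A 0 0 + ent A 1 1 = 0) (hAB : B * A = -(A * B))
    (h : Z * A = A * Z) (h' : Z * B = B * Z) : Z = 1 ∨ Z = -1 := by
  obtain ⟨β, b1, b3, b4⟩ := comm_form h2 hA h
  have hB := anti_trace h2 hA hAB
  have k00 := congrArg (fun w => ent w 0 0) h'
  have k01 := congrArg (fun w => ent w 0 1) h'
  have k10 := congrArg (fun w => ent w 1 0) h'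
  have h00 := congrArg (fun w => ent w 0 0) hAB
  have hd := det_eq A
  have hdB := det_eq B
  have hdZ := det_eq Z
  simp only [ent_mul, ent_neg] at h00 k00 k01 k10
  have hs : ent A 1 1 = -ent A 0 0 := by linear_combination hA
  have hk : ent B 1 1 = -ent B 0 0 := by linear_combination hB
  rw [hs] at hd
  rw [hk] at k01 k10 hdB
  rw [b1, b3] at k00
  rw [b1] at k01
  rw [b3] at k10
  have hβ : β = 0 := by
    by_contra hβ
    have e1 : ent A 0 1 * ent B 1 0 = ent B 0 1 * ent A 1 0 := by
      apply mul_left_cancel₀ hβ; linear_combination k00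
    have h2β : 2 * β ≠ 0 := mul_ne_zero h2 hβ
    have e2 : ent A 0 0 * ent B 0 1 = ent A 0 1 * ent B 0 0 := by
      apply mul_left_cancel₀ h2β; linear_combination k01 - ent B 0 1 * b4
    have e3 : ent A 1 0 * ent B 0 0 = ent A 0 0 * ent B 1 0 := by
      apply mul_left_cancel₀ h2β; linear_combination k10 + ent B 1 0 * b4
    have e4 : ent A 0 0 * ent B 0 0 + ent A 0 1 * ent B 1 0 = 0 := by
      apply mul_left_cancel₀ h2; linear_combination h00 + e1
    have f0 : ent B 0 0 = 0 := by
      linear_combination (-ent B 0 0) * hd - (ent A 0 0) * e4 - (ent A 0 1) * e3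
    have f1 : ent B 0 1 = 0 := by
      linear_combination (-ent B 0 1) * hd - (ent A 0 0) * e2 + (ent A 0 1) * e1 - (ent A 0 1) * e4
    have f3 : ent B 1 0 = 0 := by
      linear_combination (-ent B 1 0) * hd - (ent A 1 0) * e4 + (ent A 0 0) * e3
    rw [f0, f1, f3] at hdB
    simp at hdB
  rw [hβ] at b1 b3 b4
  have hz : ent Z 1 1 = ent Z 0 0 := by linear_combination -b4
  rw [b1, hz] at hdZ
  have h5 : (ent Z 0 0 - 1) * (ent Z 0 0 + 1) = 0 := by linear_combination hdZ
  rcases mul_eq_zero.1 h5 with h6 | h6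
  · left
    apply ext_ent
    · rw [ent_one_00]; linear_combination h6
    · rw [b1, ent_one_01]; ring
    · rw [b3, ent_one_10]; ring
    · rw [hz, ent_one_11]; linear_combination h6
  · right
    apply ext_ent
    · rw [ent_neg, ent_one_00]; linear_combination h6
    · rw [b1, ent_neg, ent_one_01]; ring
    · rw [b3, ent_neg, ent_one_10]; ring
    · rw [hz, ent_neg, ent_one_11]; linear_combination h6

variable (R : Cfsg.Agent.GH.L2Aut.Rep F L)

include R

theorem exists_trace {a : L} (ha : a * a = 1) (ha1 : a ≠ 1) :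
    ∃ A : SL2, R.π A = a ∧ ent A 0 0 + ent A 1 1 = 0 ∧ A * A = -1 := by
  obtain ⟨A, rfl⟩ := R.surj a
  have h1 : R.π (A * A) = 1 := by rw [map_mul, ha]
  rw [R.ker] at h1
  rcases h1 with h1 | h1
  · exfalso
    apply ha1
    rw [R.ker]
    exact Cfsg.Agent.Lib.PSL2Inv.sq_eq_one R.two h1
  · exact ⟨A, rfl, trace_of_sq h1, h1⟩

/-- commuting elements of `L` -/
theorem comm_lift {A Y : SL2} (h : R.π Y * R.π A = R.π A * R.π Y) : Y * A = A * Y ∨ Y * A = -(A * Y) := by
  rw [← map_mul, ← map_mul, R.π_eq_iff] at h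
  exact h

/-- **`e` centralises or inverts `y`** -/
theorem comm_or_inv {a y e : L} (ha : a * a = 1) (ha1 : a ≠ 1) (hy : Odd (orderOf y)) (hya : y * a = a * y)
    (hea : e * a = a * e) : e * y = y * e ∨ e * y * e⁻¹ = y⁻¹ := by
  obtain ⟨A, rfl, hA, hA2⟩ := exists_trace R ha ha1
  obtain ⟨Y, rfl⟩ := R.surj y
  obtain ⟨E, rfl⟩ := R.surj e
  rcases comm_lift R hya with h | h
  · rcases comm_lift R hea with h' | h'
    · left
      rw [← map_mul, ← map_mul, comm_comm R.two hA h h']
    · right
      rw [mul_inv_eq_iff_eq_mul, ← map_mul, anti_inv R.two hA h h', map_mul, map_inv]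
  · left
    have h1 := sq_of_trace (anti_trace R.two hA h)
    have h3 : R.π Y * R.π Y = 1 := by rw [← map_mul, h1, R.ker]; exact Or.inr rfl
    have h4 : R.π Y = 1 := by
      obtain ⟨k, hk⟩ := hy
      have h5 := pow_orderOf_eq_one (R.π Y)
      rw [hk, pow_succ, pow_mul, pow_two, h3, one_pow, one_mul] at h5
      exact h5
    rw [h4, one_mul, mul_one]

/-- **four-groups are self-centralising** -/
theorem four {a b x : L} (ha : a * a = 1) (ha1 : a ≠ 1) (hb : b * b = 1) (hb1 : b ≠ 1) (hab : b ≠ a)
    (hc : b * a = a * b) (hxa : x * a = a * x) (hxb : x * b = b * x) : x = 1 ∨ x = a ∨ x = b ∨ x = a * b := by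
  obtain ⟨A, rfl, hA, hA2⟩ := exists_trace R ha ha1
  obtain ⟨B, rfl, hB, hB2⟩ := exists_trace R hb hb1
  obtain ⟨X, rfl⟩ := R.surj x
  have hAB : B * A = -(A * B) := by
    refine (comm_lift R hc).resolve_left fun h => hab ?_
    obtain ⟨β, b1, b3, b4⟩ := comm_form R.two hA h
    have hs : ent A 1 1 = -ent A 0 0 := by linear_combination hA
    have hk : ent B 1 1 = -ent B 0 0 := by linear_combination hB
    have hd := det_eq A
    have hdB := det_eq B
    have b0 : ent B 0 0 = β * ent A 0 0 := by
      apply mul_left_cancel₀ R.two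
      rw [hk] at b4
      linear_combination b4
    rw [hs] at hd
    rw [hk, b0, b1, b3] at hdB
    have h5 : (β - 1) * (β + 1) = 0 := by linear_combination hdB - β ^ 2 * hd
    rw [R.π_eq_iff]
    rcases mul_eq_zero.1 h5 with h6 | h6
    · left
      have hβ : β = 1 := by linear_combination h6
      rw [hβ] at b0 b1 b3
      apply ext_ent
      · rw [b0]; ring
      · rw [b1]; ring
      · rw [b3]; ring
      · rw [hk, hs, b0]; ring
    · right
      have hβ : β = -1 := by linear_combination h6
      rw [hβ] at b0 b1 b3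
      apply ext_ent
      · rw [ent_neg, b0]; ring
      · rw [ent_neg, b1]; ring
      · rw [ent_neg, b3]; ring
      · rw [ent_neg, hk, hs, b0]; ring
  have fin : ∀ Z : SL2, Z = 1 ∨ Z = -1 → R.π Z = 1 := fun Z hZ => (R.ker Z).2 hZ
  have hainv : (R.π A)⁻¹ = R.π A := inv_eq_of_mul_eq_one_left ha
  have hbinv : (R.π B)⁻¹ = R.π B := inv_eq_of_mul_eq_one_left hb
  rcases comm_lift R hxa with h | h <;> rcases comm_lift R hxb with h' | h'
  · left
    exact fin X (scalar R.two hA hAB h h')
  · right; left
    have h1 : A * X * A = A * (A * X) := by rw [mul_assoc, h]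
    have h3 : A * X * B = B * (A * X) := by
      rw [mul_assoc, h', ← mul_assoc B, hAB]
      rw [mul_neg, neg_mul, mul_assoc]
    have h5 := fin _ (scalar R.two hA hAB h1 h3)
    rw [map_mul] at h5
    rw [eq_inv_of_mul_eq_one_right h5, hainv]
  · right; right; left
    have h1 : B * X * A = A * (B * X) := by
      rw [mul_assoc, h, mul_neg, ← mul_assoc, hAB, neg_mul, neg_neg, mul_assoc]
    have h3 : B * X * B = B * (B * X) := by rw [mul_assoc, h']
    have h5 := fin _ (scalar R.two hA hAB h1 h3)
    rw [map_mul] at h5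
    rw [eq_inv_of_mul_eq_one_right h5, hbinv]
  · right; right; right
    have h1 : A * B * X * A = A * (A * B * X) := by
      rw [mul_assoc (A * B), h, mul_neg, ← mul_assoc (A * B), mul_assoc A B A, hAB, mul_neg, neg_mul, neg_neg,
        ← mul_assoc, ← mul_assoc]
      simp only [mul_assoc]
    have h3 : A * B * X * B = B * (A * B * X) := by
      rw [mul_assoc (A * B), h', mul_neg, ← mul_assoc B, ← mul_assoc B, hAB]
      simp only [mul_assoc, neg_mul]
    have h5 := fin _ (scalar R.two hA hAB h1 h3)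
    rw [map_mul, map_mul] at h5
    rw [eq_inv_of_mul_eq_one_right h5, _root_.mul_inv_rev, hainv, hbinv, hc]

/-- **2-subgroups moved by an element of odd order** -/
theorem card_le_four [Finite L] {E : Subgroup L} (hE : IsPGroup 2 E) {y : L} (hy : Odd (orderOf y))
    (hn : ∀ x ∈ E, y * x * y⁻¹ ∈ E) (hne : ∃ a ∈ E, a * y ≠ y * a) : Nat.card E ≤ 4 := by
  have h2f : Fact (Nat.Prime 2) := ⟨Nat.prime_two⟩
  obtain ⟨a₀, ha₀, hne₀⟩ := hne
  have hnt : Nontrivial E := by
    refine ⟨⟨a₀, ha₀⟩, 1, fun h => hne₀ ?_⟩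
    have h1 : a₀ = 1 := congrArg Subtype.val h
    rw [h1, one_mul, mul_one]
  have hzn := hE.center_nontrivial
  -- an involution in the centre
  have h3 : 2 ∣ Nat.card (Subgroup.center E) := by
    obtain ⟨n, hn'⟩ := (IsPGroup.iff_card (p := 2)).1 (hE.to_subgroup (Subgroup.center E))
    rw [hn']
    refine dvd_pow_self 2 ?_
    rintro rfl
    rw [pow_zero, Subgroup.card_eq_one] at hn'
    rw [hn'] at hzn
    exact not_subsingleton _ (inferInstance : Subsingleton (⊥ : Subgroup E))
  obtain ⟨a', ha'⟩ := exists_prime_orderOf_dvd_card' (G := Subgroup.center E) 2 h3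
  obtain ⟨a, haE, ha, ha1, hac⟩ : ∃ a ∈ E, a * a = 1 ∧ a ≠ 1 ∧ ∀ x ∈ E, x * a = a * x := by
    refine ⟨((a' : E) : L), a'.1.2, ?_, ?_, fun x hx => ?_⟩
    · have h4 : a' ^ 2 = 1 := by rw [← ha']; exact pow_orderOf_eq_one a'
      rw [pow_two] at h4
      exact congrArg (fun z : Subgroup.center E => ((z : E) : L)) h4
    · intro h4
      have h5 : a' = 1 := Subtype.ext (Subtype.ext h4)
      rw [h5, orderOf_one] at ha'
      norm_num at ha'
    · exact congrArg Subtype.val (Subgroup.mem_center_iff.1 a'.2 ⟨x, hx⟩)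
  by_cases hya : y * a = a * y
  · exfalso
    apply hne₀
    rcases comm_or_inv R ha ha1 hy hya (hac a₀ ha₀) with h | h
    · exact h
    · -- `y ^ 2 ∈ E`
      have h4 : y⁻¹ * y⁻¹ ∈ E := by
        have h5 := mul_mem ha₀ (hn a₀⁻¹ (inv_mem ha₀))
        have h6 : a₀ * (y * a₀⁻¹ * y⁻¹) = (a₀ * y * a₀⁻¹) * y⁻¹ := by group
        rwa [h6, h] at h5
      obtain ⟨k, hk⟩ := hE ⟨_, h4⟩
      have hk1 : (y⁻¹ * y⁻¹) ^ 2 ^ k = 1 := congrArg Subtype.val hk
      have h5 : y ^ 2 ^ (k + 1) = 1 := by
        have h6 : (y⁻¹ * y⁻¹) ^ 2 ^ k = (y ^ 2 ^ (k + 1))⁻¹ := by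
          rw [← pow_two, ← pow_mul, inv_pow, pow_succ, mul_comm]
        rw [h6] at hk1
        exact inv_eq_one.1 hk1
      have h6 : orderOf y = 1 := Nat.eq_one_of_dvd_coprimes
        (Nat.Coprime.pow_right (k + 1) (Nat.coprime_two_right.2 hy)) dvd_rfl (orderOf_dvd_of_pow_eq_one h5)
      rw [orderOf_eq_one_iff.1 h6, one_mul, mul_one]
  · -- the conjugate of `a`
    have hninv : ∀ x ∈ E, y⁻¹ * x * y ∈ E := by
      have h4 : ∀ n : ℕ, ∀ x ∈ E, y ^ n * x * (y ^ n)⁻¹ ∈ E := by
        intro n
        induction n with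
        | zero => intro x hx; simpa using hx
        | succ n ih =>
          intro x hx
          have h1 : y ^ (n + 1) * x * (y ^ (n + 1))⁻¹ = y * (y ^ n * x * (y ^ n)⁻¹) * y⁻¹ := by
            rw [pow_succ']; group
          rw [h1]
          exact hn _ (ih x hx)
      intro x hx
      have h5 := h4 (orderOf y - 1) x hx
      have h6 : y ^ (orderOf y - 1) = y⁻¹ := by
        rw [eq_inv_iff_mul_eq_one, ← pow_succ, Nat.sub_add_cancel (orderOf_pos y), pow_orderOf_eq_one]
      rwa [h6, inv_inv] at h5
    obtain ⟨b, hb⟩ : ∃ b, b = y * a * y⁻¹ := ⟨_, rfl⟩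
    have hbE : b ∈ E := by rw [hb]; exact hn a haE
    have hb2 : b * b = 1 := by
      rw [hb]
      calc y * a * y⁻¹ * (y * a * y⁻¹) = y * (a * a) * y⁻¹ := by group
        _ = 1 := by rw [ha]; group
    have hb1 : b ≠ 1 := by
      rw [hb]
      intro h
      exact ha1 (conj_eq_one_iff.1 h)
    have hba : b ≠ a := by
      rw [hb]
      intro h
      exact hya (mul_inv_eq_iff_eq_mul.1 h)
    have hbc : ∀ x ∈ E, x * b = b * x := by
      intro x hx
      have h4 := hac _ (hninv x hx)
      rw [hb]
      calc x * (y * a * y⁻¹) = y * (y⁻¹ * x * y * a) * y⁻¹ := by group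
        _ = y * (a * (y⁻¹ * x * y)) * y⁻¹ := by rw [h4]
        _ = y * a * y⁻¹ * x := by group
    have hE4 : (E : Set L) ⊆ {1, a, b, a * b} := by
      intro x hx
      rcases four R ha ha1 hb2 hb1 hba (hac b hbE) (hac x hx) (hbc x hx) with h | h | h | h <;> simp [h]
    have h5 : Nat.card E = (E : Set L).ncard := rfl
    rw [h5]
    refine (Set.ncard_le_ncard hE4 (Set.toFinite _)).trans ?_
    classical
    refine (Set.ncard_insert_le _ _).trans ?_
    have h6 := Set.ncard_insert_le a {b, a * b}
    have h7 := Set.ncard_insert_le b {a * b}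
    rw [Set.ncard_singleton] at h7
    omega

end Cfsg.Agent.OddCyclic.EmpF.PslMat
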