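import Cfsg.Agent.OddCyclic.EmpF.Comp
import Cfsg.Agent.OddCyclic.EmpF.Cyc
import Cfsg.Agent.OddCyclic.EmpF.PslMat
import Cfsg.Agent.OddCyclic.FFSz
import Cfsg.Agent.OddCyclic.FFJ1
import Cfsg.Agent.OddCyclic.FFInner

/-!
# (Empty), natural `L₂(q)`: the inner case

`K` the component containing `E` and `y`: it is `SL₂(2 ^ f)` with Sylow 2-subgroup `E`, or `PSL₂(7)` with `f = 2`.
-/

set_option autoImplicit false
set_option linter.unusedSectionVars false

namespace Cfsg.Agent.OddCyclic.EmpF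

open Subgroup Cfsg Cfsg.Agent.OddCyclic.T1Module Cfsg.Agent.OddCyclic.FFBasic Cfsg.Agent.OddCyclic.FFRed
open Cfsg.Agent.OddCyclic.T1Defs (OddCyc)
open Cfsg.Agent.OddCyclic.PumpMain (KZero)
open Cfsg.Agent.SignalizersComponents.Components
open Cfsg.Agent.OddCyclic.Zass
open scoped Pointwise

section norm

variable {K : Type*} [Group K] [Finite K]

/-- elements normalising `E` normalise a Sylow 2-subgroup containing `E` -/
theorem exists_norm {u t : ℕ} (h : IsZT K 2 u t) {E : Subgroup K} (hE : IsPGroup 2 E) (hne : E ≠ ⊥) :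
    ∃ P : Sylow 2 K, E ≤ P ∧ ∀ x : K, (∀ a ∈ E, x * a * x⁻¹ ∈ E) → x ∈ normalizer (P : Set K) := by
  have h2f : Fact (Nat.Prime 2) := ⟨Nat.prime_two⟩
  obtain ⟨P, hP⟩ := hE.exists_le_sylow
  refine ⟨P, hP, fun x hx => ?_⟩
  rw [← smul_eq_iff]
  by_contra hcon
  obtain ⟨a, ha, ha1⟩ : ∃ a ∈ E, a ≠ 1 := by
    by_contra hall
    push Not at hall
    exact hne (by rw [eq_bot_iff]; exact fun a ha => Subgroup.mem_bot.2 (hall a ha))
  have h1 : x * a * x⁻¹ ∈ P := hP (hx a ha)
  have h3 : x * a * x⁻¹ ∈ x • P := by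
    rw [Zass.mem_smul]
    have h4 : x⁻¹ * (x * a * x⁻¹) * x = a := by group
    rw [h4]; exact hP ha
  have h4 := h.reg P (x • P) hcon h1 (Zass.smul_self h3)
  exact ha1 (conj_eq_one_iff.1 h4)

theorem pow_dvd_of {u t l e : ℕ} (h : IsZT K 2 (2 ^ u) t) {E : Subgroup K} (hE : IsPGroup 2 E) (hne : E ≠ ⊥)
    (hl : l.Prime) (hl2 : l ≠ 2) {s : K} (hs : s ^ l ^ (e + 1) = 1) (hs1 : s ^ l ^ e ≠ 1)
    (hn : ∀ a ∈ E, s * a * s⁻¹ ∈ E) : l ^ (e + 1) ∣ t := by
  have hlf : Fact l.Prime := ⟨hl⟩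
  obtain ⟨P, hP, hPn⟩ := exists_norm h hE hne
  have h1 := Subgroup.orderOf_dvd_natCard _ (hPn s hn)
  rw [h.card_normalizer, orderOf_eq_prime_pow hs1 hs] at h1
  refine Nat.Coprime.dvd_of_dvd_mul_left ?_ h1
  exact Nat.Coprime.pow _ _ ((Nat.coprime_primes hl Nat.prime_two).2 hl2)

end norm

section jone

open Cfsg.Agent.SporRec.J1.Defs (Local)

variable {J : Type*} [Group J] [Finite J]

/-- the centraliser of an element of order 7 -/
theorem card_cent_seven [IsSimpleGroup J] (h : Local J) (hc : Nat.card J = 175560) {y : J} (hy : orderOf y = 7) :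
    Nat.card (centralizer ({y} : Set J)) = 7 := by
  have hB : JFacts.Big (orderOf y) := Or.inl hy
  have h1 := JFacts.cent_big h hc hB
  have h2 : 7 ∣ Nat.card (centralizer ({y} : Set J)) := by
    rw [← hy]; exact JFacts.mem_cent_dvd rfl
  obtain ⟨c, hcc⟩ := h2
  have h3 : c ∣ 209 := by
    have h4 : 7 * c ∣ 7 * 209 := by rw [← hcc]; exact h1
    exact Nat.dvd_of_mul_dvd_mul_left (by norm_num) h4
  have h5 : c = 1 := by
    by_contra hc1
    obtain ⟨p, hp, hpc⟩ := Nat.exists_prime_and_dvd hc1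
    have hp' : p ∣ 11 * 19 := hpc.trans h3
    have hpp : p = 11 ∨ p = 19 := by
      rcases hp.dvd_mul.1 hp' with h6 | h6
      · exact Or.inl ((Nat.prime_dvd_prime_iff_eq hp (by norm_num)).1 h6)
      · exact Or.inr ((Nat.prime_dvd_prime_iff_eq hp (by norm_num)).1 h6)
    have : Fact p.Prime := ⟨hp⟩
    obtain ⟨x, hx⟩ := exists_prime_orderOf_dvd_card' (G := centralizer ({y} : Set J)) p
      (by rw [hcc]; exact hpc.mul_left _)
    have hx' : orderOf (x : J) = p := by rw [Subgroup.orderOf_coe, hx]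
    refine JFacts.big_false h hc (x := (x : J)) (y := y) ?_ hB ?_ (mem_centralizer_singleton_iff.1 x.2)
    · rw [hx']
      rcases hpp with h6 | h6
      · exact Or.inr (Or.inl h6)
      · exact Or.inr (Or.inr h6)
    · rw [hx', hy]
      rcases hpp with h6 | h6 <;> omega
  rw [hcc, h5]

theorem arith7 : ∀ e ∈ Nat.divisors 6, 25080 / e % 7 = 1 → e = 6 := by decide +kernel

/-- elements of order 7 are inverted by an involution -/
theorem real_seven (h : Local J) {k : J} (hk : orderOf k = 2) {y : J} (hy : orderOf y = 7) :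
    ∃ w : J, w * w = 1 ∧ w * y * w⁻¹ = y⁻¹ := by
  have hJ := JFacts.isJ1_of_local h hk
  have hs := hJ.1
  have hc := hJ.2
  obtain ⟨e, m, he, hprod, hmod, hidx⟩ := JFacts.count (K := J) (s := 7) (by norm_num) hy (by rw [hc]; norm_num)
  rw [card_cent_seven h hc hy, hc] at hprod
  have he0 : 0 < e := Nat.pos_of_ne_zero (by rintro rfl; norm_num at hprod)
  have h1 : e * m = 25080 := by
    have h2 : 7 * (e * m) = 7 * 25080 := by rw [← mul_assoc, hprod]
    exact Nat.eq_of_mul_eq_mul_left (by norm_num) h2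
  have hm : m = 25080 / e := by rw [← h1, Nat.mul_div_cancel_left _ he0]
  have he6 : e = 6 := arith7 e (Nat.mem_divisors.2 ⟨he, by norm_num⟩) (by rw [← hm]; exact hmod)
  have hm' : m = 4180 := by rw [hm, he6]
  have hN : Nat.card (normalizer (zpowers y : Set J)) = 42 := by
    have h2 := (normalizer (zpowers y : Set J)).card_mul_index
    rw [← hidx, hm', hc] at h2
    omega
  have : Fact (Nat.Prime 2) := ⟨Nat.prime_two⟩
  obtain ⟨w, hw⟩ := exists_prime_orderOf_dvd_card' (G := normalizer (zpowers y : Set J)) 2 (by rw [hN]; norm_num)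
  have hwo : orderOf (w : J) = 2 := by rw [Subgroup.orderOf_coe, hw]
  obtain ⟨hw1, hw2⟩ := JInner.sq_of_two hwo
  refine ⟨w, hw1, ?_⟩
  have hwy : (w : J) * y * (w : J)⁻¹ ∈ zpowers y := by
    exact (mem_normalizer_iff.1 w.2 y).1 (mem_zpowers y)
  refine (eq_or_inv (r := 7) (by norm_num) hy hw1 hwy).resolve_left fun hcon => ?_
  have h3 := JFacts.mem_cent_dvd hcon
  rw [card_cent_seven h hc hy, hwo] at h3
  norm_num at h3

end jone

variable {H : Type*} [Group H] [Finite H] {V : Type*} [CommGroup V] [Finite V] {ρ : H →* MulAut V}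
  {f l e : ℕ} {s : H} {E : Subgroup H}

namespace Cfg

omit [Finite V] in
theorem card_ge (c : Cfg ρ f l e s E) : 2 ^ f ≤ Nat.card E := by
  have h1 : (MulAut.conj s : MulAut H) ^ l ^ (e + 1) = 1 := by rw [← map_pow, c.ord, map_one]
  have h2 := pow_le c.pp h1 (C := E) (fun x hx => by rw [MulAut.conj_apply]; exact c.nm x hx) c.pg (by
    obtain ⟨a, ha, hne⟩ := c.ne
    refine ⟨a, ha, fun h => hne ?_⟩
    rw [← map_pow, MulAut.conj_apply] at h
    exact (mul_inv_eq_iff_eq_mul.1 h).symm)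
  refine le_trans ?_ h2
  exact Nat.le_mul_of_pos_right _ Nat.card_pos

omit [Finite V] [Finite H] in
theorem E_ne (c : Cfg ρ f l e s E) : E ≠ ⊥ := by
  rintro rfl
  obtain ⟨a, ha, hne⟩ := c.ne
  rw [Subgroup.mem_bot] at ha
  apply hne
  rw [ha, one_mul, mul_one]

omit [Finite H] in
theorem index_le (c : Cfg ρ f l e s E) {a : H} (ha : a ∈ E) : (fx ρ a).index ≤ 2 ^ (2 * f - 1) :=
  (FFSl2.index_le_of_le (FFSl2.CS_le_fx ha)).trans c.cod

/-- `s ∈ K` -/
theorem s_mem (hc : OddCyc H) (h2 : pCore 2 H = ⊥) (hV : ∀ v : V, v * v = 1) (hρ : Function.Injective ρ)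
    (c : Cfg ρ f l e s E) {K : Subgroup H} (hK : IsComponent K) (hE : ¬ E ≤ centralizer (K : Set H))
    (hk : KZero K) : s ∈ K := by
  have hp : Group.IsPerfect K := hK.2.1
  have hK' : ⁅K, K⁆ = K := Subgroup.commutator_eq_self (H := K)
  exact mem_of_perfect hc (FFStruct.component_normal hc hK) hK' c.pp.prime c.pp.odd
    (c.dvd_card hc h2 hV hρ hK hE hk) ⟨e + 1, c.ord⟩

/-- an involution inverting an element of order `l` -/
theorem even_of_real (hc : OddCyc H) (hV : ∀ v : V, v * v = 1) (c : Cfg ρ f l e s E) {w y : H} (hw : w * w = 1)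
    (hy : orderOf y = l) (hwy : w * y * w⁻¹ = y⁻¹) : Even f := by
  obtain ⟨d, hd⟩ := prim_even (ρ := ρ) hV hw (by rw [hy]; exact c.pp.prime.odd_of_ne_two c.pp.odd) hwy
  rw [FFPsl.index_eq_of_orderOf ρ hc c.pp.prime c.pp.odd hy c.orderOf_y, c.idx, ← pow_mul] at hd
  have h1 := Nat.pow_right_injective (le_refl 2) hd
  exact ⟨d, by omega⟩

section inner

variable {K : Subgroup H}

/-- the data in the component -/
theorem in_comp (hc : OddCyc H) (h2 : pCore 2 H = ⊥) (hV : ∀ v : V, v * v = 1) (hρ : Function.Injective ρ)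
    (c : Cfg ρ f l e s E) (hK : IsComponent K) (hE : ¬ E ≤ centralizer (K : Set H)) (hk : KZero K)
    {u t : ℕ} (h : IsZT K 2 (2 ^ u) t) : l ^ (e + 1) ∣ t := by
  have hsK := c.s_mem hc h2 hV hρ hK hE hk
  have hEK := (c.mem_comp hc h2 hV hρ hK hE hk).2
  refine pow_dvd_of (K := K) h (E := E.subgroupOf K) ?_ ?_ c.pp.prime c.pp.odd (s := ⟨s, hsK⟩) ?_ ?_ ?_
  · exact c.pg.of_injective (Subgroup.subgroupOfEquivOfLe hEK).toMonoidHom (Subgroup.subgroupOfEquivOfLe hEK).injective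
  · intro h1
    apply c.E_ne
    rw [Subgroup.subgroupOf_eq_bot, disjoint_iff, inf_eq_left.2 hEK] at h1
    exact h1
  · exact Subtype.ext c.ord
  · intro h1
    exact c.y_ne (congrArg Subtype.val h1)
  · intro a ha
    exact c.nm a ha

theorem suzuki_false (hc : OddCyc H) (h2 : pCore 2 H = ⊥) (hV : ∀ v : V, v * v = 1) (hρ : Function.Injective ρ)
    (c : Cfg ρ f l e s E) (hK : IsComponent K) (hE : ¬ E ≤ centralizer (K : Set H))
    (hs : Cfsg.Lie.IsoSuzuki K) : False := by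
  have hk : KZero K := Or.inr (Or.inr (Or.inl hs))
  obtain ⟨m, hm, hz⟩ := isZT_suzuki hs
  rw [← pow_mul] at hz
  have h1 := c.in_comp hc h2 hV hρ hK hE hk hz
  have h3 : f ∣ 2 * m + 1 := c.pp.prim _ h1
  have hlK := c.dvd_card hc h2 hV hρ hK hE hk
  have hf : ¬ Even f := by
    intro h4
    have h5 : 2 ∣ 2 * m + 1 := (even_iff_two_dvd.1 h4).trans h3
    omega
  obtain ⟨F, iF, iF', m', hm', hF, ⟨R⟩⟩ := Cfsg.Agent.ThreePrime.SzRel.exists_rel hs
  have hmm : m = m' := by
    have h4 : Nat.card K = Nat.card K := rfl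
    obtain ⟨P₀, hP₀⟩ := R.exists_sylow_eq hm' hF
    have h5 := hz.sylow P₀
    have h6 : Nat.card P₀ = Fintype.card F ^ 2 := by
      have h7 : Nat.card P₀ = Nat.card R.T := by rw [← hP₀]
      rw [h7, T1SzFacts.card_T, Nat.card_eq_fintype_card]
    rw [h6, hF, ← pow_mul] at h5
    have h7 := Nat.pow_right_injective (le_refl 2) h5
    omega
  subst hmm
  have hlf : Fact l.Prime := ⟨c.pp.prime⟩
  have h4 : l ∣ Nat.card Fˣ := by
    classical
    rw [Nat.card_eq_fintype_card, Fintype.card_units, hF]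
    exact (dvd_pow_self l (Nat.succ_ne_zero e)).trans h1
  obtain ⟨k, hk'⟩ := exists_prime_orderOf_dvd_card' l h4
  refine hf (c.even_of_real hc hV (w := (R.w : K)) (y := (R.d k : K)) ?_ ?_ ?_)
  · exact congrArg Subtype.val R.w_mul_w
  · rw [Subgroup.orderOf_coe, FFSz.orderOf_d, hk']
  · exact congrArg Subtype.val (FFSz.w_inv_d R k)

open Cfsg.Agent.SporRec.J1.Defs (Local) in
theorem jone_false (hc : OddCyc H) (h2 : pCore 2 H = ⊥) (hV : ∀ v : V, v * v = 1) (hρ : Function.Injective ρ)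
    (c : Cfg ρ f l e s E) (hK : IsComponent K) (hE : ¬ E ≤ centralizer (K : Set H))
    (hJ : Local K) {k : K} (hk : orderOf k = 2) : False := by
  have hkz : KZero K := Or.inr (Or.inr (Or.inr ⟨hJ, k, hk⟩))
  have h2f : Fact (Nat.Prime 2) := ⟨Nat.prime_two⟩
  obtain ⟨hyK, hEK⟩ := c.mem_comp hc h2 hV hρ hK hE hkz
  have hfaith : ∀ z : H, z ≠ 1 → ∃ v, ρ z v ≠ v := by
    intro z hz
    by_contra hcon
    push Not at hcon
    apply hz
    apply hρ
    rw [map_one]
    ext v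
    exact hcon v
  have h8 : Nat.card E ≤ 8 := by
    obtain ⟨n, hn⟩ := IsPGroup.iff_card.1 c.pg
    have h3 : Nat.card E ∣ Nat.card K := Subgroup.card_dvd_of_le hEK
    have h4 : n ≤ 3 := by
      by_contra hlt
      apply hJ.two
      refine Dvd.dvd.trans ?_ h3
      rw [hn]
      exact pow_dvd_pow 2 (show 4 ≤ n by omega)
    rw [hn]
    exact Nat.pow_le_pow_right (by norm_num) h4
  have hf3 : f ≤ 3 := by
    have h3 := c.card_ge.trans h8
    exact (Nat.pow_le_pow_iff_right (by norm_num : 1 < 2)).1 (by simpa using h3)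
  have hf2 := c.f2
  have hcases : f = 2 ∨ f = 3 := by omega
  rcases hcases with hf | hf
  · -- an involution of `E`
    have h3 : 2 ∣ Nat.card E := by
      obtain ⟨n, hn⟩ := (IsPGroup.iff_card (p := 2)).1 c.pg
      rw [hn]
      refine dvd_pow_self 2 ?_
      rintro rfl
      rw [pow_zero, Subgroup.card_eq_one] at hn
      exact c.E_ne hn
    obtain ⟨a, ha⟩ := exists_prime_orderOf_dvd_card' (G := E) 2 h3
    have ha2 : orderOf (a : H) = 2 := by rw [Subgroup.orderOf_coe, ha]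
    have haK : orderOf (⟨(a : H), hEK a.2⟩ : K) = 2 := by rw [← Subgroup.orderOf_coe]; exact ha2
    obtain ⟨w, y, hy, hw, hw1, hwy⟩ := FFJ1.exists_real hJ hk
    obtain ⟨g, hg⟩ := hJ.conj _ _ haK (JInner.two_of_sq hw hw1)
    have hgw : (g : H) * a * (g : H)⁻¹ = (w : H) := congrArg Subtype.val hg
    have hyH : orderOf (y : H) = 11 := by rw [Subgroup.orderOf_coe, hy]
    have hy1 : (y : H) ≠ 1 := by
      intro h1
      rw [h1, orderOf_one] at hyH
      omega
    have h1 : 2 ^ 5 ≤ (fx ρ (w : H)).index := by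
      refine le_index (a := (w : H)) (y := (y : H)) hV (l := 11) (by norm_num) (by norm_num) hyH
        (hfaith _ hy1) ?_ FFJ1.ten_le
      exact congrArg Subtype.val hwy
    rw [← hgw, index_fx_conj] at h1
    have h5 := c.index_le a.2
    rw [hf] at h5
    norm_num at h5 h1
    omega
  · have h3 : l ∣ 7 := by
      have h4 := c.pp.dvd
      rw [hf] at h4
      exact (dvd_pow_self l (Nat.succ_ne_zero e)).trans (by simpa using h4)
    have hl7 : l = 7 := (Nat.prime_dvd_prime_iff_eq c.pp.prime (by norm_num)).1 h3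
    have hyo : orderOf (⟨s ^ l ^ e, hyK⟩ : K) = 7 := by
      rw [← Subgroup.orderOf_coe, ← hl7]; exact c.orderOf_y
    obtain ⟨w, hw, hwy⟩ := real_seven hJ hk hyo
    have h4 := c.even_of_real hc hV (w := (w : H)) (y := s ^ l ^ e) (congrArg Subtype.val hw) c.orderOf_y
      (congrArg Subtype.val hwy)
    rw [hf] at h4
    revert h4
    decide

/-- `SL₂(2 ^ n)` -/
theorem sl2_case (hc : OddCyc H) (h2 : pCore 2 H = ⊥) (hV : ∀ v : V, v * v = 1) (hρ : Function.Injective ρ)
    (c : Cfg ρ f l e s E) (hK : IsComponent K) (hE : ¬ E ≤ centralizer (K : Set H)) (hk : KZero K)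
    {F : Type} [Field F] [Fintype F] [CharP F 2] {n : ℕ} (hn : 2 ≤ n) (hF : Fintype.card F = 2 ^ n)
    (g : Matrix.SpecialLinearGroup (Fin 2) F ≃* K) :
    n = f ∧ ∃ P : Sylow 2 K, (P : Subgroup K) = E.subgroupOf K := by
  have h2f : Fact (Nat.Prime 2) := ⟨Nat.prime_two⟩
  have hz := zi_sl2 (by omega : 0 < n) hF g
  obtain ⟨hyK, hEK⟩ := c.mem_comp hc h2 hV hρ hK hE hk
  have h1 := c.in_comp hc h2 hV hρ hK hE hk hz.zt
  have h3 : f ∣ n := c.pp.prim _ h1
  -- an involution of `E`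
  have h4 : 2 ∣ Nat.card E := by
    obtain ⟨n, hn⟩ := (IsPGroup.iff_card (p := 2)).1 c.pg
    rw [hn]
    refine dvd_pow_self 2 ?_
    rintro rfl
    rw [pow_zero, Subgroup.card_eq_one] at hn
    exact c.E_ne hn
  obtain ⟨a, ha⟩ := exists_prime_orderOf_dvd_card' (G := E) 2 h4
  have ha2 : orderOf (a : H) = 2 := by rw [Subgroup.orderOf_coe, ha]
  let ρ' : Matrix.SpecialLinearGroup (Fin 2) F →* MulAut V := (ρ.comp K.subtype).comp g.toMonoidHom
  have hρ' : ∀ x, fx ρ' x = fx ρ ((g x : K) : H) := fun x => rfl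
  have hne : ∃ g v, ρ' g v ≠ v := by
    refine ⟨g.symm ⟨_, hyK⟩, ?_⟩
    by_contra hcon
    push Not at hcon
    apply c.y_ne
    apply hρ
    rw [map_one]
    ext v
    have h5 := hcon v
    have h6 : ρ' (g.symm ⟨_, hyK⟩) = ρ (s ^ l ^ e) := by
      show ρ ((g (g.symm ⟨_, hyK⟩) : K) : H) = _
      rw [MulEquiv.apply_symm_apply]
    rw [h6] at h5
    exact h5
  have haq : (g.symm ⟨(a : H), hEK a.2⟩) * (g.symm ⟨(a : H), hEK a.2⟩) = 1 := by
    rw [← map_mul]
    have h5 : (⟨(a : H), hEK a.2⟩ : K) * ⟨(a : H), hEK a.2⟩ = 1 := by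
      apply Subtype.ext
      show (a : H) * a = 1
      rw [← pow_two, ← ha2, pow_orderOf_eq_one]
    rw [h5, map_one]
  have ha1 : g.symm ⟨(a : H), hEK a.2⟩ ≠ 1 := by
    intro h5
    have h6 : (⟨(a : H), hEK a.2⟩ : K) = 1 := by rw [← map_one g.symm] at h5; exact g.symm.injective h5
    have h7 : (a : H) = 1 := congrArg Subtype.val h6
    rw [h7, orderOf_one] at ha2
    omega
  have h5 := sl2_index (by
    rw [hF]
    calc 4 = 2 ^ 2 := by norm_num
      _ ≤ 2 ^ n := Nat.pow_le_pow_right (by norm_num) hn) hV ρ' hne haq ha1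
  rw [hρ', MulEquiv.apply_symm_apply, hF] at h5
  have h6 := (Nat.pow_le_pow_iff_right (by norm_num : 1 < 2)).1 (h5.trans (c.index_le a.2))
  have hf2 := c.f2
  have hnf : n = f := by
    obtain ⟨k, rfl⟩ := h3
    have hk1 : k = 1 := by
      have : k < 2 := by
        by_contra hcon
        have h6 : f * 2 ≤ f * k := Nat.mul_le_mul_left f (by omega)
        omega
      have : k ≠ 0 := by rintro rfl; omega
      omega
    rw [hk1, mul_one]
  refine ⟨hnf, ?_⟩
  have hE2 : IsPGroup 2 (E.subgroupOf K) :=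
    c.pg.of_injective (Subgroup.subgroupOfEquivOfLe hEK).toMonoidHom (Subgroup.subgroupOfEquivOfLe hEK).injective
  obtain ⟨P, hP⟩ := hE2.exists_le_sylow
  refine ⟨P, (Subgroup.eq_of_le_of_card_ge hP ?_).symm⟩
  have h7 : Nat.card (E.subgroupOf K) = Nat.card E := Nat.card_congr (Subgroup.subgroupOfEquivOfLe hEK).toEquiv
  rw [h7]
  refine (le_of_eq ?_).trans c.card_ge
  rw [← hnf]
  exact hz.zt.sylow P

end inner

end Cfg

end Cfsg.Agent.OddCyclic.EmpF
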