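import Cfsg.Agent.OddCyclic.EmpF.Lb
import Cfsg.Agent.OddCyclic.EmpNSMain

/-!
# (Empty), natural `L₂(4)`: the final contradiction (5.6)

* `good_of_not_mem`: the elements of `V` outside `Ω` are good;
* `kill`.
-/

set_option autoImplicit false
set_option linter.unusedSectionVars false

namespace Cfsg.Agent.OddCyclic.EmpF

open Subgroup Cfsg Cfsg.Agent.ZN Cfsg.Agent.ZN.ChoiceBase Cfsg.Agent.ZN.ChoiceSit
open Cfsg.Agent.MinSimple Cfsg.Agent.MinSimple.EmptyTI Cfsg.Agent.MinSimple.EmptySix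
open Cfsg.Agent.MinSimple.EmptyE.Closed (LL CC cl mem_cl cl_eq cl_le vv_comm vv_sq vv_mul_self vv_inv
  isPGroup_vv vv_le_jj vv_le jj_le_centralizer_vv conj_mem_vv cj_vv)
open Cfsg.Agent.OddCyclic.EmpFrame
open Cfsg.Agent.OddCyclic.EmpNSBase
open Cfsg.Agent.OddCyclic.EmpNSBase.FP (vv_le_uu ww_le_uu vp_le_ww P_le_uu P_le_ww cj_vv_le_uu cj_vp_le_ww vp_le kk_le_P)
open Cfsg.Agent.OddCyclic.EmpNSCrit Cfsg.Agent.OddCyclic.EmpNSPair Cfsg.Agent.OddCyclic.EmpNSRep
open Cfsg.Agent.OddCyclic.EmpNSDefs Cfsg.Agent.OddCyclic.EmpNSAct Cfsg.Agent.OddCyclic.EmpNSDir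
open Cfsg.Agent.OddCyclic.EmpNSMain
open Cfsg.Agent.OddCyclic.T1Module (CS mem_CS)
open Cfsg.Agent.OddCyclic.FFBasic (fx)

universe u v

variable {G : Type u} [Group G] [Finite G] {S : Sylow 2 G}

/-- `|X : C_X(n)| ≤ |Y|` if `[X, n] ⊆ Y` -/
theorem relIndex_le_of_comm {X Y C : Subgroup G} {n : G} (hX : ∀ a ∈ X, ∀ b ∈ X, a * b = b * a)
    (hn : ∀ a ∈ X, n * a * n⁻¹ ∈ X) (hY : ∀ a ∈ X, n * a * n⁻¹ * a⁻¹ ∈ Y)
    (hC : ∀ a ∈ X, n * a * n⁻¹ = a → a ∈ C) : C.relIndex X ≤ Nat.card Y := by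
  let φ : X →* G :=
    { toFun := fun a => n * a * n⁻¹ * (a : G)⁻¹
      map_one' := by simp
      map_mul' := fun a b => by
        show n * (a * b) * n⁻¹ * ((a : G) * b)⁻¹ = (n * a * n⁻¹ * (a : G)⁻¹) * (n * b * n⁻¹ * (b : G)⁻¹)
        have h1 := hX _ (mul_mem (hn b b.2) (inv_mem b.2)) _ (inv_mem a.2)
        calc n * (a * b) * n⁻¹ * ((a : G) * b)⁻¹ = (n * a * n⁻¹) * (n * b * n⁻¹ * (b : G)⁻¹ * (a : G)⁻¹) := by group
          _ = (n * a * n⁻¹) * ((a : G)⁻¹ * (n * b * n⁻¹ * (b : G)⁻¹)) := by rw [h1]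
          _ = _ := by group }
  have h1 : φ.ker ≤ C.subgroupOf X := by
    intro a ha
    refine hC a a.2 ?_
    have h2 : n * a * n⁻¹ * (a : G)⁻¹ = 1 := ha
    exact mul_inv_eq_one.1 h2
  have h2 : φ.range ≤ Y := by
    rintro _ ⟨a, rfl⟩
    exact hY a a.2
  calc C.relIndex X = (C.subgroupOf X).index := rfl
    _ ≤ φ.ker.index := Nat.le_of_dvd (Nat.pos_of_ne_zero index_ne_zero_of_finite) (index_dvd_of_le h1)
    _ = Nat.card φ.range := index_ker φ
    _ ≤ Nat.card Y := card_le_of_le h2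

theorem good_of_not_mem (h : ENS S) {Ω : Set G} (five : FiveG (S : Subgroup G) Ω)
    (max : ∀ D : Subgroup G, D ≤ vv (S : Subgroup G) → ¬ Good (S : Subgroup G) D → Nat.card D ≤ 2) {m : G}
    (hm : m ∈ vv (S : Subgroup G)) (hm1 : m ≠ 1) (hmΩ : m ∉ Ω) : Good (S : Subgroup G) (zpowers m) := by
  have hf : Fact (Nat.Prime 2) := ⟨Nat.prime_two⟩
  have hle : zpowers m ≤ vv (S : Subgroup G) := by rwa [zpowers_le]
  have hne : zpowers m ≠ ⊥ := by rwa [Ne, zpowers_eq_bot]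
  obtain ⟨T₁, hT₁, -⟩ := exists_syl (X := LL (S : Subgroup G) ⊓ centralizer ((zpowers m : Subgroup G) : Set G))
    (T := ⊥) (IsPGroup.of_bot) bot_le
  have h1 := h.inf_centralizer_le_cld hle hne hT₁
  have hTL : T₁ ≤ LL (S : Subgroup G) := hT₁.1.trans inf_le_left
  -- a fixed point in `Ω`
  obtain ⟨ω, hω, hωT⟩ : ∃ ω ∈ Ω, ∀ t ∈ T₁, t * ω * t⁻¹ = ω := by
    let _ : MulAction T₁ Ω :=
      { smul := fun t w => ⟨t * w * (t : G)⁻¹, five.inv _ (hTL t.2) _ w.2⟩
        one_smul := fun w => Subtype.ext (by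
          change ((1 : T₁) : G) * w * ((1 : T₁) : G)⁻¹ = w
          simp)
        mul_smul := fun s t w => Subtype.ext (by
          change ((s * t : T₁) : G) * w * ((s * t : T₁) : G)⁻¹ = s * (t * w * (t : G)⁻¹) * (s : G)⁻¹
          rw [Subgroup.coe_mul]; group) }
    have h2 := hT₁.2.1.card_modEq_card_fixedPoints Ω
    have h3 : Nat.card Ω = 5 := by rw [Nat.card_coe_set_eq]; exact five.card
    rw [h3] at h2
    have h4 : Nonempty (MulAction.fixedPoints T₁ Ω) := by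
      by_contra hcon
      rw [not_nonempty_iff] at hcon
      rw [Nat.card_of_isEmpty] at h2
      exact absurd h2 (by decide)
    obtain ⟨⟨w, hw⟩⟩ := h4
    exact ⟨w, w.2, fun t ht => congrArg Subtype.val (hw ⟨t, ht⟩)⟩
  have hωc : ω ∈ cld (S : Subgroup G) (zpowers m) := by
    refine h1 (mem_inf.2 ⟨five.sub _ hω, ?_⟩)
    rw [mem_centralizer_iff]
    intro t ht
    exact mul_inv_eq_iff_eq_mul.1 (hωT t ht)
  have hmc : m ∈ cld (S : Subgroup G) (zpowers m) := by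
    refine h1 (mem_inf.2 ⟨hm, ?_⟩)
    rw [mem_centralizer_iff]
    intro t ht
    exact (mem_centralizer_iff.1 (hT₁.1 ht).2 m (mem_zpowers m)).symm
  -- `|cl(m)| > 2`
  have hg : Good (S : Subgroup G) (cld (S : Subgroup G) (zpowers m)) := by
    by_contra hcon
    have h2 := max _ (cld_le _ _) hcon
    have h3 : m ≠ ω := by rintro rfl; exact hmΩ hω
    have h4 : ω ≠ 1 := by rintro rfl; exact five.one hω
    have h5 : ({1, m, ω} : Set G).ncard = 3 := by
      rw [Set.ncard_eq_three]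
      exact ⟨1, m, ω, hm1.symm, h4.symm, h3, rfl⟩
    have h6 : ({1, m, ω} : Set G) ⊆ (cld (S : Subgroup G) (zpowers m) : Set G) := by
      rintro w (rfl | rfl | rfl)
      · exact one_mem _
      · exact hmc
      · exact hωc
    have h7 := Set.ncard_le_ncard h6 (Set.toFinite _)
    rw [h5] at h7
    have h8 : (cld (S : Subgroup G) (zpowers m) : Set G).ncard = Nat.card (cld (S : Subgroup G) (zpowers m)) :=
      (Nat.card_coe_set_eq _).symm
    omega
  unfold Good at hg ⊢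
  rwa [cld_cld hle] at hg

variable {F T P Θ : Subgroup G} {g : G} {H : Type v} [Group H] [Finite H] {M : Type v} [CommGroup M] [Finite M]
  {ρ : H →* MulAut M} {r : P →* H} {π : ww (S : Subgroup G) F T P →* M}

theorem kill (fp : FP S F T P) (nff : NFF (vv (S : Subgroup G))) (c : Crit S F T P Θ g)
    (R : Rp P (ww (S : Subgroup G) F T P) F ρ r π)
    (noo : ∀ B : Subgroup H, B ≤ im r Θ → (∀ b ∈ B, b * b = 1) →
      (∀ b ∈ B, ∀ b' ∈ B, ∀ w : M, ρ b' (ρ b w * w⁻¹) = ρ b w * w⁻¹) → Nat.card B ≤ (CS ρ B).index)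
    {K : Subgroup H} (hK : ∀ x ∈ K, x * x = 1 → x ≠ 1 → 4 ≤ (fx ρ x).index)
    (hle : ∀ B : Subgroup H, B ≤ im r Θ → (∀ b ∈ B, b * b = 1) → B ≤ K ∧ Nat.card B ≤ 4)
    (h16 : Nat.card (vv (S : Subgroup G)) = 16) (hF2 : Nat.card F = 2) {Ω : Set G}
    (five : FiveG (S : Subgroup G) Ω) : False := by
  obtain ⟨x, y, d⟩ := exists_pair fp c (two_of_nff fp nff c R noo) (two_of_nff fp nff c.symm R noo)
  obtain ⟨V', hV'⟩ : ∃ V', V' = cj (g * x) (vv (S : Subgroup G)) := ⟨_, rfl⟩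
  have hcard : Nat.card V' = 16 := by rw [hV', card_cj, h16]
  have hVP : V' ≤ P := hV' ▸ line_le_P fp c d.hx
  have hVsq : ∀ v ∈ V', v * v = 1 := by rw [hV']; exact line_sq _
  have hVc : ∀ a ∈ V', ∀ b ∈ V', a * b = b * a := fun a ha b hb => comm_of_sq' hVsq ha hb
  have hcj : ∀ {X : Subgroup G} {w : G}, w ∈ cj (g * x) X ↔ (g * x)⁻¹ * w * (g * x) ∈ X := mem_cj
  -- `|V' ∩ K_p| ≥ 4`
  have hB := hle (im r V') (im_mono (hV' ▸ (line_le d.hx).trans c.left)) (by
    intro b hb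
    obtain ⟨v, hvP, hv, rfl⟩ := mem_im.1 hb
    rw [← map_mul]
    have e : (⟨v, hvP⟩ : P) * ⟨v, hvP⟩ = 1 := Subtype.ext (hVsq v hv)
    rw [e, map_one])
  have h1 := hB.2
  rw [card_im fp R hVP] at h1
  have h2 := relIndex_mul_card (kk (S : Subgroup G) F T P) V'
  rw [hcard] at h2
  have h3 : 4 ≤ Nat.card (V' ⊓ kk (S : Subgroup G) F T P : Subgroup G) := by
    by_contra hcon
    push Not at hcon
    have h4 : (kk (S : Subgroup G) F T P).relIndex V' * Nat.card (V' ⊓ kk (S : Subgroup G) F T P : Subgroup G) ≤ 4 * 3 :=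
      Nat.mul_le_mul h1 (by omega)
    omega
  -- `m`
  obtain ⟨m, ⟨hmV, hmK⟩, hm1, hmΩ⟩ : ∃ m ∈ V' ⊓ kk (S : Subgroup G) F T P, m ≠ 1 ∧ (g * x)⁻¹ * m * (g * x) ∉ Ω := by
    by_contra hcon
    push Not at hcon
    obtain ⟨A, hA⟩ : ∃ A, A = V' ⊓ kk (S : Subgroup G) F T P := ⟨_, rfl⟩
    rw [← hA] at hcon h3
    obtain ⟨a, ha, ha1⟩ : ∃ a ∈ A, a ≠ 1 := by
      by_contra h0
      push Not at h0
      have h4 : A = ⊥ := by
        rw [eq_bot_iff]; intro a ha; exact mem_bot.2 (h0 a ha)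
      rw [h4, Subgroup.card_bot] at h3
      omega
    obtain ⟨b, hb, hb1, hba⟩ : ∃ b ∈ A, b ≠ 1 ∧ b ≠ a := by
      by_contra h0
      push Not at h0
      have h4 : (A : Set G) ⊆ {1, a} := by
        intro w hw
        by_cases hw1 : w = 1
        · exact Or.inl hw1
        · exact Or.inr (h0 w hw hw1)
      have h5 := Set.ncard_le_ncard h4 (Set.toFinite _)
      have h6 : ({1, a} : Set G).ncard ≤ 2 := by
        have h7 := Set.ncard_insert_le (1 : G) {a}
        rwa [Set.ncard_singleton] at h7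
      have h8 : (A : Set G).ncard = Nat.card A := (Nat.card_coe_set_eq _).symm
      omega
    have haV : a ∈ V' := by rw [hA] at ha; exact ha.1
    have h4 := five.mul _ (hcon a ha ha1) _ (hcon b hb hb1) (fun h0 => hba (by
      have h5 := mul_left_cancel (mul_right_cancel h0)
      exact h5.symm))
    apply h4
    have h5 := hcon (a * b) (mul_mem ha hb) (fun h0 => hba (by
      have h6 : b = a⁻¹ := eq_inv_of_mul_eq_one_right h0
      rw [h6]
      exact inv_eq_of_mul_eq_one_left (hVsq a haV)))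
    have e : (g * x)⁻¹ * a * (g * x) * ((g * x)⁻¹ * b * (g * x)) = (g * x)⁻¹ * (a * b) * (g * x) := by group
    rwa [e]
  -- `m` is good
  have hgood := good_of_not_mem fp.ens five (fun D hD hDb => hF2 ▸ fp.max D hD hDb) (m := (g * x)⁻¹ * m * (g * x))
    (by rw [hV'] at hmV; exact mem_cj.1 hmV) (fun h0 => hm1 (by
      have h5 : m = (g * x) * ((g * x)⁻¹ * m * (g * x)) * (g * x)⁻¹ := by group
      rw [h5, h0]; group)) hmΩ
  have hnorm := hgood.normalizer_le (by rw [zpowers_le]; rw [hV'] at hmV; exact mem_cj.1 hmV)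
  have hcent : ∀ w : G, w * m = m * w → w ∈ normalizer (V' : Set G) := by
    intro w hw
    have h4 : (g * x)⁻¹ * w * (g * x) ∈ LL (S : Subgroup G) := by
      apply hnorm
      refine centralizer_le_normalizer _ ?_
      rw [mem_centralizer_iff]
      rintro _ ⟨n, rfl⟩
      have h5 : Commute ((g * x)⁻¹ * w * (g * x)) ((g * x)⁻¹ * m * (g * x)) := by
        show (g * x)⁻¹ * w * (g * x) * ((g * x)⁻¹ * m * (g * x)) = (g * x)⁻¹ * m * (g * x) * ((g * x)⁻¹ * w * (g * x))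
        calc _ = (g * x)⁻¹ * (w * m) * (g * x) := by group
          _ = (g * x)⁻¹ * (m * w) * (g * x) := by rw [hw]
          _ = _ := by group
      exact (h5.zpow_right n).symm.eq
    rw [hV', ← cj_normalizer, mem_cj]
    exact h4
  -- `|W_p : N_{W_p}(V')| ≤ 2`
  obtain ⟨W, hW⟩ : ∃ W, W = ww (S : Subgroup G) F T P := ⟨_, rfl⟩
  have hWc : ∀ a ∈ W, ∀ b ∈ W, a * b = b * a := by rw [hW]; exact fun a ha b hb => fp.ww_comm ha hb
  have h4 : (normalizer (V' : Set G)).relIndex W ≤ 2 := by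
    rw [← hF2]
    refine relIndex_le_of_comm (n := m) hWc ?_ ?_ ?_
    · rw [hW]; intro a ha; exact conj_ww (hVP hmV) ha
    · rw [hW]; exact (fp.mem_kk.1 hmK).2
    · intro a _ ha
      exact hcent a (mul_inv_eq_iff_eq_mul.1 ha).symm
  -- `V' ∩ W ≤ F_r`
  have h5 : V' ⊓ W ≤ cj g F := by
    obtain ⟨w, hw, hwn⟩ := SetLike.not_le_iff_exists.1 d.nx
    rintro v ⟨hv, hvW⟩
    rw [hV'] at hv
    rw [hW] at hvW
    exact mem_F_of_comm fp c d.hx (ww_le_uu hw) hwn hv (fp.ww_comm hw hvW)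
  -- `N_{W_p}(V')` centralises `V'`
  have hjb := jb_of_nff (nff.cj (g * x)) (line_sq _) (W := W) (fun w hw => fp.ww_sq (P := P) (F := F) (T := T) (by rwa [hW] at hw))
  rw [← hV'] at hjb
  have h6 : W ⊓ normalizer (V' : Set G) ≤ centralizer (V' : Set G) := by
    rintro n ⟨hnW, hnN⟩
    by_contra hnc
    have h7 := hjb (zpowers n) (by rwa [zpowers_le]) (by rwa [zpowers_le]) (fun h0 => hnc (h0 (mem_zpowers n)))
    have h8 : (centralizer (V' : Set G)).relIndex (zpowers n) ≠ 1 := fun h0 =>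
      hnc (relIndex_eq_one.1 h0 (mem_zpowers _))
    have h9 : (centralizer (V' : Set G)).relIndex (zpowers n) ≠ 0 := index_ne_zero_of_finite
    have h10 : (centralizer ((zpowers n : Subgroup G) : Set G)).relIndex V' ≤ 2 := by
      have e : Nat.card (cj g F) = 2 := by rw [card_cj, hF2]
      rw [← e]
      refine relIndex_le_of_comm (n := n) hVc ?_ ?_ ?_
      · exact fun a ha => (mem_normalizer_iff.1 hnN a).1 ha
      · intro a ha
        refine h5 (mem_inf.2 ⟨mul_mem ((mem_normalizer_iff.1 hnN a).1 ha) (inv_mem ha), ?_⟩)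
        have e2 : n * a * n⁻¹ * a⁻¹ = n * (a * n⁻¹ * a⁻¹) := by group
        rw [e2]
        refine mul_mem hnW ?_
        rw [hW] at hnW ⊢
        exact conj_ww (hVP ha) (inv_mem hnW)
      · intro a _ ha
        rw [mem_centralizer_iff]
        rintro _ ⟨k, rfl⟩
        have h11 : Commute n a := mul_inv_eq_iff_eq_mul.1 ha
        exact h11.zpow_left k
    omega
  -- the contradiction
  have h7 : (centralizer (V' : Set G)).relIndex W ≤ 2 := by
    refine le_trans ?_ h4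
    rw [← inf_relIndex_right (normalizer (V' : Set G)) W]
    refine relIndex_le_of_le_left ?_ index_ne_zero_of_finite
    rw [inf_comm]
    exact h6
  have h8 : (CS ρ (im r V')).index ≤ 2 := by
    have h9 : imw π (centralizer (V' : Set G)) ≤ CS ρ (im r V') := by
      intro a ha b hb
      obtain ⟨w, hw, hwc, rfl⟩ := mem_imw.1 ha
      obtain ⟨v, hv, hvV, rfl⟩ := mem_im.1 hb
      rw [Rp.fix_iff R hv hw (conj_ww hv hw), mem_centralizer_iff.1 hwc v hvV, mul_inv_cancel_right, mul_inv_cancel]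
      exact one_mem _
    have h10 : (imw π (centralizer (V' : Set G))).index ≤ (centralizer (V' : Set G)).relIndex W := by
      rw [hW]
      exact Nat.le_of_dvd (Nat.pos_of_ne_zero index_ne_zero_of_finite) (index_map_dvd _ R.π_surj)
    calc (CS ρ (im r V')).index ≤ (imw π (centralizer (V' : Set G))).index :=
          Nat.le_of_dvd (Nat.pos_of_ne_zero index_ne_zero_of_finite) (index_dvd_of_le h9)
      _ ≤ 2 := h10.trans h7
  obtain ⟨v, hv, hvK⟩ : ∃ v ∈ V', v ∉ kk (S : Subgroup G) F T P := by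
    by_contra hcon
    push Not at hcon
    apply d.kx
    refine inf_le_left.trans ?_
    rw [← hV']
    exact hcon
  have h9 : r ⟨v, hVP hv⟩ ≠ 1 := fun h0 => hvK ((r_eq_one fp R _).1 h0)
  have h10 := mem_im_of (r := r) (hVP hv) hv
  have h11 := hK _ (hB.1 h10) (by
    rw [← map_mul]
    have e : (⟨v, hVP hv⟩ : P) * ⟨v, hVP hv⟩ = 1 := Subtype.ext (hVsq v hv)
    rw [e, map_one]) h9
  have h12 : (fx ρ (r ⟨v, hVP hv⟩)).index ≤ (CS ρ (im r V')).index :=
    Nat.le_of_dvd (Nat.pos_of_ne_zero index_ne_zero_of_finite) (index_dvd_of_le fun w hw => hw _ h10)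
  omega

end Cfsg.Agent.OddCyclic.EmpF
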