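import Cfsg.Agent.OddCyclic.FFSl2

/-!
# Module lemmas

* `quo`: the action on a quotient; `index_ge`;
* `Uniq ρ K`: `K` is trivial on `Y` or on `V/Y` for each `K`-invariant `Y`; `uniq_of`;
* `exists_orbit_prod`: the product over an orbit of odd length;
* `free_inj`, `free_index`: a 2-group acting freely.
-/

set_option autoImplicit false
set_option linter.unusedSectionVars false

namespace Cfsg.Agent.OddCyclic.EmpF

open Subgroup Cfsg.Agent.OddCyclic.T1Module Cfsg.Agent.OddCyclic.FFBasic Cfsg.Agent.OddCyclic.FFRed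

universe u v

variable {X : Type u} [Group X] {V : Type v} [CommGroup V]

/-- the action of `N` on `V/Y` -/
def quo (ρ : X →* MulAut V) (N : Subgroup X) (Y : Subgroup V) (h : ∀ n ∈ N, ∀ w ∈ Y, ρ n w ∈ Y) :
    N →* MulAut (V ⧸ Y) where
  toFun n := QuotientGroup.congr Y Y (ρ n) (by
    apply le_antisymm
    · rintro _ ⟨w, hw, rfl⟩
      exact h n n.2 w hw
    · intro w hw
      refine ⟨ρ (n : X)⁻¹ w, h _ (inv_mem n.2) w hw, ?_⟩
      show ρ n (ρ (n : X)⁻¹ w) = w
      rw [← MulAut.mul_apply, ← map_mul, mul_inv_cancel, map_one]; rfl)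
  map_one' := by
    ext x
    obtain ⟨w, rfl⟩ := QuotientGroup.mk_surjective x
    show ((ρ (1 : X) w : V) : V ⧸ Y) = (w : V ⧸ Y)
    rw [map_one]; rfl
  map_mul' p q := by
    ext x
    obtain ⟨w, rfl⟩ := QuotientGroup.mk_surjective x
    show ((ρ ((p : X) * q) w : V) : V ⧸ Y) = ((ρ (p : X) (ρ (q : X) w) : V) : V ⧸ Y)
    rw [map_mul]; rfl

theorem quo_mk (ρ : X →* MulAut V) (N : Subgroup X) (Y : Subgroup V) (h : ∀ n ∈ N, ∀ w ∈ Y, ρ n w ∈ Y) (n : N)
    (w : V) : quo ρ N Y h n (w : V ⧸ Y) = ((ρ n w : V) : V ⧸ Y) := rfl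

theorem index_ge [Finite V] (ρ : X →* MulAut V) (N : Subgroup X) (Y : Subgroup V)
    (h : ∀ n ∈ N, ∀ w ∈ Y, ρ n w ∈ Y) (n : N) :
    (fx (res ρ N Y h) n).index * (fx (quo ρ N Y h) n).index ≤ (fx ρ (n : X)).index := by
  rw [← card_range_cm, ← card_range_cm, ← card_range_cm]
  obtain ⟨R, hR⟩ : ∃ R, R = (cm ρ (n : X)).range := ⟨_, rfl⟩
  rw [← hR]
  let φ : R →* V ⧸ Y := (QuotientGroup.mk' Y).comp R.subtype
  have h1 := φ.ker.card_mul_index
  rw [Subgroup.index_ker] at h1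
  rw [← h1]
  refine Nat.mul_le_mul ?_ (le_of_eq ?_)
  · refine Nat.card_le_card_of_injective (f := fun w : (cm (res ρ N Y h) n).range => (⟨⟨((w : Y) : V), ?_⟩, ?_⟩ : φ.ker)) ?_
    · obtain ⟨w, ⟨x, rfl⟩⟩ := w
      rw [hR]
      exact ⟨(x : V), rfl⟩
    · rw [MonoidHom.mem_ker]
      exact (QuotientGroup.eq_one_iff _).2 (w : Y).2
    · intro w w' hw
      have h3 : ((w : Y) : V) = ((w' : Y) : V) := congrArg (fun z : φ.ker => ((z : R) : V)) hw
      exact Subtype.ext (Subtype.ext h3)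
  · have h3 : (cm (quo ρ N Y h) n).range = φ.range := by
      ext x
      constructor
      · rintro ⟨w, rfl⟩
        obtain ⟨w, rfl⟩ := QuotientGroup.mk_surjective w
        exact ⟨⟨cm ρ (n : X) w, by rw [hR]; exact ⟨w, rfl⟩⟩, rfl⟩
      · rintro ⟨⟨w, hw⟩, rfl⟩
        rw [hR] at hw
        obtain ⟨w, rfl⟩ := hw
        exact ⟨(w : V ⧸ Y), rfl⟩
    rw [h3]

/-- at most one composition factor of `V` is nontrivial for `K` -/
def Uniq (ρ : X →* MulAut V) (K : Subgroup X) : Prop :=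
  ∀ Y : Subgroup V, (∀ k ∈ K, ∀ w ∈ Y, ρ k w ∈ Y) →
    (∀ k ∈ K, ∀ w ∈ Y, ρ k w = w) ∨ (∀ k ∈ K, ∀ w : V, ρ k w * w⁻¹ ∈ Y)

theorem uniq_of [Finite V] (hV : ∀ v : V, v * v = 1) {ρ : X →* MulAut V} {K : Subgroup X} {a : K} {m : ℕ}
    (hm : ∀ (U : Type v) [CommGroup U] [Finite U] (_ : ∀ v : U, v * v = 1) (σ : K →* MulAut U),
      (∃ g v, σ g v ≠ v) → m ≤ (fx σ a).index) (hi : (fx ρ (a : X)).index < m * m) : Uniq ρ K := by
  intro Y hY
  by_contra hcon
  push Not at hcon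
  obtain ⟨⟨k, hk, w, hw, h1⟩, ⟨k', hk', w', h2⟩⟩ := hcon
  have h3 := hm Y (fun v => Subtype.ext (hV v)) (res ρ K Y hY)
    ⟨⟨k, hk⟩, ⟨w, hw⟩, fun h => h1 (congrArg Subtype.val h)⟩
  have h4 := hm (V ⧸ Y) (fun v => by
    obtain ⟨v, rfl⟩ := QuotientGroup.mk_surjective v
    rw [← QuotientGroup.mk_mul, hV]; rfl) (quo ρ K Y hY)
    ⟨⟨k', hk'⟩, (w' : V ⧸ Y), fun h => h2 (by
      rw [quo_mk] at h
      have h5 : ((ρ k' w' * w'⁻¹ : V) : V ⧸ Y) = 1 := by
        rw [QuotientGroup.mk_mul, QuotientGroup.mk_inv]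
        show (((ρ k') w' : V) : V ⧸ Y) * _ = 1
        have h6 : (((ρ k') w' : V) : V ⧸ Y) = (w' : V ⧸ Y) := h
        rw [h6, mul_inv_cancel]
      exact (QuotientGroup.eq_one_iff _).1 h5)⟩
  have h5 := index_ge ρ K Y hY a
  have h6 := Nat.mul_le_mul h3 h4
  omega

/-- the product over an orbit of odd length -/
theorem exists_orbit_prod [Finite X] [Finite V] (hV : ∀ v : V, v * v = 1) (ρ : X →* MulAut V) (P : Sylow 2 X) {c : V}
    (hc : ∀ x ∈ P, ρ x c = c) :
    ∃ m : V, (∀ x, ρ x m = m) ∧ ∀ M : Subgroup V, (∀ x, ρ x c * c⁻¹ ∈ M) → m * c⁻¹ ∈ M := by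
  classical
  have h2f : Fact (Nat.Prime 2) := ⟨Nat.prime_two⟩
  let _ : MulAction X V := MulAction.compHom V ρ
  have hfin : Fintype V := Fintype.ofFinite V
  obtain ⟨O, hO⟩ : ∃ O : Finset V, O = (MulAction.orbit X c).toFinset := ⟨_, rfl⟩
  have hmem : ∀ v, v ∈ O ↔ ∃ x : X, ρ x c = v := by
    intro v
    rw [hO, Set.mem_toFinset]
    exact Iff.rfl
  have hodd : ¬ 2 ∣ O.card := by
    have h1 : O.card = Nat.card (MulAction.orbit X c) := by
      rw [hO, Set.toFinset_card, Nat.card_eq_fintype_card]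
    have h3 : O.card = (MulAction.stabilizer X c).index := by
      rw [h1]
      exact (Nat.card_congr (MulAction.orbitEquivQuotientStabilizer X c))
    rw [h3]
    intro h4
    have h5 : (P : Subgroup X) ≤ MulAction.stabilizer X c := fun x hx => hc x hx
    exact P.not_dvd_index (h4.trans (Subgroup.index_dvd_of_le h5))
  refine ⟨∏ o ∈ O, o, fun x => ?_, fun M hM => ?_⟩
  · rw [map_prod]
    have h1 : O.image (ρ x) = O := by
      refine Finset.eq_of_subset_of_card_le ?_ ?_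
      · intro v hv
        rw [Finset.mem_image] at hv
        obtain ⟨w, hw, rfl⟩ := hv
        rw [hmem] at hw ⊢
        obtain ⟨y, rfl⟩ := hw
        exact ⟨x * y, by rw [map_mul]; rfl⟩
      · rw [Finset.card_image_of_injective _ (ρ x).injective]
    conv_rhs => rw [← h1]
    rw [Finset.prod_image (fun a _ b _ h => (ρ x).injective h)]
  · have h1 : c ^ O.card = c := by
      obtain ⟨k, hk⟩ := Nat.odd_iff.2 (by omega : O.card % 2 = 1)
      rw [hk, pow_succ, pow_mul, sq, hV, one_pow, one_mul]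
    have h3 : (∏ o ∈ O, o) * c⁻¹ = ∏ o ∈ O, (o * c⁻¹) := by
      rw [Finset.prod_mul_distrib, Finset.prod_const, inv_pow, h1]
    rw [h3]
    refine prod_mem fun o ho => ?_
    rw [hmem] at ho
    obtain ⟨x, rfl⟩ := ho
    exact hM x

section free

variable [Finite X] [Finite V]

theorem two_cases : ∀ a : ZMod 2, a = 0 ∨ a = 1 := by decide

theorem val_zero' : (0 : ZMod 2).val = 0 := rfl

theorem val_one' : (1 : ZMod 2).val = 1 := rfl

theorem pow_val_add (hV : ∀ v : V, v * v = 1) (v : V) (a b : ZMod 2) : v ^ (a + b).val = v ^ a.val * v ^ b.val := by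
  have h : ∀ a b : ZMod 2, (a + b).val + 2 * (a.val * b.val) = a.val + b.val := by decide
  rw [← pow_add, ← h, pow_add, pow_mul, sq, hV, one_pow, mul_one]

/-- `c ↦ ∏ (ρ x c₀)^{c x}` -/
noncomputable def frh [Fintype X] (hV : ∀ v : V, v * v = 1) (ρ : X →* MulAut V) (c₀ : V) :
    Multiplicative (X → ZMod 2) →* V where
  toFun c := ∏ x : X, (ρ x c₀) ^ (Multiplicative.toAdd c x).val
  map_one' := by simp
  map_mul' a b := by
    rw [← Finset.prod_mul_distrib]
    refine Finset.prod_congr rfl fun x _ => ?_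
    rw [← pow_val_add hV]; rfl

theorem frh_apply [Fintype X] (hV : ∀ v : V, v * v = 1) (ρ : X →* MulAut V) (c₀ : V) (c : X → ZMod 2) :
    frh hV ρ c₀ (Multiplicative.ofAdd c) = ∏ x : X, (ρ x c₀) ^ (c x).val := rfl

/-- translation -/
theorem map_frh [Fintype X] (hV : ∀ v : V, v * v = 1) (ρ : X →* MulAut V) (c₀ : V) (c : X → ZMod 2) (g : X) :
    ρ g (frh hV ρ c₀ (Multiplicative.ofAdd c)) = frh hV ρ c₀ (Multiplicative.ofAdd fun x => c (g⁻¹ * x)) := by
  rw [frh_apply, frh_apply, map_prod]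
  refine Fintype.prod_equiv (Equiv.mulLeft g) _ _ fun x => ?_
  rw [map_pow, Equiv.coe_mulLeft, inv_mul_cancel_left, map_mul]
  rfl

/-- **a 2-group acting freely** -/
theorem free_inj [Fintype X] (hX : IsPGroup 2 X) (hV : ∀ v : V, v * v = 1) (ρ : X →* MulAut V) {c₀ : V}
    (hc : ∏ x : X, ρ x c₀ ≠ 1) : Function.Injective (frh hV ρ c₀) := by
  have h2f : Fact (Nat.Prime 2) := ⟨Nat.prime_two⟩
  rw [← MonoidHom.ker_eq_bot_iff]
  by_contra hne
  obtain ⟨A, hA⟩ : ∃ A, A = (frh hV ρ c₀).ker := ⟨_, rfl⟩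
  rw [← hA] at hne
  have hAmem : ∀ c : X → ZMod 2, Multiplicative.ofAdd c ∈ A ↔ ∏ x : X, (ρ x c₀) ^ (c x).val = 1 := by
    intro c
    rw [hA]
    exact Iff.rfl
  have hst : ∀ (g : X) (c : X → ZMod 2), Multiplicative.ofAdd c ∈ A →
      (Multiplicative.ofAdd fun x => c (g⁻¹ * x)) ∈ A := by
    intro g c hcA
    rw [hA, MonoidHom.mem_ker] at hcA ⊢
    rw [← map_frh, hcA, map_one]
  let _ : MulAction X A :=
    { smul := fun g c => ⟨Multiplicative.ofAdd fun x => Multiplicative.toAdd (c : Multiplicative (X → ZMod 2)) (g⁻¹ * x),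
        hst g _ c.2⟩
      one_smul := fun c => by
        apply Subtype.ext
        show (Multiplicative.ofAdd fun x => Multiplicative.toAdd (c : Multiplicative (X → ZMod 2)) ((1 : X)⁻¹ * x)) = _
        simp only [inv_one, one_mul]
        rfl
      mul_smul := fun g g' c => by
        apply Subtype.ext
        show (Multiplicative.ofAdd fun x => Multiplicative.toAdd (c : Multiplicative (X → ZMod 2)) ((g * g')⁻¹ * x)) =
          (Multiplicative.ofAdd fun x => Multiplicative.toAdd (c : Multiplicative (X → ZMod 2)) (g'⁻¹ * (g⁻¹ * x)))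
        congr 1
        funext x
        rw [mul_inv_rev, mul_assoc] }
  have hA2 : IsPGroup 2 A := by
    intro c
    refine ⟨1, ?_⟩
    rw [pow_one, sq]
    apply Subtype.ext
    show (c : Multiplicative (X → ZMod 2)) * c = 1
    have h1 : Multiplicative.toAdd (c : Multiplicative (X → ZMod 2)) +
        Multiplicative.toAdd (c : Multiplicative (X → ZMod 2)) = 0 := by
      funext x
      exact CharTwo.add_self_eq_zero _
    exact h1
  have h2 : 2 ∣ Nat.card A := by
    obtain ⟨n, hn⟩ := hA2.exists_card_eq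
    rcases Nat.eq_zero_or_pos n with h | h
    · exfalso
      rw [h, pow_zero] at hn
      exact hne (Subgroup.card_eq_one.1 hn)
    · rw [hn]; exact dvd_pow_self 2 h.ne'
  obtain ⟨c, hfix, hc1⟩ := hX.exists_fixed_point_of_prime_dvd_card_of_fixed_point (α := A) h2 (a := 1) (by
    intro g
    rfl)
  -- `c` is constant
  obtain ⟨c', hc'⟩ : ∃ c' : X → ZMod 2, c' = Multiplicative.toAdd (c : Multiplicative (X → ZMod 2)) := ⟨_, rfl⟩
  have hcm : Multiplicative.ofAdd c' ∈ A := by rw [hc']; exact c.2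
  have hconst : ∀ x, c' x = c' 1 := by
    intro x
    have h3 := hfix x⁻¹
    have h4 := congrFun (congrArg (fun z : A => Multiplicative.toAdd (z : Multiplicative (X → ZMod 2))) h3) 1
    have h5 : c' (x⁻¹⁻¹ * 1) = c' 1 := by
      rw [hc']; exact h4
    rwa [inv_inv, mul_one] at h5
  have hone : c' 1 = 1 := by
    refine (two_cases _).resolve_left fun h4 => ?_
    apply hc1
    apply Subtype.ext
    have h5 : c' = 0 := by
      funext x
      rw [hconst, h4]; rfl
    rw [h5] at hc'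
    exact hc'
  apply hc
  rw [hAmem] at hcm
  rw [← hcm]
  refine Finset.prod_congr rfl fun x _ => ?_
  rw [hconst, hone, val_one', pow_one]

/-- the vectors fixed by `X` in the free module -/
theorem free_fix [Fintype X] (hX : IsPGroup 2 X) (hV : ∀ v : V, v * v = 1) (ρ : X →* MulAut V) {c₀ : V}
    (hc : ∏ x : X, ρ x c₀ ≠ 1) {v : V} (hv : v ∈ (frh hV ρ c₀).range) (hf : ∀ x, ρ x v = v) :
    v = 1 ∨ v = ∏ x : X, ρ x c₀ := by
  obtain ⟨c, rfl⟩ := hv
  obtain ⟨c', rfl⟩ := Multiplicative.ofAdd.surjective c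
  have hconst : ∀ x, c' x = c' 1 := by
    intro x
    have h3 := hf x⁻¹
    rw [map_frh] at h3
    have h4 := free_inj hX hV ρ hc h3
    have h5 := congrFun (Multiplicative.ofAdd.injective h4) 1
    have h6 : c' (x⁻¹⁻¹ * 1) = c' 1 := h5
    rwa [inv_inv, mul_one] at h6
  have h7 : c' 1 = 0 ∨ c' 1 = 1 := two_cases _
  rw [frh_apply]
  rcases h7 with h7 | h7
  · left
    refine Finset.prod_eq_one fun x _ => ?_
    rw [hconst, h7, val_zero', pow_zero]
  · right
    refine Finset.prod_congr rfl fun x _ => ?_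
    rw [hconst, h7, val_one', pow_one]

theorem card_frh [Fintype X] (hX : IsPGroup 2 X) (hV : ∀ v : V, v * v = 1) (ρ : X →* MulAut V) {c₀ : V}
    (hc : ∏ x : X, ρ x c₀ ≠ 1) : Nat.card (frh hV ρ c₀).range = 2 ^ Nat.card X := by
  rw [← Nat.card_congr (MonoidHom.ofInjective (free_inj hX hV ρ hc)).toEquiv]
  rw [Nat.card_congr (Multiplicative.toAdd : Multiplicative (X → ZMod 2) ≃ (X → ZMod 2)), Nat.card_fun,
    Nat.card_eq_fintype_card (α := ZMod 2), ZMod.card]

/-- `|M : C_M(X)|` for the free module `M` -/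
theorem free_relIndex [Fintype X] (hX : IsPGroup 2 X) (hV : ∀ v : V, v * v = 1) (ρ : X →* MulAut V) {c₀ : V}
    (hc : ∏ x : X, ρ x c₀ ≠ 1) : (CS ρ ⊤).relIndex (frh hV ρ c₀).range = 2 ^ (Nat.card X - 1) := by
  have h1 : Nat.card (CS ρ ⊤ ⊓ (frh hV ρ c₀).range : Subgroup V) = 2 := by
    have h2 : ((CS ρ ⊤ ⊓ (frh hV ρ c₀).range : Subgroup V) : Set V) = {1, ∏ x : X, ρ x c₀} := by
      ext v
      constructor
      · rintro ⟨h3, h4⟩
        rcases free_fix hX hV ρ hc h4 (fun x => h3 x (Subgroup.mem_top x)) with h | h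
        · rw [h]; exact Or.inl rfl
        · rw [h]; exact Or.inr rfl
      · rintro (h | h)
        · rw [h]; exact one_mem _
        · have h : v = ∏ x : X, ρ x c₀ := h
          rw [h]
          refine ⟨fun g _ => ?_, ?_⟩
          · rw [map_prod]
            refine Fintype.prod_equiv (Equiv.mulLeft g) _ _ fun x => ?_
            rw [Equiv.coe_mulLeft, map_mul]; rfl
          · refine ⟨Multiplicative.ofAdd fun _ => 1, ?_⟩
            rw [frh_apply]
            refine Finset.prod_congr rfl fun x _ => ?_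
            rw [val_one', pow_one]
    have h3 : Nat.card (CS ρ ⊤ ⊓ (frh hV ρ c₀).range : Subgroup V) =
        ((CS ρ ⊤ ⊓ (frh hV ρ c₀).range : Subgroup V) : Set V).ncard := rfl
    rw [h3, h2, Set.ncard_pair (Ne.symm hc)]
  have h2 : Nat.card (CS ρ ⊤ ⊓ (frh hV ρ c₀).range : Subgroup V) *
      (CS ρ ⊤ ⊓ (frh hV ρ c₀).range).relIndex (frh hV ρ c₀).range = Nat.card (frh hV ρ c₀).range :=
    card_mul_relIndex inf_le_right
  rw [h1, card_frh hX hV ρ hc, Subgroup.inf_relIndex_right] at h2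
  have h3 : 2 ^ Nat.card X = 2 * 2 ^ (Nat.card X - 1) := by
    rw [← pow_succ', Nat.sub_add_cancel (Nat.card_pos (α := X))]
  rw [h3] at h2
  exact Nat.eq_of_mul_eq_mul_left (by norm_num) h2

/-- **the index** -/
theorem free_index [Fintype X] (hX : IsPGroup 2 X) (hV : ∀ v : V, v * v = 1) (ρ : X →* MulAut V) {c₀ : V}
    (hc : ∏ x : X, ρ x c₀ ≠ 1) : 2 ^ (Nat.card X - 1) ≤ (CS ρ ⊤).index := by
  rw [← free_relIndex hX hV ρ hc]
  exact Nat.le_of_dvd (Nat.pos_of_ne_zero Subgroup.index_ne_zero_of_finite)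
    (Subgroup.relIndex_dvd_index_of_normal _ _)

end free

end Cfsg.Agent.OddCyclic.EmpF
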