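import Cfsg.Agent.OddCyclic.EmpF.Psl
import Cfsg.Agent.OddCyclic.EmpF.Mod
import Cfsg.Agent.Lib.SylowNormalInf

/-!
# (Empty), natural `L₂(q)`: the component is not `PSL₂(7)`
-/

set_option autoImplicit false
set_option linter.unusedSectionVars false

namespace Cfsg.Agent.OddCyclic.EmpF

open Subgroup Cfsg Cfsg.Agent.OddCyclic.T1Module Cfsg.Agent.OddCyclic.FFBasic Cfsg.Agent.OddCyclic.FFRed
open Cfsg.Agent.OddCyclic.T1Defs (OddCyc)
open Cfsg.Agent.Lib.SL2Mat
open scoped Pointwise

section gen

variable {L : Type*} [Group L] {F : Type*} [Field F] [Finite F] (R : Cfsg.Agent.GH.L2Aut.Rep F L)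

omit [Finite F] in
theorem mA_conj (x : F) : mA F * up x * (mA F)⁻¹ = lo (-x) := by
  rw [mul_inv_eq_iff_eq_mul]
  refine ext_ent ?_ ?_ ?_ ?_
  · rw [ent_mul, ent_mul]; show (0 : F) * 1 + 1 * 0 = 1 * 0 + 0 * (-1); ring
  · rw [ent_mul, ent_mul]; show (0 : F) * x + 1 * 1 = 1 * 1 + 0 * 1; ring
  · rw [ent_mul, ent_mul]; show (-1 : F) * 1 + 1 * 0 = (-x) * 0 + 1 * (-1); ring
  · rw [ent_mul, ent_mul]; show (-1 : F) * x + 1 * 1 = (-x) * 1 + 1 * 1; ring

include R in
/-- two elements of order 3 generating `PSL₂(p)` -/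
theorem gen_top (hp : (Nat.card F).Prime) {N : Subgroup L} (hA : R.π (mA F) ∈ N) (hB : R.π (-(mB F)) ∈ N) : N = ⊤ := by
  have h1 : R.π (up (-2)) ∈ N := by
    rw [← mA_mul_mB, map_mul, ← R.π_neg (mB F)]
    exact mul_mem hA hB
  let A : AddSubgroup F :=
    { carrier := {c | R.π (up c) ∈ N}
      add_mem' := by
        intro a b ha hb
        show R.π (up (a + b)) ∈ N
        rw [← up_mul, map_mul]
        exact mul_mem ha hb
      zero_mem' := by
        show R.π (up 0) ∈ N
        rw [up_zero, map_one]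
        exact one_mem _
      neg_mem' := by
        intro a ha
        show R.π (up (-a)) ∈ N
        have h3 : up (-a) = (up a)⁻¹ := by
          rw [eq_inv_iff_mul_eq_one, up_mul, neg_add_cancel, up_zero]
        rw [h3, map_inv]
        exact inv_mem ha }
  have hfact : Fact (Nat.card F).Prime := ⟨hp⟩
  have hA' : A = ⊤ := by
    refine (AddSubgroup.eq_bot_or_eq_top_of_prime_card A).resolve_left fun h3 => ?_
    have h4 : (-2 : F) ∈ A := h1
    rw [h3, AddSubgroup.mem_bot] at h4
    exact R.two (neg_eq_zero.1 h4)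
  have hup : ∀ c : F, R.π (up c) ∈ N := by
    intro c
    have h3 : c ∈ A := by rw [hA']; exact AddSubgroup.mem_top c
    exact h3
  have hlo : ∀ c : F, R.π (lo c) ∈ N := by
    intro c
    have h3 := mA_conj (-c)
    rw [neg_neg] at h3
    rw [← h3, map_mul, map_mul, map_inv]
    exact mul_mem (mul_mem hA (hup _)) (inv_mem hA)
  rw [eq_top_iff]
  intro x _
  obtain ⟨X, rfl⟩ := R.surj x
  obtain ⟨a, b, c, d, rfl⟩ := exists_up_lo X
  rw [map_mul, map_mul, map_mul]
  exact mul_mem (mul_mem (mul_mem (hup _) (hlo _)) (hup _)) (hlo _)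

end gen

/-- the order of `PSL₂(7)` -/
theorem card_psl7 {F : Type*} [Field F] [Fintype F] (h : Fintype.card F = 7) :
    Nat.card (Matrix.ProjectiveSpecialLinearGroup (Fin 2) F) = 168 := by
  have h1 := ClassicalGeometry.PSL2Basic.card_PSL2_odd F (by rw [h]; decide)
  rw [h] at h1
  omega

theorem arith168 : ∀ n ∈ Nat.divisors 168, n ≤ 15 → n % 2 = 1 → n = 1 ∨ n = 3 ∨ n = 7 := by decide +kernel

variable {H : Type*} [Group H] [Finite H] {V : Type*} [CommGroup V] [Finite V] {ρ : H →* MulAut V}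
  {l e : ℕ} {s : H} {E : Subgroup H}

/-- `[V, a] ≤ C_V(a)` for involutions -/
theorem index_sq_le (hV : ∀ v : V, v * v = 1) {a : H} (ha : a * a = 1) :
    (fx ρ a).index * (fx ρ a).index ≤ Nat.card V := by
  have h1 : (cm ρ a).range ≤ fx ρ a := by
    rintro _ ⟨v, rfl⟩
    rw [mem_fx, cm_apply, map_mul, ← MulAut.mul_apply, ← map_mul, ha, map_one, MulAut.one_apply, map_inv,
      T1Module.inv_eq_self hV v, T1Module.inv_eq_self hV (ρ a v), mul_comm]
  have h3 := (fx ρ a).card_mul_index
  rw [← h3]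
  refine Nat.mul_le_mul_right _ ?_
  rw [← card_range_cm]
  exact Nat.card_le_card_of_injective _ (inclusion_injective h1)

/-- orbits of odd length on a module of order 16 for `PSL₂(7)` -/
theorem orbit_le {K : Type*} [Group K] [Finite K] (hs : IsSimpleGroup K) (hK : Nat.card K = 168) (hV : ∀ v : V, v * v = 1)
    (σ : K →* MulAut V) (hcV : Nat.card V = 16) (hfix : CS σ ⊤ = ⊥) {z : K} (hz : orderOf z = 7) {v : V} (hv1 : v ≠ 1)
    (hv : ¬ 2 ∣ (FFSl2.stb σ v).index) : v ∈ (cm σ z).range := by
  classical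
  let _ : MulAction K V := MulAction.compHom V σ
  have hfin : Fintype V := Fintype.ofFinite V
  obtain ⟨O, hO⟩ : ∃ O : Finset V, O = (MulAction.orbit K v).toFinset := ⟨_, rfl⟩
  have hmem : ∀ w, w ∈ O ↔ ∃ x : K, σ x v = w := by
    intro w
    rw [hO, Set.mem_toFinset]
    exact Iff.rfl
  have hcard : O.card = (FFSl2.stb σ v).index := by
    have h1 : O.card = Nat.card (MulAction.orbit K v) := by
      rw [hO, Set.toFinset_card, Nat.card_eq_fintype_card]
    have h3 : O.card = (MulAction.stabilizer K v).index := by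
      rw [h1]
      exact (Nat.card_congr (MulAction.orbitEquivQuotientStabilizer K v))
    rw [h3]
    congr 1
  have hvO : v ∈ O := (hmem v).2 ⟨1, by rw [map_one]; rfl⟩
  have h15 : O.card ≤ 15 := by
    have h1 : O ⊆ Finset.univ.erase 1 := by
      intro w hw
      rw [Finset.mem_erase]
      refine ⟨?_, Finset.mem_univ _⟩
      rw [hmem] at hw
      obtain ⟨x, rfl⟩ := hw
      intro h3
      exact hv1 ((map_eq_one_iff _ (σ x).injective).1 h3)
    have h3 := Finset.card_le_card h1
    rw [Finset.card_erase_of_mem (Finset.mem_univ _), Finset.card_univ, ← Nat.card_eq_fintype_card, hcV] at h3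
    exact h3
  have hdvd : O.card ∣ 168 := by
    rw [hcard, ← hK]
    exact Subgroup.index_dvd_card _
  have hn := arith168 _ (Nat.mem_divisors.2 ⟨hdvd, by norm_num⟩) h15 (by rw [hcard]; omega)
  have hz1 : z ≠ 1 := by
    rintro rfl
    rw [orderOf_one] at hz
    omega
  -- an element of the orbit moved by `z`
  obtain ⟨k', hk'⟩ : ∃ k', σ z (σ k' v) ≠ σ k' v := by
    by_contra hcon
    push Not at hcon
    let N : Subgroup K :=
      { carrier := {a | ∀ k, σ a (σ k v) = σ k v}
        mul_mem' := by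
          intro a b ha hb k
          show σ (a * b) (σ k v) = σ k v
          rw [map_mul, MulAut.mul_apply, hb k, ha k]
        one_mem' := by
          intro k
          rw [map_one]; rfl
        inv_mem' := by
          intro a ha k
          have h1 := ha k
          have h3 : σ a⁻¹ (σ a (σ k v)) = σ k v := by
            rw [← MulAut.mul_apply, ← map_mul, inv_mul_cancel, map_one]; rfl
          rwa [h1] at h3 }
    have hN : N.Normal := by
      refine ⟨fun a ha g k => ?_⟩
      have h1 := ha (g⁻¹ * k)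
      have h3 := congrArg (σ g) h1
      rw [← MulAut.mul_apply, ← map_mul, ← MulAut.mul_apply, ← map_mul, ← MulAut.mul_apply, ← map_mul,
        mul_inv_cancel_left] at h3
      rw [← MulAut.mul_apply, ← map_mul]
      have h4 : g * a * g⁻¹ * k = g * a * (g⁻¹ * k) := by group
      rw [h4]
      exact h3
    have hzN : z ∈ N := hcon
    have hNt : N = ⊤ := by
      refine (hs.eq_bot_or_eq_top_of_normal N hN).resolve_left fun h1 => ?_
      rw [h1, Subgroup.mem_bot] at hzN
      exact hz1 hzN
    apply hv1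
    have h1 : v ∈ CS σ ⊤ := by
      intro k _
      have h3 : k ∈ N := by rw [hNt]; exact Subgroup.mem_top k
      have h4 := h3 1
      rw [map_one] at h4
      exact h4
    rwa [hfix, Subgroup.mem_bot] at h1
  obtain ⟨o, ho⟩ : ∃ o, o = σ k' v := ⟨_, rfl⟩
  rw [← ho] at hk'
  have hoO : o ∈ O := (hmem o).2 ⟨k', ho.symm⟩
  have hst : ∀ k : K, ∀ w ∈ O, σ k w ∈ O := by
    intro k w hw
    rw [hmem] at hw ⊢
    obtain ⟨x, rfl⟩ := hw
    exact ⟨k * x, by rw [map_mul]; rfl⟩
  -- the orbit of `⟨z⟩`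
  have hinj : Set.InjOn (fun i : ℕ => σ (z ^ i) o) (Finset.range 7 : Finset ℕ) := by
    intro i hi j hj hij
    by_contra hne
    wlog hlt : i < j generalizing i j
    · exact this hj hi hij.symm (fun h => hne h.symm) (by omega)
    have hi' : i < 7 := by simpa using hi
    have hj' : j < 7 := by simpa using hj
    have h1 : σ (z ^ i) o = σ (z ^ j) o := hij
    have h3 : σ (z ^ (j - i)) o = o := by
      have h4 : σ (z ^ i) (σ (z ^ (j - i)) o) = σ (z ^ i) o := by
        rw [← MulAut.mul_apply, ← map_mul, ← pow_add, Nat.add_sub_cancel' hlt.le, h1]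
      exact (σ (z ^ i)).injective h4
    apply hk'
    have h4 : z ∈ zpowers (z ^ (j - i)) := by
      have h5 : (j - i).Coprime (orderOf z) := by
        rw [hz]
        exact Nat.Coprime.symm ((Nat.Prime.coprime_iff_not_dvd (by norm_num)).2 (fun h6 => by
          have := Nat.le_of_dvd (by omega) h6
          omega))
      obtain ⟨m, hm⟩ := exists_pow_eq_self_of_coprime h5
      exact ⟨m, by
        show (z ^ (j - i)) ^ (m : ℤ) = z
        rw [zpow_natCast]; exact hm⟩
    exact FFPsl.fx_le_of_mem σ h4 h3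
  obtain ⟨T, hT⟩ : ∃ T, T = (Finset.range 7).image (fun i : ℕ => σ (z ^ i) o) := ⟨_, rfl⟩
  have hTc : T.card = 7 := by
    rw [hT, Finset.card_image_of_injOn hinj, Finset.card_range]
  have hTO : T ⊆ O := by
    intro w hw
    rw [hT, Finset.mem_image] at hw
    obtain ⟨i, -, rfl⟩ := hw
    exact hst _ _ hoO
  have hOT : T = O := by
    refine Finset.eq_of_subset_of_card_le hTO ?_
    rw [hTc]
    rcases hn with h1 | h1 | h1 <;> omega
  -- the product
  have hprod : ∏ w ∈ O, w = 1 := by
    have h1 : ∏ w ∈ O, w ∈ CS σ ⊤ := by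
      intro k _
      rw [map_prod]
      have h3 : O.image (σ k) = O := by
        refine Finset.eq_of_subset_of_card_le ?_ ?_
        · intro w hw
          rw [Finset.mem_image] at hw
          obtain ⟨u, hu, rfl⟩ := hw
          exact hst _ _ hu
        · rw [Finset.card_image_of_injective _ (σ k).injective]
      conv_rhs => rw [← h3]
      rw [Finset.prod_image (fun a _ b _ h => (σ k).injective h)]
    rwa [hfix, Subgroup.mem_bot] at h1
  obtain ⟨Rg, hRg⟩ : ∃ Rg, Rg = (cm σ z).range := ⟨_, rfl⟩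
  have hcomm : ∀ i : ℕ, ∀ w : V, σ (z ^ i) w * w⁻¹ ∈ Rg := by
    intro i w
    induction i with
    | zero => rw [pow_zero, map_one, MulAut.one_apply, mul_inv_cancel]; exact one_mem _
    | succ i ih =>
      have h1 : σ (z ^ (i + 1)) w * w⁻¹ = (σ z (σ (z ^ i) w) * (σ (z ^ i) w)⁻¹) * (σ (z ^ i) w * w⁻¹) := by
        rw [pow_succ', map_mul, MulAut.mul_apply]; group
      rw [h1]
      refine mul_mem ?_ ih
      rw [hRg]
      exact ⟨σ (z ^ i) w, rfl⟩
  have hoR : o ∈ Rg := by
    have h1 : o ^ 7 = o := by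
      rw [show 7 = 2 * 3 + 1 by norm_num, pow_succ, pow_mul, sq, hV, one_pow, one_mul]
    have h3 : (∏ w ∈ O, w) * (o ^ 7)⁻¹ = ∏ w ∈ O, (w * o⁻¹) := by
      rw [Finset.prod_mul_distrib, Finset.prod_const, ← hOT, hTc, inv_pow]
    rw [hprod, one_mul, h1] at h3
    rw [← inv_mem_iff, h3]
    refine prod_mem fun w hw => ?_
    rw [← hOT, hT, Finset.mem_image] at hw
    obtain ⟨i, -, rfl⟩ := hw
    exact hcomm i o
  rw [← hRg]
  have h1 : v ∈ T := by rw [hOT]; exact hvO
  rw [hT, Finset.mem_image] at h1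
  obtain ⟨i, -, rfl⟩ := h1
  have h3 := mul_mem (hcomm i o) hoR
  rwa [inv_mul_cancel_right] at h3

/-- **the component is not `PSL₂(7)`** -/
theorem seven_false (hc : OddCyc H) (hV : ∀ v : V, v * v = 1) (hρ : Function.Injective ρ)
    (c : Cfg ρ 2 l e s E) {K : Subgroup H} [hKn : K.Normal] (hKs : IsSimpleGroup K) (hyK : s ^ l ^ e ∈ K) {F : Type}
    [Field F] [Fintype F] (hF : Fintype.card F = 7) (g : K ≃* Matrix.ProjectiveSpecialLinearGroup (Fin 2) F)
    (irr : Uniq ρ K → CS ρ K = ⊥) {S : Sylow 2 H}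
    (gen : ∀ M : Subgroup V, CS ρ (S : Subgroup H) ≤ M → (∀ a : H, ∀ v ∈ M, ρ a v ∈ M) → M = ⊤)
    (nff : ∀ a : H, a * a = 1 → a ≠ 1 → 2 < (fx ρ a).index) : False := by
  have h2f : Fact (Nat.Prime 2) := ⟨Nat.prime_two⟩
  have hl3 : l = 3 := by
    have h5 : l ∣ 3 := (dvd_pow_self l (Nat.succ_ne_zero e)).trans (by simpa using c.pp.dvd)
    exact (Nat.prime_dvd_prime_iff_eq c.pp.prime Nat.prime_three).1 h5
  have hy3 : orderOf (s ^ l ^ e) = 3 := by rw [c.orderOf_y, hl3]
  have hall : ∀ x : H, orderOf x = 3 → (fx ρ x).index = 4 := by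
    intro x hx
    rw [FFPsl.index_eq_of_orderOf ρ hc Nat.prime_three (by norm_num) hx hy3, c.idx]
    norm_num
  have hcK : Nat.card K = 168 := by rw [Nat.card_congr g.toEquiv, card_psl7 hF]
  let σ : K →* MulAut V := ρ.comp K.subtype
  have hfaith : ∀ x : H, x ≠ 1 → ∃ v, ρ x v ≠ v := by
    intro z hz
    by_contra hcon
    push Not at hcon
    apply hz
    apply hρ
    rw [map_one]
    ext v
    exact hcon v
  -- uniqueness
  have hU : Uniq ρ K := by
    refine uniq_of hV (a := ⟨_, hyK⟩) (m := 4) ?_ ?_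
    · intro U _ _ hU τ hτ
      have hyo : orderOf (⟨_, hyK⟩ : K) = 3 := by rw [← Subgroup.orderOf_coe]; exact hy3
      have hne : ∃ v, τ ⟨_, hyK⟩ v ≠ v := by
        by_contra hcon
        push Not at hcon
        have h1 : (⟨_, hyK⟩ : K) ∈ τ.ker := by
          rw [MonoidHom.mem_ker]
          ext v
          exact hcon v
        rcases hKs.eq_bot_or_eq_top_of_normal τ.ker inferInstance with h3 | h3
        · rw [h3, Subgroup.mem_bot] at h1
          rw [h1, orderOf_one] at hyo
          omega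
        · obtain ⟨k, v, hkv⟩ := hτ
          apply hkv
          have h4 : k ∈ τ.ker := by rw [h3]; exact Subgroup.mem_top k
          rw [MonoidHom.mem_ker] at h4
          rw [h4]; rfl
      obtain ⟨d, hd, h5, h6⟩ := prim hU Nat.prime_three (by norm_num) hyo hne
      rw [h5]
      have hd2 : 2 ≤ d := by
        by_contra hcon
        have : d = 1 := by omega
        subst this
        norm_num at h6
      calc 4 = 2 ^ 2 := by norm_num
        _ ≤ 2 ^ d := Nat.pow_le_pow_right (by norm_num) hd2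
    · show (fx ρ (s ^ l ^ e)).index < 4 * 4
      rw [hall _ hy3]
      norm_num
  have hKfix := irr hU
  have hKfix' : CS σ ⊤ = ⊥ := by
    rw [eq_bot_iff, ← hKfix]
    intro v hv k hk
    exact hv ⟨k, hk⟩ (Subgroup.mem_top _)
  -- `|V| ≤ 16`
  have hp : (Nat.card F).Prime := by rw [Nat.card_eq_fintype_card, hF]; norm_num
  have h7 : 7 ≤ Nat.card F := by rw [Nat.card_eq_fintype_card, hF]
  let R := Cfsg.Agent.GH.L2Aut.Rep.ofEquiv (GH.L2Aut.two_ne_zero_of_odd (F := F) (by rw [hF]; decide)) g
  have h3F := FFPsl.three_ne hp h7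
  have hA3 : orderOf ((R.π (mA F) : K) : H) = 3 := by
    apply FFPsl.orderOf_three R h3F
    show (0 : F) + 1 = 1
    ring
  have hB3 : orderOf ((R.π (-(mB F)) : K) : H) = 3 := by
    apply FFPsl.orderOf_three R h3F
    show (-1 : F) + -(-2) = 1
    ring
  have hV16 : Nat.card V ≤ 16 := by
    have h1 : fx ρ ((R.π (mA F) : K) : H) ⊓ fx ρ ((R.π (-(mB F)) : K) : H) ≤ ⊥ := by
      rintro v ⟨ha, hb⟩
      rw [← hKfix']
      have h3 : FFSl2.stb σ v = ⊤ := gen_top R hp ha hb
      intro k _
      have h4 : k ∈ FFSl2.stb σ v := by rw [h3]; exact Subgroup.mem_top k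
      exact h4
    have h3 := Subgroup.index_inf_le (H := fx ρ ((R.π (mA F) : K) : H)) (K := fx ρ ((R.π (-(mB F)) : K) : H))
    rw [hall _ hA3, hall _ hB3, le_bot_iff.1 h1, Subgroup.index_bot] at h3
    exact h3
  -- an element of order 7
  have h7f : Fact (Nat.Prime 7) := ⟨by norm_num⟩
  obtain ⟨z, hz⟩ := exists_prime_orderOf_dvd_card' (G := K) 7 (by rw [hcK]; norm_num)
  have hzH : orderOf (z : H) = 7 := by rw [Subgroup.orderOf_coe, hz]
  have hz1 : (z : H) ≠ 1 := by
    intro h1
    rw [h1, orderOf_one] at hzH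
    omega
  obtain ⟨d, hd, h5, h6⟩ := prim hV (by norm_num : Nat.Prime 7) (by norm_num) hzH (hfaith _ hz1)
  obtain ⟨n, hn⟩ := (IsPGroup.iff_card (p := 2)).1 (isPGroup_two hV)
  have hn4 : n ≤ 4 := by
    rw [hn] at hV16
    exact (Nat.pow_le_pow_iff_right (by norm_num : 1 < 2)).1 (by simpa using hV16)
  have hdn : d ≤ n := by
    have h8 : (fx ρ (z : H)).index ∣ Nat.card V := Subgroup.index_dvd_card _
    rw [h5, hn] at h8
    exact (Nat.pow_dvd_pow_iff_le_right (by norm_num : 1 < 2)).1 h8
  have hd3 : d = 3 := by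
    have : d ≤ 4 := hdn.trans hn4
    interval_cases d <;> norm_num at h6 <;> rfl
  -- an involution
  obtain ⟨a, ha⟩ := exists_prime_orderOf_dvd_card' (G := K) 2 (by rw [hcK]; norm_num)
  have haH : orderOf (a : H) = 2 := by rw [Subgroup.orderOf_coe, ha]
  have ha2 : (a : H) * a = 1 := by rw [← pow_two, ← haH, pow_orderOf_eq_one]
  have ha1 : (a : H) ≠ 1 := by
    intro h1
    rw [h1, orderOf_one] at haH
    omega
  have h8 := nff _ ha2 ha1
  have h9 := index_sq_le (ρ := ρ) hV ha2
  have hn' : n = 3 ∨ n = 4 := by omega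
  rcases hn' with rfl | rfl
  · rw [hn] at h9
    nlinarith
  · -- `|V| = 16`
    have hcV : Nat.card V = 16 := by rw [hn]; norm_num
    have hR : Nat.card (cm σ z).range = 8 := by
      rw [card_range_cm]
      have h10 : (fx σ z).index = (fx ρ (z : H)).index := rfl
      rw [h10, h5, hd3]; norm_num
    -- vectors with odd orbits
    obtain ⟨X, hX⟩ : ∃ X : Set V, X = {v | ¬ 2 ∣ (FFSl2.stb σ v).index} := ⟨_, rfl⟩
    have hXR : X ⊆ (cm σ z).range := by
      intro v hv
      rw [hX] at hv
      by_cases hv1 : v = 1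
      · rw [hv1]; exact one_mem _
      · exact orbit_le hKs hcK hV σ hcV hKfix' hz hv1 hv
    have hXinv : ∀ b : H, ∀ v ∈ X, ρ b v ∈ X := by
      intro b v hv
      rw [hX] at hv ⊢
      have h10 : FFSl2.stb σ (ρ b v) = (FFSl2.stb σ v).map (MulAut.conjNormal b : MulAut K).toMonoidHom := by
        ext k
        constructor
        · intro hk
          refine ⟨(MulAut.conjNormal b : MulAut K)⁻¹ k, ?_, ?_⟩
          · have hk' : ρ (k : H) (ρ b v) = ρ b v := hk
            show ρ (((MulAut.conjNormal b : MulAut K)⁻¹ k : K) : H) v = v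
            have h11 : (((MulAut.conjNormal b : MulAut K)⁻¹ k : K) : H) = b⁻¹ * k * b := by
              rw [← map_inv, MulAut.conjNormal_apply, inv_inv]
            rw [h11, map_mul, map_mul, MulAut.mul_apply, MulAut.mul_apply, hk', ← MulAut.mul_apply, ← map_mul,
              inv_mul_cancel, map_one]; rfl
          · show (MulAut.conjNormal b : MulAut K) ((MulAut.conjNormal b : MulAut K)⁻¹ k) = k
            rw [← MulAut.mul_apply, mul_inv_cancel]; rfl
        · rintro ⟨k, hk, rfl⟩
          have hk' : ρ (k : H) v = v := hk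
          show ρ (((MulAut.conjNormal b : MulAut K) k : K) : H) (ρ b v) = ρ b v
          rw [MulAut.conjNormal_apply, ← MulAut.mul_apply, ← map_mul, inv_mul_cancel_right, map_mul, MulAut.mul_apply, hk']
      show ¬ 2 ∣ (FFSl2.stb σ (ρ b v)).index
      rw [h10]
      intro h13
      have h14 := Subgroup.index_map_equiv (FFSl2.stb σ v) (MulAut.conjNormal b : MulAut K)
      exact hv (h14 ▸ h13)
    have htop : Subgroup.closure X = ⊤ := by
      refine gen _ ?_ ?_
      · intro v hv
        refine Subgroup.subset_closure ?_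
        rw [hX]
        have h11 : (S : Subgroup H).subgroupOf K ≤ FFSl2.stb σ v := by
          intro k hk
          exact hv _ hk
        intro h12
        exact Lib.SylowNormalInf.not_dvd_relIndex S K (h12.trans (Subgroup.index_dvd_of_le h11))
      · intro b v hv
        have h11 : Subgroup.closure X ≤ (Subgroup.closure X).comap (ρ b : V ≃* V).toMonoidHom := by
          rw [Subgroup.closure_le]
          intro w hw
          exact Subgroup.subset_closure (hXinv b w hw)
        exact h11 hv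
    have h11 : (⊤ : Subgroup V) ≤ (cm σ z).range := by
      rw [← htop, Subgroup.closure_le]
      exact hXR
    have h12 := Subgroup.card_le_of_le h11
    rw [Subgroup.card_top, hR, hcV] at h12
    omega

end Cfsg.Agent.OddCyclic.EmpF
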