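import Cfsg.Agent.OddCyclic.EmpF.LinMain
import Cfsg.Agent.OddCyclic.EmpF.Seven

/-!
# (Empty), natural `L₂(q)`: the module theorem

`module_main`: the data `Dat` exist only for `f = 2`, `V` being the orthogonal module of order 16.
-/

set_option autoImplicit false
set_option linter.unusedSectionVars false

namespace Cfsg.Agent.OddCyclic.EmpF

open Subgroup Cfsg Cfsg.Agent.OddCyclic.T1Module Cfsg.Agent.OddCyclic.FFBasic Cfsg.Agent.OddCyclic.FFRed
open Cfsg.Agent.OddCyclic.T1Defs (OddCyc)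
open Cfsg.Agent.OddCyclic.PumpMain (KZero)
open Cfsg.Agent.SignalizersComponents.Components

variable {H : Type*} [Group H] [Finite H] {V : Type*} [CommGroup V] [Finite V] {ρ : H →* MulAut V}
  {f : ℕ} {h : H} {D : Subgroup H} {F W : Subgroup V}

/-- **the module theorem** -/
theorem module_main (hc : OddCyc H)
    (hk : ∀ J : Subgroup H, IsSimpleGroup J → (∃ x y : J, x * y ≠ y * x) → KZero J) (h2 : pCore 2 H = ⊥)
    (hV : ∀ v : V, v * v = 1) (hρ : Function.Injective ρ)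
    (irr : ∀ K : Subgroup H, K.Normal → ⁅K, K⁆ = K → K ≠ ⊥ → Uniq ρ K → CS ρ K = ⊥) {S : Sylow 2 H}
    (gen : ∀ M : Subgroup V, CS ρ (S : Subgroup H) ≤ M → (∀ a : H, ∀ v ∈ M, ρ a v ∈ M) → M = ⊤)
    (nff : ∀ a : H, a * a = 1 → a ≠ 1 → 2 < (fx ρ a).index) (d : Dat ρ f h D F W) :
    f = 2 ∧ Nat.card V = 16 ∧ Nat.card F = 2 ∧ ∃ Ω : Set V, Five ρ Ω := by
  obtain ⟨l, e, s, E, c, hED, -, hEn⟩ := exists_cfg hV d
  obtain ⟨K, hK, hE⟩ := c.exists_comp hc h2
  have hKn : K.Normal := FFStruct.component_normal hc hK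
  have hKs : IsSimpleGroup K := FFStruct.simple_component hc h2 hK
  have hKp : ⁅K, K⁆ = K := component_commutator_self hK
  have hkz : KZero K := by
    refine hk K hKs ?_
    by_contra hcon
    push Not at hcon
    exact quasisimple_not_isMulCommutative hK.2 ⟨⟨hcon⟩⟩
  obtain ⟨hyK, hEK⟩ := c.mem_comp hc h2 hV hρ hK hE hkz
  have hKne : K ≠ ⊥ := by
    rintro rfl
    exact c.y_ne (Subgroup.mem_bot.1 hyK)
  have hirr := irr K hKn hKp hKne
  rcases c.cases hc h2 hV hρ hK hE hkz with ⟨F', _, _, _, hF', ⟨g⟩, P, hP⟩ | ⟨hf, F', _, _, hF', ⟨g⟩⟩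
  · exact sl2_main hc hV d c hED hEn hKn hKs hKp hEK hF' g hP hirr
  · exfalso
    subst hf
    exact seven_false hc hV hρ c hKs hyK hF' g hirr gen nff

end Cfsg.Agent.OddCyclic.EmpF
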