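import Cfsg.Agent.OddCyclic.EmpFF
import Cfsg.Agent.OddCyclic.EmpF.ModMain
import Cfsg.Agent.OddCyclic.EmpF.FDat
import Cfsg.Agent.OddCyclic.EmpNSPair
import Cfsg.Agent.OddCyclic.EmpNSRep

/-!
# (Empty), natural `L₂(q)`: the module `V` for `L/C_G(V)`

* `irr_uniq`: (IRR) in the form used by `module_main`;
* `exists_five`: `FDat` implies `f = 2`, `|V| = 16`, `|F| = 2` and five vectors permuted by `L`.
-/

set_option autoImplicit false
set_option linter.unusedSectionVars false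

namespace Cfsg.Agent.OddCyclic.EmpF

open Subgroup Cfsg Cfsg.Agent.ZN Cfsg.Agent.ZN.ChoiceBase Cfsg.Agent.ZN.ChoiceSit
open Cfsg.Agent.MinSimple Cfsg.Agent.MinSimple.EmptyTI Cfsg.Agent.MinSimple.EmptySix
open Cfsg.Agent.MinSimple.EmptyE.Closed (LL CC cl mem_cl cl_eq cl_le vv_comm vv_sq vv_mul_self vv_inv
  isPGroup_vv vv_le_jj vv_le jj_le_centralizer_vv conj_mem_vv cj_vv)
open Cfsg.Agent.OddCyclic.T1Defs Cfsg.Agent.OddCyclic.T1Module Cfsg.Agent.OddCyclic.FFBasic
  Cfsg.Agent.OddCyclic.FFRed Cfsg.Agent.OddCyclic.EmpFFAbs Cfsg.Agent.OddCyclic.RedRep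
open Cfsg.Agent.OddCyclic.EmpFrame
open Cfsg.Agent.OddCyclic.KZeroCongr (KS)

universe u

/-- **(IRR)** -/
theorem irr_uniq {H V : Type*} [Group H] [CommGroup V] [Finite V] {ρ : H →* MulAut V} {T : Subgroup H}
    (h : Gen ρ T) {K : Subgroup H} [hK : K.Normal] (hK1 : K ≠ ⊥) (hU : Uniq ρ K) : CS ρ K = ⊥ := by
  by_contra hne
  obtain ⟨z, hz, hzT, hz1⟩ := exists_fixed h.sq h.two hne (fun t _ w hw => CS_inv t hw)
  obtain ⟨C, hC1, hC2, hC3⟩ := h.bad z hzT hz1
  have hCK : ∀ k ∈ K, ∀ v ∈ C, ρ k v ∈ C := fun k hk => hC2 k (hz k hk)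
  rcases hU C hCK with h1 | h1
  · apply h.CS_ne_top hK1
    exact h.gen _ (fun v hv k hk => h1 k hk v (hC1 hv)) (fun g w hw => CS_inv g hw)
  · let W : Subgroup V := closure {w | ∃ k ∈ K, ∃ v, w = ρ k v * v⁻¹}
    have hWC : W ≤ C := by
      rw [closure_le]
      rintro _ ⟨k, hk, v, rfl⟩
      exact h1 k hk v
    have hWinv : ∀ g, ∀ w ∈ W, ρ g w ∈ W := by
      intro g w hw
      have h2 : W ≤ W.comap (ρ g : V ≃* V).toMonoidHom := by
        rw [closure_le]
        rintro _ ⟨k, hk, v, rfl⟩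
        change ρ g (ρ k v * v⁻¹) ∈ W
        refine subset_closure ⟨g * k * g⁻¹, hK.conj_mem k hk g, ρ g v, ?_⟩
        rw [map_mul (ρ g), map_inv (ρ g), ← MulAut.mul_apply, ← MulAut.mul_apply, ← map_mul, ← map_mul,
          inv_mul_cancel_right]
      exact h2 hw
    have h2 := hC3 W hWC hWinv
    apply h.CS_ne_top hK1
    rw [eq_top_iff]
    intro v _ k hk
    have h3 : ρ k v * v⁻¹ ∈ W := subset_closure ⟨k, hk, v, rfl⟩
    rw [h2, Subgroup.mem_bot, mul_inv_eq_one] at h3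
    exact h3

/-- five elements of `V` permuted by `L`, no one of which is the product of two others -/
structure FiveG {G : Type*} [Group G] (S : Subgroup G) (Ω : Set G) : Prop where
  card : Ω.ncard = 5
  sub : ∀ v ∈ Ω, v ∈ vv S
  inv : ∀ a ∈ LL S, ∀ v ∈ Ω, a * v * a⁻¹ ∈ Ω
  one : (1 : G) ∉ Ω
  mul : ∀ v ∈ Ω, ∀ w ∈ Ω, v ≠ w → v * w ∉ Ω

variable {G : Type u} [Group G] [Finite G] {S : Sylow 2 G}

theorem card_comap {V : Type*} [Group V] {ι : V →* G} (hι : Function.Injective ι) {A : Subgroup G}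
    (hA : A ≤ ι.range) : Nat.card (A.comap ι) = Nat.card A := by
  have h1 : (A.comap ι).map ι = A := by
    rw [map_comap_eq, inf_eq_right.2 hA]
  conv_rhs => rw [← h1]
  exact Nat.card_congr ((A.comap ι).equivMapOfInjective _ hι).toEquiv

/-- no transvections -/
theorem nff_of {H V : Type u} [Group H] [CommGroup V] [Finite V] {r : LL (S : Subgroup G) →* H} {ρ : H →* MulAut V}
    {ι : V →* G} (hr : Rep (LL (S : Subgroup G)) (vv (S : Subgroup G)) r ρ ι) (nff : NFF (vv (S : Subgroup G)))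
    {a : H} (ha : a * a = 1) (ha1 : a ≠ 1) : 2 < (fx ρ a).index := by
  obtain ⟨x, rfl⟩ := hr.surj a
  rw [← map_mul] at ha
  have h1 : (x : G) * x ∈ centralizer (vv (S : Subgroup G) : Set G) := by
    rw [mem_centralizer_iff]
    intro y hy
    exact (hr.r_eq_one.1 ha y hy).symm
  have h2 : (x : G) ∉ centralizer (vv (S : Subgroup G) : Set G) := by
    intro h3
    apply ha1
    rw [hr.r_eq_one]
    intro y hy
    exact (mem_centralizer_iff.1 h3 y hy).symm
  have h3 := nff (zpowers (x : G)) (by rw [zpowers_le]; exact x.2) ?_ ?_ (fun h => h2 (h (mem_zpowers _)))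
  · -- `C_V(x)`
    have h4 : (fx ρ (r x)) = (vv (S : Subgroup G) ⊓ centralizer ((zpowers (x : G) : Subgroup G) : Set G)).comap ι := by
      ext v
      rw [mem_comap, mem_inf, mem_centralizer_iff]
      constructor
      · intro hv
        refine ⟨hr.mem v, ?_⟩
        rintro _ ⟨n, rfl⟩
        exact (show Commute (x : G) (ι v) from (hr.fix (x := x)).1 hv).zpow_left n
      · rintro ⟨-, hv⟩
        exact (hr.fix (x := x)).2 (hv _ (mem_zpowers _))
    have h5 : Nat.card (fx ρ (r x)) =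
        Nat.card (vv (S : Subgroup G) ⊓ centralizer ((zpowers (x : G) : Subgroup G) : Set G) : Subgroup G) := by
      rw [h4]
      exact card_comap hr.iinj (by rw [hr.range]; exact inf_le_left)
    have h6 : Nat.card V = Nat.card (vv (S : Subgroup G)) := by
      rw [← hr.range]
      exact Nat.card_congr (MonoidHom.ofInjective hr.iinj).toEquiv
    rw [← h5, ← h6, ← (fx ρ (r x)).index_mul_card] at h3
    have h7 : 2 * Nat.card (zpowers (x : G) ⊓ centralizer (vv (S : Subgroup G) : Set G) : Subgroup G) ≤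
        Nat.card (zpowers (x : G)) := by
      have e2 := Cfsg.Agent.OddCyclic.EmpNSPair.relIndex_mul_card (centralizer (vv (S : Subgroup G) : Set G)) (zpowers (x : G))
      have h8 : (centralizer (vv (S : Subgroup G) : Set G)).relIndex (zpowers (x : G)) ≠ 1 := fun h5 =>
        h2 (relIndex_eq_one.1 h5 (mem_zpowers _))
      have h9 : (centralizer (vv (S : Subgroup G) : Set G)).relIndex (zpowers (x : G)) ≠ 0 :=
        index_ne_zero_of_finite
      rw [← e2]
      exact Nat.mul_le_mul_right _ (by omega)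
    by_contra hcon
    push Not at hcon
    apply absurd h3
    rw [not_lt]
    calc (fx ρ (r x)).index * Nat.card (fx ρ (r x)) *
          Nat.card (zpowers (x : G) ⊓ centralizer (vv (S : Subgroup G) : Set G) : Subgroup G) ≤
        2 * Nat.card (fx ρ (r x)) *
          Nat.card (zpowers (x : G) ⊓ centralizer (vv (S : Subgroup G) : Set G) : Subgroup G) :=
          Nat.mul_le_mul_right _ (Nat.mul_le_mul_right _ hcon)
      _ = 2 * Nat.card (zpowers (x : G) ⊓ centralizer (vv (S : Subgroup G) : Set G) : Subgroup G) *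
          Nat.card (fx ρ (r x)) := by ring
      _ ≤ _ := Nat.mul_le_mul_right _ h7
  · rintro _ ⟨n, rfl⟩
    have e : (x : G) ^ n * (x : G) ^ n = ((x : G) * x) ^ n := by
      rw [(Commute.refl (x : G)).mul_zpow]
    show (x : G) ^ n * (x : G) ^ n ∈ _
    rw [e]
    exact zpow_mem h1 n
  · rintro _ ⟨n, rfl⟩ _ ⟨m, rfl⟩
    have e : (x : G) ^ n * (x : G) ^ m * ((x : G) ^ n)⁻¹ * ((x : G) ^ m)⁻¹ = 1 := by
      rw [← zpow_neg, ← zpow_neg, ← zpow_add, ← zpow_add, ← zpow_add]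
      have e1 : n + m + -n + -m = 0 := by ring
      rw [e1, zpow_zero]
    show (x : G) ^ n * (x : G) ^ m * ((x : G) ^ n)⁻¹ * ((x : G) ^ m)⁻¹ ∈ _
    rw [e]
    exact one_mem _

theorem dat_of {H V : Type u} [Group H] [CommGroup V] {r : LL (S : Subgroup G) →* H} {ρ : H →* MulAut V}
    {ι : V →* G} (hr : Rep (LL (S : Subgroup G)) (vv (S : Subgroup G)) r ρ ι) {F D W : Subgroup G} {f : ℕ} {x : G}
    (hF : F ≠ ⊥) (d : FDat (S : Subgroup G) F D W f x) :
    Dat ρ f (r ⟨x, d.hL⟩) (im (LL (S : Subgroup G)) D r) (F.comap ι) (W.comap ι) := by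
  have hFr : F ≤ ι.range := by rw [hr.range]; exact d.FW.trans d.WV
  have hWr : W ≤ ι.range := by rw [hr.range]; exact d.WV
  refine ⟨d.f2, ?_, ?_, ?_, ?_, ?_, ?_, ?_, ?_, ?_, ?_, ?_, ?_, ?_⟩
  · rw [← map_pow, hr.r_eq_one]
    intro y hy
    exact (mem_centralizer_iff.1 d.hq y hy).symm
  · exact (d.pg.comap_of_injective _ (LL (S : Subgroup G)).subtype_injective).map r
  · intro b hb
    obtain ⟨y, hy, rfl⟩ := of_mem_im hb
    exact ⟨⟨x, d.hL⟩ * y * (⟨x, d.hL⟩ : LL (S : Subgroup G))⁻¹, mem_subgroupOf.2 (d.nm _ hy), by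
      rw [map_mul, map_mul, map_inv]⟩
  · intro v hv
    rw [hr.fix]
    exact (mem_centralizer_iff.1 d.hF _ hv).symm
  · intro b hb v hv
    obtain ⟨y, hy, rfl⟩ := of_mem_im hb
    rw [hr.fix]
    exact (mem_centralizer_iff.1 (d.DF hy) _ hv).symm
  · intro h0
    apply hF
    rw [eq_bot_iff]
    intro y hy
    obtain ⟨v, rfl⟩ := hFr hy
    have h1 : v ∈ F.comap ι := hy
    rw [h0, mem_bot] at h1
    rw [h1, map_one]; exact one_mem _
  · exact comap_mono d.FW
  · intro w hw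
    rw [mem_comap, hr.act]
    exact d.hW _ hw
  · intro b hb w hw
    obtain ⟨y, hy, rfl⟩ := of_mem_im hb
    rw [mem_comap, map_mul, map_inv, hr.act]
    exact d.DW _ hy _ hw
  · rw [relIndex_comap, map_comap_eq, inf_eq_right.2 hWr]
    exact d.cW
  · rw [index_comap, hr.range]
    exact d.iW
  · intro w hw hwF i hi
    refine d.reg (ι w) hw hwF i ?_
    rw [← map_pow, mem_comap, map_mul, map_inv, hr.act] at hi
    exact hi
  · obtain ⟨y, hy, w, hw, hne⟩ := d.ne
    obtain ⟨v, rfl⟩ := hWr hw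
    refine ⟨r ⟨y, d.DL hy⟩, mem_im d.DL hy, v, hw, fun h1 => hne ?_⟩
    exact hr.fix.1 h1

theorem exists_five (h : ENS S) (ks : KS G) (nff : NFF (vv (S : Subgroup G))) {F D W : Subgroup G} {f : ℕ} {x : G}
    (hF : F ≠ ⊥) (d : FDat (S : Subgroup G) F D W f x) :
    f = 2 ∧ Nat.card (vv (S : Subgroup G)) = 16 ∧ Nat.card F = 2 ∧ ∃ Ω : Set G, FiveG (S : Subgroup G) Ω := by
  obtain ⟨H, V, _, _, _, _, r, ρ, ι, hr⟩ := EmpFF.exists_rep (X := LL (S : Subgroup G))
    (Y := vv (S : Subgroup G)) le_rfl (fun a ha b hb => vv_comm ha hb)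
  have hg := EmpFF.gen_of h hr
  have hc : OddCyc H := T1Structure.oddCyc_of_surjective
    (T1Structure.oddCyc_of_injective h.hyp.cyc (LL (S : Subgroup G)).subtype (LL (S : Subgroup G)).subtype_injective)
    r hr.surj
  have h2 : pCore 2 H = ⊥ := hg.o2 (Cfsg.Agent.Lib.Cores.pCore_isPGroup 2)
  have hf : Fact (Nat.Prime 2) := ⟨Nat.prime_two⟩
  obtain ⟨h3, h4, h5, Ω, h6⟩ := module_main hc
    (fun J hs hn => EmpNSRep.kZero_of_surj ks (EmpFF.LL_ne_top h) r hr.surj hs hn) h2 hg.sq hg.inj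
    (fun K hK _ hK1 hU => irr_uniq hg hK1 hU)
    (S := hg.two.toSylow (by exact hg.index)) (fun M h7 h8 => hg.gen M h7 h8)
    (fun a ha ha1 => nff_of hr nff ha ha1) (dat_of hr hF d)
  refine ⟨h3, ?_, ?_, ι '' Ω, ?_, ?_, ?_, ?_, ?_⟩
  · rw [← h4, ← hr.range]
    exact (Nat.card_congr (MonoidHom.ofInjective hr.iinj).toEquiv).symm
  · rw [← h5]
    exact (card_comap hr.iinj (by rw [hr.range]; exact d.FW.trans d.WV)).symm
  · rw [Set.ncard_image_of_injective _ hr.iinj]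
    exact h6.card
  · rintro _ ⟨v, -, rfl⟩
    exact hr.mem v
  · rintro a ha _ ⟨v, hv, rfl⟩
    exact ⟨ρ (r ⟨a, ha⟩) v, h6.inv _ v hv, hr.act _ _⟩
  · rintro ⟨v, hv, hv1⟩
    have h7 : v = 1 := hr.iinj (by rw [hv1, map_one])
    exact h6.one (h7 ▸ hv)
  · rintro _ ⟨v, hv, rfl⟩ _ ⟨w, hw, rfl⟩ hne ⟨y, hy, hyy⟩
    refine h6.mul v hv w hw (fun h7 => hne (by rw [h7])) ?_
    have h7 : y = v * w := hr.iinj (by rw [hyy, map_mul])
    rwa [← h7]

end Cfsg.Agent.OddCyclic.EmpF
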