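import Cfsg.Agent.OddCyclic.EmpF.Psl
import Cfsg.Agent.OddCyclic.EmpF.Mod

/-!
# (Empty), natural `L₂(q)`: the component is `SL₂(2 ^ f)`
-/

set_option autoImplicit false
set_option linter.unusedSectionVars false

namespace Cfsg.Agent.OddCyclic.EmpF

open Subgroup Cfsg Cfsg.Agent.OddCyclic.T1Module Cfsg.Agent.OddCyclic.FFBasic Cfsg.Agent.OddCyclic.FFRed
open Cfsg.Agent.OddCyclic.T1Defs (OddCyc)
open Cfsg.Agent.OddCyclic.Zass
open scoped Pointwise

/-- elements of odd order whose prime divisors divide `|N|` -/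
theorem mem_of_primes {X : Type*} [Group X] [Finite X] (hc : OddCyc X) {N : Subgroup X} (hn : N.Normal)
    (hN : ⁅N, N⁆ = N) {x : X} (h : ∀ r, r.Prime → r ∣ orderOf x → r ≠ 2 ∧ r ∣ Nat.card N) : x ∈ N := by
  rw [← QuotientGroup.eq_one_iff, ← orderOf_eq_one_iff]
  by_contra hne
  obtain ⟨r, hr, hrd⟩ := Nat.exists_prime_and_dvd hne
  have h1 : orderOf (QuotientGroup.mk x : X ⧸ N) ∣ orderOf x := orderOf_map_dvd (QuotientGroup.mk' N) x
  obtain ⟨h2, h3⟩ := h r hr (hrd.trans h1)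
  obtain ⟨k, m, hm, hk⟩ := Nat.exists_eq_pow_mul_and_not_dvd (orderOf_pos x).ne' r hr.ne_one
  have h4 : x ^ m ∈ N := by
    refine mem_of_perfect hc hn hN hr h2 h3 ⟨k, ?_⟩
    rw [← pow_mul, mul_comm, ← hk, pow_orderOf_eq_one]
  rw [← QuotientGroup.eq_one_iff, QuotientGroup.mk_pow] at h4
  exact hm (hrd.trans (orderOf_dvd_of_pow_eq_one h4))

section omega

variable {K : Type*} [Group K] [Finite K] {V : Type*} [CommGroup V] [Finite V] {σ : K →* MulAut V} {q t : ℕ}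
  {P : Sylow 2 K} {x : V}

/-- the equivariant map -/
theorem exists_omega (hx : ∀ k ∈ normalizer (P : Set K), σ k x = x) :
    ∃ ω : Sylow 2 K → V, (∀ k Q, ω (k • Q) = σ k (ω Q)) ∧ ω P = x := by
  have h2f : Fact (Nat.Prime 2) := ⟨Nat.prime_two⟩
  choose k hk using fun Q : Sylow 2 K => MulAction.exists_smul_eq K P Q
  have key : ∀ a b : K, a • P = b • P → σ a x = σ b x := by
    intro a b hab
    have h1 : b⁻¹ * a ∈ normalizer (P : Set K) := by
      rw [← smul_eq_iff, mul_smul, hab, inv_smul_smul]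
    have h3 := hx _ h1
    rw [map_mul, MulAut.mul_apply] at h3
    have h4 := congrArg (σ b) h3
    rw [← MulAut.mul_apply, ← map_mul, mul_inv_cancel, map_one] at h4
    exact h4
  refine ⟨fun Q => σ (k Q) x, fun a Q => ?_, ?_⟩
  · rw [← MulAut.mul_apply, ← map_mul]
    refine key _ _ ?_
    rw [hk, mul_smul, hk]
  · have h1 := key (k P) 1 (by rw [hk, one_smul])
    rw [map_one] at h1
    exact h1

variable {ω : Sylow 2 K → V}

theorem omega_inj (h : IsZT K 2 q t) (hω : ∀ k Q, ω (k • Q) = σ k (ω Q)) (hx : ∃ k Q, σ k (ω Q) ≠ ω Q) :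
    Function.Injective ω := by
  intro Q R hQR
  by_contra hne
  have hall : ∀ R', ω R' = ω Q := by
    intro R'
    by_cases h1 : R' = Q
    · rw [h1]
    · obtain ⟨u, hu, hR'⟩ := h.trans Q R R' (fun h => hne h.symm) h1
      rw [← hR', hω, ← hQR, ← hω, Zass.smul_self hu]
  obtain ⟨k, Q', hk⟩ := hx
  apply hk
  rw [← hω, hall, hall Q']

/-- the bijection of `P` with the other Sylow subgroups -/
theorem exists_bij (h : IsZT K 2 q t) {P Q : Sylow 2 K} (hQ : Q ≠ P) :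
    Function.Bijective (fun u : (P : Subgroup K) => (⟨(u : K) • Q, fun hu => hQ (smul_left_cancel (u : K)
      (hu.trans (Zass.smul_self u.2).symm))⟩ : {R : Sylow 2 K // R ≠ P})) := by
  constructor
  · intro u v huv
    have h1 : (u : K) • Q = (v : K) • Q := congrArg Subtype.val huv
    have h2 : ((v : K)⁻¹ * u) • Q = Q := by rw [mul_smul, h1, inv_smul_smul]
    have h3 := h.reg P Q hQ (mul_mem (inv_mem v.2) u.2) h2
    exact Subtype.ext (inv_mul_eq_one.1 h3).symm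
  · rintro ⟨R, hR⟩
    obtain ⟨u, hu, hRu⟩ := h.trans P Q R hQ hR
    exact ⟨⟨u, hu⟩, Subtype.ext hRu⟩

theorem prod_omega [Fintype (Sylow 2 K)] [Fintype (P : Subgroup K)] (h : IsZT K 2 q t) (hω : ∀ k Q, ω (k • Q) = σ k (ω Q)) {Q : Sylow 2 K} (hQ : Q ≠ P) :
    (∏ u : (P : Subgroup K), σ (u : K) (ω Q)) * ω P = ∏ R : Sylow 2 K, ω R := by
  classical
  have h1 : ∏ u : (P : Subgroup K), σ (u : K) (ω Q) = ∏ R : {R : Sylow 2 K // R ≠ P}, ω R.1 := by
    refine Fintype.prod_equiv (Equiv.ofBijective _ (exists_bij h hQ)) _ _ fun u => ?_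
    rw [← hω]; rfl
  rw [h1]
  have h2 := Fintype.prod_subtype_mul_prod_subtype (fun R : Sylow 2 K => R = P) ω
  rw [← h2, mul_comm]
  congr 1
  convert (Fintype.prod_subsingleton (fun R : {R : Sylow 2 K // R = P} => ω R.1) ⟨P, rfl⟩).symm

theorem prod_fixed [Fintype (Sylow 2 K)] (hω : ∀ k Q, ω (k • Q) = σ k (ω Q)) (k : K) :
    σ k (∏ R : Sylow 2 K, ω R) = ∏ R : Sylow 2 K, ω R := by
  rw [map_prod]
  refine Fintype.prod_equiv (MulAction.toPerm k) _ _ fun R => ?_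
  rw [← hω]; rfl

/-- the norm of `ω Q` is nontrivial -/
theorem norm_ne [Fintype (P : Subgroup K)] (h : IsZT K 2 q t) (hω : ∀ k Q, ω (k • Q) = σ k (ω Q)) (hx : ∃ k, σ k (ω P) ≠ ω P)
    {Q : Sylow 2 K} (hQ : Q ≠ P) : ∏ u : (P : Subgroup K), (σ.comp (P : Subgroup K).subtype) u (ω Q) ≠ 1 := by
  classical
  have hf : Fintype (Sylow 2 K) := Fintype.ofFinite _
  intro h1
  have h2 := prod_omega h hω hQ
  have h1' : ∏ u : (P : Subgroup K), σ (u : K) (ω Q) = 1 := h1
  rw [h1', one_mul] at h2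
  obtain ⟨k, hk⟩ := hx
  apply hk
  rw [h2]
  exact prod_fixed hω k

theorem CS_comp : CS (σ.comp (P : Subgroup K).subtype) ⊤ = CS σ (P : Subgroup K) := by
  ext v
  constructor
  · intro hv u hu
    exact hv ⟨u, hu⟩ (Subgroup.mem_top _)
  · intro hv u _
    exact hv u u.2

theorem index_omega (hV : ∀ v : V, v * v = 1) (h : IsZT K 2 q t) (hω : ∀ k Q, ω (k • Q) = σ k (ω Q))
    (hx : ∃ k, σ k (ω P) ≠ ω P) : 2 ^ (q - 1) ≤ (CS σ (P : Subgroup K)).index := by
  classical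
  have hf : Fintype (P : Subgroup K) := Fintype.ofFinite _
  obtain ⟨Q, R, h1, -, -⟩ := h.exists_three P
  have h2 := free_index P.isPGroup' hV (σ.comp (P : Subgroup K).subtype) (norm_ne h hω hx h1.symm)
  rw [CS_comp] at h2
  have h3 : Nat.card (P : Subgroup K) = q := h.sylow P
  rwa [h3] at h2

section mod

variable [Fintype (P : Subgroup K)] (hV : ∀ v : V, v * v = 1) (h : IsZT K 2 q t) (hω : ∀ k Q, ω (k • Q) = σ k (ω Q))
  (hx : ∃ k, σ k (ω P) ≠ ω P) {Q : Sylow 2 K} (hQ : Q ≠ P)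

include h hω hQ

theorem mem_frh {R : Sylow 2 K} (hR : R ≠ P) : ω R ∈ (frh hV (σ.comp (P : Subgroup K).subtype) (ω Q)).range := by
  classical
  obtain ⟨u, hu⟩ := (exists_bij h hQ).2 ⟨R, hR⟩
  have hu' : (u : K) • Q = R := congrArg Subtype.val hu
  refine ⟨Multiplicative.ofAdd (Pi.single u 1), ?_⟩
  rw [frh_apply, Finset.prod_eq_single u]
  · rw [Pi.single_eq_same, val_one', pow_one, ← hu', hω]; rfl
  · intro b _ hb
    rw [Pi.single_eq_of_ne hb, val_zero', pow_zero]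
  · intro hu
    exact absurd (Finset.mem_univ u) hu

theorem mem_frh' (hK : CS σ ⊤ = ⊥) : ω P ∈ (frh hV (σ.comp (P : Subgroup K).subtype) (ω Q)).range := by
  classical
  have hf : Fintype (Sylow 2 K) := Fintype.ofFinite _
  have h1 := prod_omega h hω hQ
  have h2 : ∏ R : Sylow 2 K, ω R = 1 := by
    have h3 : ∏ R : Sylow 2 K, ω R ∈ CS σ ⊤ := fun k _ => prod_fixed hω k
    rwa [hK, Subgroup.mem_bot] at h3
  rw [h2] at h1
  rw [← inv_eq_of_mul_eq_one_right h1]
  refine inv_mem ⟨Multiplicative.ofAdd fun _ => 1, ?_⟩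
  rw [frh_apply]
  refine Finset.prod_congr rfl fun x _ => ?_
  rw [val_one', pow_one]; rfl

theorem frh_inv (hK : CS σ ⊤ = ⊥) (k : K) {v : V} (hv : v ∈ (frh hV (σ.comp (P : Subgroup K).subtype) (ω Q)).range) :
    σ k v ∈ (frh hV (σ.comp (P : Subgroup K).subtype) (ω Q)).range := by
  obtain ⟨c, rfl⟩ := hv
  obtain ⟨c', rfl⟩ := Multiplicative.ofAdd.surjective c
  rw [frh_apply, map_prod]
  refine prod_mem fun u _ => ?_
  rw [map_pow]
  refine pow_mem ?_ _
  have h1 : σ k ((σ.comp (P : Subgroup K).subtype) u (ω Q)) = ω (k • (u : K) • Q) := by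
    rw [hω, hω]; rfl
  rw [h1]
  by_cases h2 : k • (u : K) • Q = P
  · rw [h2]
    exact mem_frh' hV h hω hQ hK
  · exact mem_frh hV h hω hQ h2

include hx in
/-- **`V` is the permutation module modulo the fixed points** -/
theorem frh_top (hs : IsSimpleGroup K) (hK : CS σ ⊤ = ⊥) (hi : (CS σ (P : Subgroup K)).index ≤ 2 ^ (q - 1)) :
    (frh hV (σ.comp (P : Subgroup K).subtype) (ω Q)).range = ⊤ := by
  classical
  obtain ⟨M, hM⟩ : ∃ M, M = (frh hV (σ.comp (P : Subgroup K).subtype) (ω Q)).range := ⟨_, rfl⟩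
  have hinv : ∀ k : K, ∀ v ∈ M, σ k v ∈ M := by
    intro k v hv
    rw [hM] at hv ⊢
    exact frh_inv hV h hω hQ hK k hv
  have hrel : (CS σ (P : Subgroup K)).relIndex M = 2 ^ (q - 1) := by
    have h1 := free_relIndex P.isPGroup' hV (σ.comp (P : Subgroup K).subtype) (norm_ne h hω hx hQ)
    have h3 : Nat.card (P : Subgroup K) = q := h.sylow P
    rw [CS_comp, h3] at h1
    rw [hM]
    exact h1
  -- `V = M C_V(P)`
  have hsup : M ⊔ CS σ (P : Subgroup K) = ⊤ := by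
    have h1 : (CS σ (P : Subgroup K)).relIndex (M ⊔ CS σ (P : Subgroup K)) = 2 ^ (q - 1) := by
      rw [Subgroup.relIndex_sup_right, hrel]
    have h2 := Subgroup.relIndex_mul_index (le_sup_right : CS σ (P : Subgroup K) ≤ M ⊔ CS σ (P : Subgroup K))
    rw [h1] at h2
    have h3 : (M ⊔ CS σ (P : Subgroup K)).index ≤ 1 := by
      by_contra hcon
      push Not at hcon
      have h4 : 0 < 2 ^ (q - 1) := pow_pos (by norm_num) _
      have h5 : 2 ^ (q - 1) * 2 ≤ 2 ^ (q - 1) * (M ⊔ CS σ (P : Subgroup K)).index := Nat.mul_le_mul_left _ hcon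
      omega
    have h4 : (M ⊔ CS σ (P : Subgroup K)).index ≠ 0 := Subgroup.index_ne_zero_of_finite
    exact Subgroup.index_eq_one.1 (by omega)
  -- `K` is trivial on `V/M`
  let S : Subgroup K :=
    { carrier := {k | ∀ v : V, σ k v * v⁻¹ ∈ M}
      mul_mem' := by
        intro a b ha hb v
        have h1 : σ (a * b) v * v⁻¹ = (σ a (σ b v) * (σ b v)⁻¹) * (σ b v * v⁻¹) := by
          rw [map_mul, MulAut.mul_apply]; group
        rw [h1]
        exact mul_mem (ha _) (hb v)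
      one_mem' := by
        intro v
        rw [map_one, MulAut.one_apply, mul_inv_cancel]
        exact one_mem _
      inv_mem' := by
        intro a ha v
        have h1 := ha (σ a⁻¹ v)
        rw [← MulAut.mul_apply, ← map_mul, mul_inv_cancel, map_one, MulAut.one_apply] at h1
        have h2 := inv_mem h1
        have h3 : (v * (σ a⁻¹ v)⁻¹)⁻¹ = σ a⁻¹ v * v⁻¹ := by group
        rwa [h3] at h2 }
  have hSn : S.Normal := by
    refine ⟨fun a ha g v => ?_⟩
    have h1 := hinv g _ (ha (σ g⁻¹ v))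
    have e1 : σ g (σ g⁻¹ v) = v := by
      rw [← MulAut.mul_apply, ← map_mul, mul_inv_cancel, map_one, MulAut.one_apply]
    have e2 : σ (g * a * g⁻¹) v = σ g (σ a (σ g⁻¹ v)) := by
      rw [map_mul, map_mul, MulAut.mul_apply, MulAut.mul_apply]
    rw [map_mul (σ g), map_inv (σ g), e1] at h1
    rw [e2]
    exact h1
  have hPS : (P : Subgroup K) ≤ S := by
    intro u hu v
    have hv : v ∈ M ⊔ CS σ (P : Subgroup K) := by rw [hsup]; exact Subgroup.mem_top v
    obtain ⟨m, hm, c, hc, rfl⟩ := Subgroup.mem_sup.1 hv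
    have h1 : σ u c = c := hc u hu
    have h2 : σ u (m * c) * (m * c)⁻¹ = σ u m * m⁻¹ := by
      rw [map_mul, h1, mul_inv, mul_mul_mul_comm, mul_inv_cancel, mul_one]
    rw [h2]
    exact mul_mem (hinv u m hm) (inv_mem hm)
  have hST : S = ⊤ := by
    refine (hs.eq_bot_or_eq_top_of_normal S hSn).resolve_left fun h1 => ?_
    rw [h1, le_bot_iff] at hPS
    have h2 : Nat.card (P : Subgroup K) = q := h.sylow P
    rw [hPS, Subgroup.card_bot] at h2
    have := h.two_le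
    omega
  -- `C_V(P) ≤ M`
  have hCM : CS σ (P : Subgroup K) ≤ M := by
    intro c hc
    obtain ⟨m, hm1, hm2⟩ := exists_orbit_prod hV σ P hc
    have h1 : m ∈ CS σ ⊤ := fun k _ => hm1 k
    rw [hK, Subgroup.mem_bot] at h1
    have h2 := hm2 M (fun k => by
      have h3 : k ∈ S := by rw [hST]; exact Subgroup.mem_top k
      exact h3 c)
    rw [h1, one_mul] at h2
    have h3 := inv_mem h2
    rwa [inv_inv] at h3
  rw [← hM]
  rwa [sup_eq_left.2 hCM] at hsup

include hV hx in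
theorem sum_ne {R₁ R₂ R₃ : Sylow 2 K} (h1 : R₁ ≠ P) (h2 : R₂ ≠ P) (h3 : R₃ ≠ P) (h12 : R₁ ≠ R₂) (h13 : R₁ ≠ R₃) :
    ω R₁ * ω R₂ ≠ ω R₃ := by
  classical
  intro he
  obtain ⟨u₁, hu₁⟩ := (exists_bij h hQ).2 ⟨R₁, h1⟩
  obtain ⟨u₂, hu₂⟩ := (exists_bij h hQ).2 ⟨R₂, h2⟩
  obtain ⟨u₃, hu₃⟩ := (exists_bij h hQ).2 ⟨R₃, h3⟩
  have hu₁' : (u₁ : K) • Q = R₁ := congrArg Subtype.val hu₁
  have hu₂' : (u₂ : K) • Q = R₂ := congrArg Subtype.val hu₂
  have hu₃' : (u₃ : K) • Q = R₃ := congrArg Subtype.val hu₃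
  have key : ∀ u : (P : Subgroup K), frh hV (σ.comp (P : Subgroup K).subtype) (ω Q) (Multiplicative.ofAdd (Pi.single u 1)) =
      ω ((u : K) • Q) := by
    intro u
    rw [frh_apply, Finset.prod_eq_single u]
    · rw [Pi.single_eq_same, val_one', pow_one, hω]; rfl
    · intro b _ hb
      rw [Pi.single_eq_of_ne hb, val_zero', pow_zero]
    · intro hu
      exact absurd (Finset.mem_univ u) hu
  rw [← hu₁', ← hu₂', ← hu₃', ← key, ← key, ← key, ← map_mul] at he
  have h4 := free_inj P.isPGroup' hV (σ.comp (P : Subgroup K).subtype) (norm_ne h hω hx hQ) he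
  have h5 := congrFun (Multiplicative.ofAdd.injective h4) u₁
  have h6 : (Pi.single u₁ (1 : ZMod 2) : ↥(P : Subgroup K) → ZMod 2) u₁ + (Pi.single u₂ (1 : ZMod 2) : ↥(P : Subgroup K) → ZMod 2) u₁ =
      (Pi.single u₃ (1 : ZMod 2) : ↥(P : Subgroup K) → ZMod 2) u₁ := h5
  have h7 : u₁ ≠ u₂ := by
    rintro rfl
    exact h12 (hu₁'.symm.trans hu₂')
  have h8 : u₁ ≠ u₃ := by
    rintro rfl
    exact h13 (hu₁'.symm.trans hu₃')
  rw [Pi.single_eq_same, Pi.single_eq_of_ne h7, Pi.single_eq_of_ne h8] at h6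
  revert h6
  decide

end mod

end omega

end Cfsg.Agent.OddCyclic.EmpF
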