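import Cfsg.Agent.OddCyclic.EmpF.Lin

/-!
# (Empty), natural `L₂(q)`: the component is `SL₂(2 ^ f)`: `f = 2`, `V` is the orthogonal module
-/

set_option autoImplicit false
set_option linter.unusedSectionVars false

namespace Cfsg.Agent.OddCyclic.EmpF

open Subgroup Cfsg Cfsg.Agent.OddCyclic.T1Module Cfsg.Agent.OddCyclic.FFBasic Cfsg.Agent.OddCyclic.FFRed
open Cfsg.Agent.OddCyclic.T1Defs (OddCyc)
open Cfsg.Agent.SignalizersComponents.Components
open Cfsg.Agent.OddCyclic.Zass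
open scoped Pointwise

/-- five vectors permuted by `H`, no one of which is the product of two others -/
structure Five {H : Type*} [Group H] {V : Type*} [CommGroup V] (ρ : H →* MulAut V) (Ω : Set V) : Prop where
  card : Ω.ncard = 5
  inv : ∀ a : H, ∀ v ∈ Ω, ρ a v ∈ Ω
  one : (1 : V) ∉ Ω
  mul : ∀ v ∈ Ω, ∀ w ∈ Ω, v ≠ w → v * w ∉ Ω

variable {H : Type*} [Group H] [Finite H] {V : Type*} [CommGroup V] [Finite V] {ρ : H →* MulAut V}
  {f l e : ℕ} {s h : H} {E D : Subgroup H} {F W : Subgroup V}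

theorem two_mul_lt : ∀ f : ℕ, 3 ≤ f → 2 * f < 2 ^ f := by
  intro f hf
  induction f, hf using Nat.le_induction with
  | base => norm_num
  | succ n hn ih => rw [pow_succ]; omega

/-- the Singer cycle lies in the component -/
theorem sing_mem (hc : OddCyc H) (d : Dat ρ f h D F W) {K : Subgroup H} (hKn : K.Normal) (hKp : ⁅K, K⁆ = K)
    (hcard : Nat.card K = (2 ^ f + 1) * 2 ^ f * (2 ^ f - 1)) : h ∈ K := by
  refine mem_of_primes hc hKn hKp fun r hr hrd => ?_
  have h1 : r ∣ 2 ^ f - 1 := hrd.trans (orderOf_dvd_of_pow_eq_one d.hq)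
  refine ⟨?_, ?_⟩
  · rintro rfl
    have h2 : 2 ∣ 2 ^ f := dvd_pow_self 2 (by have := d.f2; omega)
    have h3 : 1 ≤ 2 ^ f := Nat.one_le_two_pow
    omega
  · rw [hcard]
    exact h1.mul_left _

theorem orderOf_sing (d : Dat ρ f h D F W) : orderOf h = 2 ^ f - 1 := by
  apply Nat.dvd_antisymm (orderOf_dvd_of_pow_eq_one d.hq)
  obtain ⟨w, hw, hwF⟩ := d.exists_not_mem
  refine d.reg w hw hwF _ ?_
  rw [pow_orderOf_eq_one, map_one, MulAut.one_apply, mul_inv_cancel]
  exact one_mem _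

/-- **the component is `SL₂(2 ^ f)`** -/
theorem sl2_main (hc : OddCyc H) (hV : ∀ v : V, v * v = 1) (d : Dat ρ f h D F W)
    (c : Cfg ρ f l e s E) (hED : E ≤ D) (hEn : ∀ x ∈ E, h * x * h⁻¹ ∈ E) {K : Subgroup H} (hKn : K.Normal)
    (hKs : IsSimpleGroup K) (hKp : ⁅K, K⁆ = K) (hEK : E ≤ K) {F' : Type} [Field F'] [Fintype F'] [CharP F' 2]
    (hF' : Fintype.card F' = 2 ^ f) (g : Matrix.SpecialLinearGroup (Fin 2) F' ≃* K) {P : Sylow 2 K}
    (hP : (P : Subgroup K) = E.subgroupOf K) (irr : Uniq ρ K → CS ρ K = ⊥) :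
    f = 2 ∧ Nat.card V = 16 ∧ Nat.card F = 2 ∧ ∃ Ω : Set V, Five ρ Ω := by
  classical
  have h2f : Fact (Nat.Prime 2) := ⟨Nat.prime_two⟩
  have hf2 := c.f2
  have hz := (zi_sl2 (by omega : 0 < f) hF' g).zt
  have hhK := sing_mem hc d hKn hKp hz.card
  let σ : K →* MulAut V := ρ.comp K.subtype
  -- the Borel subgroup
  have hhn : (⟨h, hhK⟩ : K) ∈ normalizer (P : Set K) := by
    rw [← Zass.smul_eq_iff]
    apply Sylow.ext
    refine Subgroup.eq_of_le_of_card_ge ?_ ?_
    · intro x hx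
      have hx' : x ∈ (⟨h, hhK⟩ : K) • P := hx
      rw [Zass.mem_smul] at hx'
      have hx2 : (⟨h, hhK⟩ : K)⁻¹ * x * ⟨h, hhK⟩ ∈ (P : Subgroup K) := hx'
      rw [hP, Subgroup.mem_subgroupOf] at hx2 ⊢
      have h1 := hEn _ hx2
      have h3 : h * (((⟨h, hhK⟩ : K)⁻¹ * x * ⟨h, hhK⟩ : K) : H) * h⁻¹ = (x : H) := by
        show h * (h⁻¹ * (x : H) * h) * h⁻¹ = x
        group
      rwa [h3] at h1
    · show Nat.card P ≤ Nat.card ((⟨h, hhK⟩ : K) • P : Sylow 2 K)
      rw [hz.sylow, hz.sylow]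
  have hBF : ∀ k ∈ normalizer (P : Set K), ∀ x ∈ F, σ k x = x := by
    obtain ⟨B, hB⟩ : ∃ B, B = FFSz.EE σ F ⊓ normalizer (P : Set K) := ⟨_, rfl⟩
    have h1 : 2 ^ f ∣ Nat.card B := by
      have h3 : Nat.card (P : Subgroup K) = 2 ^ f := hz.sylow P
      rw [← h3]
      refine Subgroup.card_dvd_of_le ?_
      rw [hB]
      refine le_inf ?_ Subgroup.le_normalizer
      intro u hu x hx
      rw [hP] at hu
      exact d.DF _ (hED hu) x hx
    have h3 : 2 ^ f - 1 ∣ Nat.card B := by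
      have h4 : orderOf (⟨h, hhK⟩ : K) = 2 ^ f - 1 := by
        rw [← Subgroup.orderOf_coe]; exact orderOf_sing d
      rw [← h4]
      refine Subgroup.orderOf_dvd_natCard _ ?_
      rw [hB]
      exact ⟨fun x hx => d.hF x hx, hhn⟩
    have h4 : 2 ^ f * (2 ^ f - 1) ∣ Nat.card B := by
      refine Nat.Coprime.mul_dvd_of_dvd_of_dvd ?_ h1 h3
      have h5 : 1 ≤ 2 ^ f := Nat.one_le_two_pow
      have h6 := Nat.coprime_self_sub_right (m := 1) (n := 2 ^ f) h5
      exact h6.2 (Nat.coprime_one_right _)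
    have h5 : B = normalizer (P : Set K) := by
      refine Subgroup.eq_of_le_of_card_ge (by rw [hB]; exact inf_le_right) ?_
      rw [hz.card_normalizer]
      exact Nat.le_of_dvd Nat.card_pos h4
    intro k hk
    rw [← h5, hB] at hk
    exact hk.1
  -- uniqueness
  obtain ⟨a, haE, ha2, ha1⟩ : ∃ a ∈ E, a * a = 1 ∧ a ≠ 1 := by
    obtain ⟨a, ha, ha1⟩ := exists_ne_one (P.comapOfInjective g.toMonoidHom g.injective (by
      rw [MonoidHom.range_eq_top.2 g.surjective]; exact le_top))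
    have h3 := T1Sl2.sylow_elem _ a ha
    have h4 : g a ∈ P := ha
    refine ⟨(g a : K), ?_, ?_, ?_⟩
    · have h5 : g a ∈ (P : Subgroup K) := h4
      rw [hP] at h5
      exact h5
    · rw [← Subgroup.coe_mul, ← map_mul, h3, map_one, Subgroup.coe_one]
    · intro h5
      apply ha1
      have h6 : g a = 1 := Subtype.ext h5
      rw [← map_one g] at h6
      exact g.injective h6
  have hU : Uniq ρ K := by
    refine uniq_of hV (a := ⟨a, hEK haE⟩) (m := 2 ^ f) ?_ ?_
    · intro U _ _ hU τ hτ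
      have h4 : 4 ≤ Fintype.card F' := by
        rw [hF']
        calc 4 = 2 ^ 2 := by norm_num
          _ ≤ 2 ^ f := Nat.pow_le_pow_right (by norm_num) hf2
      have h5 := sl2_index h4 hU (τ.comp g.toMonoidHom) (by
        obtain ⟨k, v, hkv⟩ := hτ
        refine ⟨g.symm k, v, ?_⟩
        show τ (g (g.symm k)) v ≠ v
        rwa [MulEquiv.apply_symm_apply]) (a := g.symm ⟨a, hEK haE⟩) (by
        rw [← map_mul]
        have h6 : (⟨a, hEK haE⟩ : K) * ⟨a, hEK haE⟩ = 1 := Subtype.ext ha2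
        rw [h6, map_one]) (by
        intro h6
        rw [← map_one g.symm] at h6
        exact ha1 (congrArg Subtype.val (g.symm.injective h6)))
      rw [hF'] at h5
      have h6 : fx (τ.comp g.toMonoidHom) (g.symm ⟨a, hEK haE⟩) = fx τ ⟨a, hEK haE⟩ := by
        ext v
        show τ (g (g.symm ⟨a, hEK haE⟩)) v = v ↔ _
        rw [MulEquiv.apply_symm_apply]; rfl
      rwa [h6] at h5
    · refine lt_of_le_of_lt (c.index_le haE) ?_
      rw [← pow_add]
      exact Nat.pow_lt_pow_right (by norm_num) (by omega)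
  have hKfix := irr hU
  have hKfix' : CS σ ⊤ = ⊥ := by
    rw [eq_bot_iff, ← hKfix]
    intro v hv k hk
    exact hv ⟨k, hk⟩ (Subgroup.mem_top _)
  -- the equivariant map
  obtain ⟨x, hxF, hx1⟩ : ∃ x ∈ F, x ≠ 1 := by
    by_contra hall
    push Not at hall
    exact d.F_ne (by rw [eq_bot_iff]; exact fun a ha => Subgroup.mem_bot.2 (hall a ha))
  obtain ⟨ω, hω, hωP⟩ := exists_omega (σ := σ) (P := P) (x := x) (fun k hk => hBF k hk x hxF)
  have hx : ∃ k, σ k (ω P) ≠ ω P := by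
    by_contra hall
    push Not at hall
    apply hx1
    rw [← hωP]
    have h3 : ω P ∈ CS σ ⊤ := fun k _ => hall k
    rwa [hKfix', Subgroup.mem_bot] at h3
  have hCS : CS σ (P : Subgroup K) = CS ρ E := by
    ext v
    constructor
    · intro hv u hu
      exact hv ⟨u, hEK hu⟩ (by rw [hP]; exact hu)
    · intro hv u hu
      rw [hP] at hu
      exact hv u hu
  have hidx := index_omega hV hz hω hx
  rw [hCS] at hidx
  have hff : f = 2 := by
    have h3 := (Nat.pow_le_pow_iff_right (by norm_num : 1 < 2)).1 (hidx.trans c.cod)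
    by_contra hne
    have h4 := two_mul_lt f (by omega)
    omega
  subst hff
  refine ⟨rfl, ?_⟩
  obtain ⟨Q, -, hQP', -, -⟩ := hz.exists_three P
  have hQP : Q ≠ P := hQP'.symm
  have hft : Fintype (P : Subgroup K) := Fintype.ofFinite _
  have htop := frh_top hV hz hω hx hQP hKs hKfix' (by rw [hCS]; exact c.cod)
  have hcV : Nat.card V = 16 := by
    have h3 := card_frh P.isPGroup' hV (σ.comp (P : Subgroup K).subtype) (norm_ne hz hω hx hQP)
    rw [htop, Subgroup.card_top] at h3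
    have h4 : Nat.card (P : Subgroup K) = 2 ^ 2 := hz.sylow P
    rw [h3, h4]
    norm_num
  have hcC : Nat.card (CS ρ E) = 2 := by
    have h3 := (CS ρ E).card_mul_index
    have h4 : (CS ρ E).index = 8 := by
      have h5 := c.cod
      have h6 : 2 ^ (2 ^ 2 - 1) = 8 := by norm_num
      have h7 : 2 ^ (2 * 2 - 1) = 8 := by norm_num
      rw [h6] at hidx
      rw [h7] at h5
      omega
    rw [h4, hcV] at h3
    omega
  have hFC : F ≤ CS ρ E := fun v hv u hu => d.DF u (hED hu) v hv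
  refine ⟨hcV, ?_, ?_⟩
  · have h3 := Subgroup.card_dvd_of_le hFC
    rw [hcC] at h3
    rcases (Nat.dvd_prime Nat.prime_two).1 h3 with h4 | h4
    · exact absurd (Subgroup.card_eq_one.1 h4) d.F_ne
    · exact h4
  -- the five vectors
  have hinj := omega_inj hz hω (by
    obtain ⟨k, hk⟩ := hx
    exact ⟨k, P, hk⟩)
  have hone : ∀ R, ω R ≠ 1 := by
    intro R hR
    obtain ⟨k, hk⟩ := MulAction.exists_smul_eq K R P
    apply hx1
    rw [← hωP, ← hk, hω, hR, map_one]
  have hCP : ∀ v : V, (∀ u ∈ (P : Subgroup K), σ u v = v) → v ≠ 1 → v = ω P := by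
    intro v hv hv1
    have h3 : v ∈ CS ρ E := by
      rw [← hCS]
      exact hv
    have h4 : ω P ∈ CS ρ E := by
      rw [hωP]; exact hFC hxF
    by_contra hne
    have h5 : ({1, v, ω P} : Set V) ⊆ (CS ρ E : Set V) := by
      rintro z (rfl | rfl | rfl)
      · exact one_mem _
      · exact h3
      · exact h4
    have h6 := Set.ncard_le_ncard h5 (Set.toFinite _)
    have h7 : (CS ρ E : Set V).ncard = 2 := hcC
    rw [h7, Set.ncard_insert_of_notMem, Set.ncard_pair hne] at h6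
    · omega
    · rintro (h8 | h8)
      · exact hv1 h8.symm
      · exact hone P h8.symm
  have hCR : ∀ R : Sylow 2 K, ∀ v : V, (∀ u ∈ (R : Subgroup K), σ u v = v) → v ≠ 1 → v = ω R := by
    intro R v hv hv1
    obtain ⟨k, hk⟩ := MulAction.exists_smul_eq K R P
    have h3 := hCP (σ k v) (fun u hu => by
      rw [← hk] at hu
      have hu' : u ∈ k • R := hu
      rw [Zass.mem_smul] at hu'
      have h4 := hv _ hu'
      have h5 : σ u (σ k v) = σ k (σ (k⁻¹ * u * k) v) := by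
        rw [← MulAut.mul_apply, ← MulAut.mul_apply, ← map_mul, ← map_mul]
        congr 2
        group
      rw [h5, h4]) (fun h4 => hv1 ((map_eq_one_iff _ (σ k).injective).1 h4))
    rw [← hk, hω] at h3
    exact (σ k).injective h3
  have hfix : ∀ R : Sylow 2 K, ∀ u ∈ (R : Subgroup K), σ u (ω R) = ω R := by
    intro R u hu
    rw [← hω, Zass.smul_self hu]
  refine ⟨Set.range ω, ?_, ?_, ?_, ?_⟩
  · rw [← Set.image_univ, Set.ncard_image_of_injective _ hinj, Set.ncard_univ, hz.num]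
    norm_num
  · rintro b _ ⟨R, rfl⟩
    refine ⟨(MulAut.conjNormal b : MulAut K) • R, ?_⟩
    refine (hCR _ _ ?_ ?_).symm
    · intro u hu
      have hu' : u ∈ (MulAut.conjNormal b : MulAut K) • R := hu
      rw [mem_aut_smul] at hu'
      have h3 := hfix R _ hu'
      have h4 : (((MulAut.conjNormal b : MulAut K)⁻¹ u : K) : H) = b⁻¹ * u * b := by
        rw [← map_inv, MulAut.conjNormal_apply, inv_inv]
      have h5 : σ u (ρ b (ω R)) = ρ b (σ ((MulAut.conjNormal b : MulAut K)⁻¹ u) (ω R)) := by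
        show ρ (u : H) (ρ b (ω R)) = ρ b (ρ (((MulAut.conjNormal b : MulAut K)⁻¹ u : K) : H) (ω R))
        rw [h4, ← MulAut.mul_apply, ← MulAut.mul_apply, ← map_mul, ← map_mul]
        congr 2
        group
      rw [h5, h3]
    · intro h3
      exact hone R ((map_eq_one_iff _ (ρ b).injective).1 h3)
  · rintro ⟨R, hR⟩
    exact hone R hR
  · rintro _ ⟨R₁, rfl⟩ _ ⟨R₂, rfl⟩ hne ⟨R₃, h3⟩
    have h12 : R₁ ≠ R₂ := fun h => hne (by rw [h])
    have h13 : R₁ ≠ R₃ := by
      rintro rfl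
      exact hone R₂ (by
        have h4 : ω R₁ * 1 = ω R₁ * ω R₂ := by rw [mul_one]; exact h3
        exact (mul_left_cancel h4).symm)
    -- a fourth Sylow subgroup
    obtain ⟨R₄, h4⟩ : ∃ R₄, R₄ ∉ ({R₁, R₂, R₃} : Finset (Sylow 2 K)) := by
      have hfs : Fintype (Sylow 2 K) := Fintype.ofFinite _
      have h5 : ({R₁, R₂, R₃} : Finset (Sylow 2 K)).card < (Finset.univ : Finset (Sylow 2 K)).card := by
        refine lt_of_le_of_lt Finset.card_le_three ?_
        rw [Finset.card_univ, ← Nat.card_eq_fintype_card, hz.num]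
        norm_num
      obtain ⟨R₄, -, h6⟩ := Finset.exists_mem_notMem_of_card_lt_card h5
      exact ⟨R₄, h6⟩
    simp only [Finset.mem_insert, Finset.mem_singleton, not_or] at h4
    obtain ⟨k, hk⟩ := MulAction.exists_smul_eq K R₄ P
    have h5 : ∀ R, R ≠ R₄ → k • R ≠ P := fun R hR h6 => hR (smul_left_cancel k (h6.trans hk.symm))
    refine sum_ne hV hz hω hx hQP (R₁ := k • R₁) (R₂ := k • R₂) (R₃ := k • R₃) (h5 _ (Ne.symm h4.1))
      (h5 _ (Ne.symm h4.2.1)) (h5 _ (Ne.symm h4.2.2)) (fun h6 => h12 (smul_left_cancel k h6))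
      (fun h6 => h13 (smul_left_cancel k h6)) ?_
    rw [hω, hω, hω, ← map_mul, h3]

end Cfsg.Agent.OddCyclic.EmpF
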