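import Cfsg.Agent.OddCyclic.EmpF.MainOf
import Cfsg.Agent.OddCyclic.EmpF.Frame

/-!
# (Empty): piece [F]

`main` : the socket `hF` of `EmpNSEnd.false_of`.
-/

set_option autoImplicit false
set_option linter.unusedSectionVars false

namespace Cfsg.Agent.OddCyclic.EmpF.Main

open Subgroup Cfsg Cfsg.Agent.ZN Cfsg.Agent.ZN.ChoiceBase Cfsg.Agent.ZN.ChoiceSit
open Cfsg.Agent.MinSimple Cfsg.Agent.MinSimple.EmptyTI Cfsg.Agent.MinSimple.EmptySix
open Cfsg.Agent.MinSimple.EmptyE.Closed (LL)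
open Cfsg.Agent.OddCyclic.EmpFrame
open Cfsg.Agent.OddCyclic.EmpNSBase
open Cfsg.Agent.OddCyclic.EmpNSCrit Cfsg.Agent.OddCyclic.EmpNSPair Cfsg.Agent.OddCyclic.EmpNSRep
open Cfsg.Agent.OddCyclic.EmpNSDefs Cfsg.Agent.OddCyclic.EmpNSAct Cfsg.Agent.OddCyclic.EmpNSDir
open Cfsg.Agent.OddCyclic.EmpNSMain Cfsg.Agent.OddCyclic.EmpNSEnd
open Cfsg.Agent.OddCyclic.T1Module (CS mem_CS)

universe u

theorem main {G : Type u} [Group G] [Finite G] {S : Sylow 2 G} (nff : NFF (vv (S : Subgroup G)))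
    (F T P Θ : Subgroup G) (g : G) (H : Type u) (_ : Group H) (_ : Finite H) (M : Type u) (_ : CommGroup M)
    (_ : Finite M) (ρ : H →* MulAut M) (r : P →* H) (π : ww (S : Subgroup G) F T P →* M) (fp : FP S F T P)
    (R : Rp P (ww (S : Subgroup G) F T P) F ρ r π) (c : Crit S F T P Θ g)
    (hw : HW ρ (im r (centralizer (vv (S : Subgroup G) : Set G) ⊔ T)) (im r (LL (S : Subgroup G)))
        (im r (centralizer (F : Set G))) (im r Θ) (im r (jj (S : Subgroup G))) (imw π (vp (S : Subgroup G) F T)))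
    (K : Subgroup H) (F' : Type) (_ : Field F') (_ : Fintype F') (_ : CharP F' 2)
    (nat : NatCase ρ (im r (centralizer (vv (S : Subgroup G) : Set G) ⊔ T)) (im r (LL (S : Subgroup G)))
        (im r (centralizer (F : Set G))) (im r Θ) K F') (_ : (CS ρ K).index = Fintype.card F' ^ 2)
    (hδ : 2 * F.relIndex (vv (S : Subgroup G)) ≤ Fintype.card F' ^ 2) : False := by
  obtain ⟨e⟩ := nat.iso
  have hn := nat.simp.norm
  have noo : ∀ B : Subgroup H, B ≤ im r Θ → (∀ b ∈ B, b * b = 1) →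
      (∀ b ∈ B, ∀ b' ∈ B, ∀ w : M, ρ b' (ρ b w * w⁻¹) = ρ b w * w⁻¹) → Nat.card B ≤ (CS ρ B).index :=
    fun B hB hs _ => EmpE.Lin.card_le_index hw nat.simp nat.four e hB hs
  obtain ⟨x, y, pd⟩ := exists_pairData fp nff c R noo
  obtain ⟨A, N, a, d₁⟩ := pd.dir₁
  refine main_of nff fp R c hw nat fun natl => ?_
  exact Frame.main fp R c.Θ_le hw nat (fun h0 => d₁.B_ne (le_bot_iff.1 (h0 ▸ d₁.BΘ))) hδ natl.fpf natl.cent

end Cfsg.Agent.OddCyclic.EmpF.Main
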