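import Cfsg.Agent.OddCyclic.EmpF.Kill
import Cfsg.Agent.OddCyclic.EmpE.Natl
import Cfsg.Agent.OddCyclic.EmpNSEnd

/-!
# (Empty), natural `L₂(q)`: the assembly of [F]

* `FrameOut` : output of (5.1), (5.2);
* `main_of` : the socket `hF` of `EmpNSEnd.false_of` from `FrameOut`.
-/

set_option autoImplicit false
set_option linter.unusedSectionVars false

namespace Cfsg.Agent.OddCyclic.EmpF

open Subgroup Cfsg Cfsg.Agent.ZN Cfsg.Agent.ZN.ChoiceBase Cfsg.Agent.ZN.ChoiceSit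
open Cfsg.Agent.MinSimple Cfsg.Agent.MinSimple.EmptyTI Cfsg.Agent.MinSimple.EmptySix
open Cfsg.Agent.MinSimple.EmptyE.Closed (LL CC cl mem_cl cl_eq cl_le vv_comm vv_sq vv_mul_self vv_inv
  isPGroup_vv vv_le_jj vv_le jj_le_centralizer_vv conj_mem_vv cj_vv)
open Cfsg.Agent.OddCyclic.EmpFrame
open Cfsg.Agent.OddCyclic.EmpNSBase
open Cfsg.Agent.OddCyclic.EmpNSCrit Cfsg.Agent.OddCyclic.EmpNSPair Cfsg.Agent.OddCyclic.EmpNSRep
open Cfsg.Agent.OddCyclic.EmpNSDefs Cfsg.Agent.OddCyclic.EmpNSAct Cfsg.Agent.OddCyclic.EmpNSDir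
open Cfsg.Agent.OddCyclic.EmpNSMain Cfsg.Agent.OddCyclic.EmpNSEnd
open Cfsg.Agent.OddCyclic.T1Module (CS mem_CS)
open Cfsg.Agent.OddCyclic.FFBasic (fx)

universe u

variable {G : Type u} [Group G] [Finite G] {S : Sylow 2 G}

variable {F T P Θ : Subgroup G} {g : G} {H : Type u} [Group H] [Finite H] {M : Type u} [CommGroup M] [Finite M]
  {ρ : H →* MulAut M} {r : P →* H} {π : ww (S : Subgroup G) F T P →* M}

/-- the socket `hF` of `EmpNSEnd.false_of`, from (5.1), (5.2) -/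
theorem main_of (nff : NFF (vv (S : Subgroup G))) (fp : FP S F T P)
    (R : Rp P (ww (S : Subgroup G) F T P) F ρ r π) (c : Crit S F T P Θ g)
    (hw : HW ρ (im r (centralizer (vv (S : Subgroup G) : Set G) ⊔ T)) (im r (LL (S : Subgroup G)))
        (im r (centralizer (F : Set G))) (im r Θ) (im r (jj (S : Subgroup G))) (imw π (vp (S : Subgroup G) F T)))
    {K : Subgroup H} {F' : Type} [Field F'] [Fintype F'] [CharP F' 2]
    (nat : NatCase ρ (im r (centralizer (vv (S : Subgroup G) : Set G) ⊔ T)) (im r (LL (S : Subgroup G)))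
        (im r (centralizer (F : Set G))) (im r Θ) K F')
    (hFr : EmpE.Natl.Natl ρ K (Fintype.card F') → ∃ (D : Subgroup G) (f : ℕ) (x : G), 2 ^ f = Fintype.card F' ∧
      FDat (S : Subgroup G) F D (vv (S : Subgroup G) ⊓ ww (S : Subgroup G) F T P) f x) : False := by
  obtain ⟨e⟩ := nat.iso
  have hn := nat.simp.norm
  have noo : ∀ B : Subgroup H, B ≤ im r Θ → (∀ b ∈ B, b * b = 1) →
      (∀ b ∈ B, ∀ b' ∈ B, ∀ w : M, ρ b' (ρ b w * w⁻¹) = ρ b w * w⁻¹) → Nat.card B ≤ (CS ρ B).index :=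
    fun B hB hs _ => EmpE.Lin.card_le_index hw nat.simp nat.four e hB hs
  obtain ⟨x, y, pd⟩ := exists_pairData fp nff c R noo
  obtain ⟨A, N, a, d₁⟩ := pd.dir₁
  obtain ⟨D, f, t, hf, fd⟩ := hFr (EmpE.Natl.main hw nat.simp nat.four e d₁)
  obtain ⟨h2, h16, hF2, Ω, five⟩ := exists_five fp.ens fp.ks nff fp.F_ne fd
  subst h2
  have h4 : Fintype.card F' = 4 := by rw [← hf]; norm_num
  refine kill fp nff c R noo (K := K) ?_ ?_ h16 hF2 five
  · intro b hb hbb hb1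
    rw [← h4]
    exact EmpE.Lin.index_ge hw nat.four e hb hbb hb1
  · intro B hB hs
    have h5 := nat.le B hB hs
    rwa [h4] at h5

end Cfsg.Agent.OddCyclic.EmpF
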