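import Cfsg.Agent.OddCyclic.EmpF.Inner

/-!
# (Empty), natural `L₂(q)`: the component is `SL₂(2 ^ f)` or `PSL₂(7)`
-/

set_option autoImplicit false
set_option linter.unusedSectionVars false

namespace Cfsg.Agent.OddCyclic.EmpF

open Subgroup Cfsg Cfsg.Agent.OddCyclic.T1Module Cfsg.Agent.OddCyclic.FFBasic Cfsg.Agent.OddCyclic.FFRed
open Cfsg.Agent.OddCyclic.T1Defs (OddCyc)
open Cfsg.Agent.OddCyclic.PumpMain (KZero)
open Cfsg.Agent.SignalizersComponents.Components
open Cfsg.Agent.Lib.SL2Mat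

section mat

variable {H : Type*} [Group H] {L : Subgroup H} [L.Normal] {F : Type*} [Field F] [Finite F] (R : Cfsg.Agent.GH.L2Aut.Rep F L)

/-- an element of order 3 -/
def mA (F : Type*) [Field F] : Matrix.SpecialLinearGroup (Fin 2) F := mk 0 1 (-1) 1 (by ring)

/-- minus an element of order 3 -/
def mB (F : Type*) [Field F] : Matrix.SpecialLinearGroup (Fin 2) F := mk 1 (-3) 1 (-2) (by ring)

theorem mA_mul_mB : mA F * mB F = up (-2) := by
  refine ext_ent ?_ ?_ ?_ ?_
  · rw [ent_mul]; show (0 : F) * 1 + 1 * 1 = 1; ring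
  · rw [ent_mul]; show (0 : F) * (-3) + 1 * (-2) = -2; ring
  · rw [ent_mul]; show (-1 : F) * 1 + 1 * 1 = 0; ring
  · rw [ent_mul]; show (-1 : F) * (-3) + 1 * (-2) = 1; ring

include R in
theorem exists_prod [Finite H] (hp : (Nat.card F).Prime) (h7 : 7 ≤ Nat.card F) :
    ∃ z a b : H, z = a * b ∧ orderOf z = Nat.card F ∧ orderOf a = 3 ∧ orderOf b = 3 ∧ z ∈ L := by
  have h3 := FFPsl.three_ne hp h7
  refine ⟨(R.π (up (-2)) : L), (R.π (mA F) : L), (R.π (-(mB F)) : L), ?_, ?_, ?_, ?_, (R.π (up (-2))).2⟩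
  · rw [R.π_neg, ← Subgroup.coe_mul, ← map_mul, mA_mul_mB]
  · have hch := FFPsl.charP hp
    have hfact : Fact (Nat.card F).Prime := ⟨hp⟩
    have h1 := FFPsl.orderOf_u R hp
    rw [Subgroup.orderOf_coe] at h1 ⊢
    have h4 : up (-2 : F) = ((up 1) ^ 2)⁻¹ := by
      rw [eq_inv_iff_mul_eq_one, FFPsl.up_pow, up_mul]
      have : (-2 : F) + ((2 : ℕ) : F) = 0 := by push_cast; ring
      rw [this, up_zero]
    rw [h4, map_inv, orderOf_inv, map_pow, orderOf_pow, h1]
    have h5 : (Nat.card F).gcd 2 = 1 := by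
      rw [Nat.coprime_iff_gcd_eq_one.symm, Nat.coprime_primes hp Nat.prime_two]
      omega
    rw [h5, Nat.div_one]
  · apply FFPsl.orderOf_three R h3
    show (0 : F) + 1 = 1
    ring
  · apply FFPsl.orderOf_three R h3
    show (-1 : F) + -(-2) = 1
    ring

end mat

variable {H : Type*} [Group H] [Finite H] {V : Type*} [CommGroup V] [Finite V] {ρ : H →* MulAut V}
  {f l e : ℕ} {s : H} {E : Subgroup H}

namespace Cfg

/-- `PSL₂(p)`, `p ≥ 7` -/
theorem psl_case (hc : OddCyc H) (h2 : pCore 2 H = ⊥) (hV : ∀ v : V, v * v = 1) (hρ : Function.Injective ρ)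
    (c : Cfg ρ f l e s E) {K : Subgroup H} (hK : IsComponent K) (hE : ¬ E ≤ centralizer (K : Set H)) (hk : KZero K)
    {F : Type} [Field F] [Fintype F] (hp : (Fintype.card F).Prime) (h7 : 7 ≤ Fintype.card F)
    (g : K ≃* Matrix.ProjectiveSpecialLinearGroup (Fin 2) F) : Fintype.card F = 7 ∧ f = 2 := by
  obtain ⟨hyK, hEK⟩ := c.mem_comp hc h2 hV hρ hK hE hk
  have hpodd : Odd (Fintype.card F) := hp.odd_of_ne_two (by omega)
  have hKn : K.Normal := FFStruct.component_normal hc hK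
  let R := Cfsg.Agent.GH.L2Aut.Rep.ofEquiv (GH.L2Aut.two_ne_zero_of_odd hpodd) g
  have hyodd : Odd (orderOf (⟨s ^ l ^ e, hyK⟩ : K)) := by
    rw [← Subgroup.orderOf_coe, c.orderOf_y]
    exact c.pp.prime.odd_of_ne_two c.pp.odd
  have hyn : ∀ x ∈ E, s ^ l ^ e * x * (s ^ l ^ e)⁻¹ ∈ E := conj_pow_mem c.nm _
  have hE4 : Nat.card (E.subgroupOf K) ≤ 4 := by
    refine PslMat.card_le_four R ?_ hyodd ?_ ?_
    · exact c.pg.of_injective (Subgroup.subgroupOfEquivOfLe hEK).toMonoidHom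
        (Subgroup.subgroupOfEquivOfLe hEK).injective
    · intro x hx
      exact hyn x hx
    · obtain ⟨a, ha, hne⟩ := c.ne
      exact ⟨⟨a, hEK ha⟩, ha, fun h => hne (congrArg Subtype.val h)⟩
  have h7' : Nat.card (E.subgroupOf K) = Nat.card E := Nat.card_congr (Subgroup.subgroupOfEquivOfLe hEK).toEquiv
  rw [h7'] at hE4
  have hf2 := c.f2
  have hf : f = 2 := by
    have h3 := c.card_ge.trans hE4
    have : f ≤ 2 := (Nat.pow_le_pow_iff_right (by norm_num : 1 < 2)).1 (by simpa using h3)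
    omega
  refine ⟨?_, hf⟩
  have hl3 : l = 3 := by
    have h4 := c.pp.dvd
    rw [hf] at h4
    have h5 : l ∣ 3 := (dvd_pow_self l (Nat.succ_ne_zero e)).trans (by simpa using h4)
    exact (Nat.prime_dvd_prime_iff_eq c.pp.prime Nat.prime_three).1 h5
  have hp' : (Nat.card F).Prime := by rwa [Nat.card_eq_fintype_card]
  have h7'' : 7 ≤ Nat.card F := by rwa [Nat.card_eq_fintype_card]
  obtain ⟨z, a, b, hz, hzo, ha, hb, hzK⟩ := exists_prod (L := K) R hp' h7''
  have hall : ∀ x : H, orderOf x = 3 → (fx ρ x).index = 4 := by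
    intro x hx
    have h3 := FFPsl.index_eq_of_orderOf ρ hc Nat.prime_three (by norm_num) hx (by rw [← hl3]; exact c.orderOf_y)
    rw [h3, c.idx, hf]
    norm_num
  have hi : (fx ρ z).index ≤ 16 := by
    rw [hz]
    refine (FFPsl.index_mul_le ρ a b).trans ?_
    rw [hall a ha, hall b hb]
  have hz1 : ∃ v, ρ z v ≠ v := by
    by_contra hcon
    push Not at hcon
    have h3 : ρ z = 1 := by
      ext v
      exact hcon v
    have h4 : z = 1 := hρ (by rw [h3, map_one])
    rw [h4, orderOf_one] at hzo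
    omega
  rw [Nat.card_eq_fintype_card] at hzo
  obtain ⟨d, hd, h5, h6⟩ := prim hV hp (by omega) hzo hz1
  rw [h5] at hi
  have hd4 : d ≤ 4 := (Nat.pow_le_pow_iff_right (by norm_num : 1 < 2)).1 (by simpa using hi)
  have h15 : Fintype.card F ≤ 15 := by
    have h8 := Nat.le_of_dvd (by
      have : 2 ^ 1 ≤ 2 ^ d := Nat.pow_le_pow_right (by norm_num) hd
      omega) h6
    have : (2 : ℕ) ^ d ≤ 2 ^ 4 := Nat.pow_le_pow_right (by norm_num) hd4
    omega
  clear hi h5 hzo hpodd hp' h7'' hzK R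
  generalize Fintype.card F = n at *
  interval_cases d <;> interval_cases n <;> first | omega | (exfalso; revert hp; norm_num)

/-- **the component** -/
theorem cases (hc : OddCyc H) (h2 : pCore 2 H = ⊥) (hV : ∀ v : V, v * v = 1) (hρ : Function.Injective ρ)
    (c : Cfg ρ f l e s E) {K : Subgroup H} (hK : IsComponent K) (hE : ¬ E ≤ centralizer (K : Set H))
    (hk : KZero K) :
    (∃ (F : Type) (_ : Field F) (_ : Fintype F) (_ : CharP F 2), Fintype.card F = 2 ^ f ∧
      Nonempty (Matrix.SpecialLinearGroup (Fin 2) F ≃* K) ∧ ∃ P : Sylow 2 K, (P : Subgroup K) = E.subgroupOf K) ∨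
    (f = 2 ∧ ∃ (F : Type) (_ : Field F) (_ : Fintype F), Fintype.card F = 7 ∧
      Nonempty (K ≃* Matrix.ProjectiveSpecialLinearGroup (Fin 2) F)) := by
  have hk' := hk
  rcases hk' with ⟨F, _, _, hp, h5, ⟨g⟩⟩ | ⟨F, _, _, n, hn, hF, ⟨g⟩⟩ | hs | ⟨hJ, k, hk''⟩
  · by_cases h5' : Fintype.card F = 5
    · obtain ⟨F', _, _, _, hF', ⟨g'⟩⟩ := T1Socle.exists_four h5'
      left
      obtain ⟨hnf, P, hP⟩ := c.sl2_case hc h2 hV hρ hK hE hk (n := 2) le_rfl hF' (g.trans g').symm
      exact ⟨F', inferInstance, inferInstance, inferInstance, by rw [← hnf]; exact hF', ⟨(g.trans g').symm⟩, P, hP⟩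
    · right
      have h7 : 7 ≤ Fintype.card F := by
        by_contra hcon
        have h6 : Fintype.card F = 6 := by omega
        rw [h6] at hp
        revert hp
        norm_num
      obtain ⟨h8, hf⟩ := c.psl_case hc h2 hV hρ hK hE hk hp h7 g
      exact ⟨hf, F, inferInstance, inferInstance, h8, ⟨g⟩⟩
  · left
    have hch : CharP F 2 := by
      have hch := ringChar.charP F
      have h1 : ringChar F ∣ 2 ^ n := by
        rw [← hF, ← CharP.cast_eq_zero_iff F (ringChar F), Nat.cast_card_eq_zero]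
      have h2 : (ringChar F).Prime := CharP.char_is_prime F (ringChar F)
      have h3 : ringChar F = 2 := (Nat.prime_dvd_prime_iff_eq h2 Nat.prime_two).1 (h2.dvd_of_dvd_pow h1)
      rwa [h3] at hch
    obtain ⟨g'⟩ := WeakTI.PslTwo.nonempty_equiv (F := F)
    obtain ⟨hnf, P, hP⟩ := c.sl2_case hc h2 hV hρ hK hE hk (n := n) hn hF (g'.trans g.symm)
    exact ⟨F, inferInstance, inferInstance, inferInstance, by rw [← hnf]; exact hF, ⟨g'.trans g.symm⟩, P, hP⟩
  · exact (c.suzuki_false hc h2 hV hρ hK hE hs).elim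
  · exact (c.jone_false hc h2 hV hρ hK hE hJ hk'').elim

end Cfg

end Cfsg.Agent.OddCyclic.EmpF
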